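import Cfsg.Agent.Lib.LenEight.Conj
import Cfsg.Agent.Lib.E8Cent.Auto
import Cfsg.Agent.Lib.GW.Min

/-!
# Tools for simple groups of length at most seven

Automorphisms of an elementary abelian group of order eight, and some applications of Sylow's theorem to a
Sylow 2-subgroup and its normal subgroups.
-/

set_option autoImplicit false
set_option linter.style.haveILetI false
set_option linter.unusedSectionVars false

namespace Cfsg.Lib.LenSeven

open Subgroup
open scoped IsMulCommutative

universe u

variable {G : Type u} [Group G] [Finite G]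

/-- An automorphism of odd order commuting with an involutory automorphism of a group of order eight and
exponent two is trivial. -/
theorem eq_one_of_commute_involution {M : Type*} [CommGroup M] [Finite M] (h8 : Nat.card M = 8)
    (h2 : ∀ x : M, x * x = 1) {t h : MulAut M} (ht : t * t = 1) (ht1 : t ≠ 1) (hh : Odd (orderOf h))
    (hc : h * t = t * h) : h = 1 := by
  classical
  have hinv : ∀ x : M, x⁻¹ = x := fun x => inv_eq_of_mul_eq_one_right (h2 x)
  have htt : ∀ x : M, t (t x) = x := fun x => by rw [← MulAut.mul_apply, ht]; rfl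
  have hht : ∀ x : M, h (t x) = t (h x) := fun x => by rw [← MulAut.mul_apply, hc]; rfl
  let D : M →* M :=
    { toFun := fun x => t x * x
      map_one' := by simp
      map_mul' := fun x y => by rw [map_mul, mul_mul_mul_comm] }
  have hD : ∀ x, D x = t x * x := fun _ => rfl
  have hhD : ∀ x, h (D x) = D (h x) := fun x => by rw [hD, hD, map_mul, hht]
  have hle : D.range ≤ D.ker := by
    rintro _ ⟨x, rfl⟩
    rw [MonoidHom.mem_ker, hD, hD, map_mul, htt, mul_comm (t x) x, h2]
  have hker : ∀ x : M, x ∈ D.ker ↔ t x = x := fun x => by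
    rw [MonoidHom.mem_ker, hD, mul_eq_one_iff_eq_inv, hinv]
  have hmul : Nat.card D.range * Nat.card D.ker = 8 := by
    rw [← h8, card_eq_card_quotient_mul_card_subgroup D.ker,
      Nat.card_congr (QuotientGroup.quotientKerEquivRange D).toEquiv]
  have hne : D.range ≠ ⊥ := fun e => ht1 (MulEquiv.ext fun x => by
    have : D x ∈ D.range := ⟨x, rfl⟩
    rw [e, mem_bot] at this
    show t x = x
    exact (hker x).1 (MonoidHom.mem_ker.2 this))
  have hd8 : Nat.card D.range ∣ 8 := Dvd.intro _ hmul
  have hrk := Subgroup.card_dvd_of_le hle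
  have hr2 : Nat.card D.range = 2 ∧ Nat.card D.ker = 4 := by
    have h1 : Nat.card D.range ≠ 1 := fun e => hne (card_eq_one.1 e)
    have hle8 := Nat.le_of_dvd (by norm_num) hd8
    interval_cases hn : Nat.card D.range <;> omega
  obtain ⟨e, he, he'⟩ := D.range.bot_or_exists_ne_one.resolve_left hne
  have heR : ∀ y ∈ D.range, y = 1 ∨ y = e := fun y hy => by
    by_contra hcon
    push Not at hcon
    haveI : Fintype D.range := Fintype.ofFinite _
    have h3 : ({1, ⟨e, he⟩, ⟨y, hy⟩} : Finset D.range).card = 3 := by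
      rw [Finset.card_insert_of_notMem, Finset.card_insert_of_notMem, Finset.card_singleton]
      · simpa [Subtype.ext_iff] using fun e1 : e = y => hcon.2 e1.symm
      · simp only [Finset.mem_insert, Finset.mem_singleton, not_or]
        exact ⟨fun e1 => he' (congrArg Subtype.val e1).symm, fun e1 => hcon.1 (congrArg Subtype.val e1).symm⟩
    have := Finset.card_le_univ ({1, ⟨e, he⟩, ⟨y, hy⟩} : Finset D.range)
    rw [h3, ← Nat.card_eq_fintype_card, hr2.1] at this
    omega
  have hhe : h e = e := by
    obtain ⟨x, hx⟩ := he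
    have : h e ∈ D.range := ⟨h x, by rw [← hhD, hx]⟩
    exact (heR _ this).resolve_left fun e1 => he' (by simpa using e1)
  have heK : e ∈ D.ker := hle he
  have hhK : ∀ x ∈ D.ker, h x ∈ D.ker := fun x hx => by
    rw [MonoidHom.mem_ker, ← hhD, MonoidHom.mem_ker.1 hx, map_one]
  -- on the kernel `h` moves by `⟨e⟩`, on the whole group by the kernel
  have hE : ∀ x ∈ D.ker, h x * x ∈ D.range := by
    intro x hx
    by_contra hcon
    haveI : Fintype D.ker := Fintype.ofFinite _
    have hx1 : x ≠ 1 := fun e1 => hcon (by rw [e1]; simp)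
    have hxe : x ≠ e := fun e1 => hcon (by rw [e1, hhe, h2]; exact one_mem _)
    have hy1 : h x ≠ 1 := fun e1 => hx1 (by simpa using e1)
    have hye : h x ≠ e := fun e1 => hxe (h.injective (by rw [e1, hhe]))
    have hyx : h x ≠ x := fun e1 => hcon (by rw [e1, h2]; exact one_mem _)
    have hyxe : h x ≠ x * e := fun e1 => hcon (by rw [e1, mul_right_comm, h2, one_mul]; exact he)
    have hxe1 : x * e ≠ 1 := fun e1 => hxe (by rw [eq_inv_of_mul_eq_one_left e1, hinv])
    have hxex : x * e ≠ x := fun e1 => he' (by simpa using e1)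
    have hxee : x * e ≠ e := fun e1 => hx1 (by simpa using e1)
    have h5 : ({1, ⟨e, heK⟩, ⟨x, hx⟩, ⟨x * e, mul_mem hx heK⟩, ⟨h x, hhK x hx⟩} : Finset D.ker).card = 5 := by
      rw [Finset.card_insert_of_notMem, Finset.card_insert_of_notMem, Finset.card_insert_of_notMem,
        Finset.card_insert_of_notMem, Finset.card_singleton] <;>
        simp only [Finset.mem_insert, Finset.mem_singleton, not_or, Subtype.ext_iff, OneMemClass.coe_one]
      · exact fun e1 => hyxe e1.symm
      · exact ⟨fun e1 => hxex e1.symm, fun e1 => hyx e1.symm⟩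
      · exact ⟨fun e1 => hxe e1.symm, fun e1 => hxee e1.symm, fun e1 => hye e1.symm⟩
      · exact ⟨fun e1 => he' e1.symm, fun e1 => hx1 e1.symm, fun e1 => hxe1 e1.symm, fun e1 => hy1 e1.symm⟩
    have := Finset.card_le_univ
      ({1, ⟨e, heK⟩, ⟨x, hx⟩, ⟨x * e, mul_mem hx heK⟩, ⟨h x, hhK x hx⟩} : Finset D.ker)
    rw [h5, ← Nat.card_eq_fintype_card, hr2.2] at this
    omega
  have hK : ∀ x : M, h x * x ∈ D.ker := fun x => by
    have hx : D x ∈ D.range := ⟨x, rfl⟩
    rw [MonoidHom.mem_ker, map_mul, ← hhD]
    rcases heR _ hx with e1 | e1 <;> rw [e1]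
    · simp
    · rw [hhe, h2]
  have hfixR : ∀ y ∈ D.range, h y = y := fun y hy => by
    rcases heR y hy with rfl | rfl
    exacts [map_one h, hhe]
  have hsq : ∀ x ∈ D.ker, h (h x) = x := fun x hx => by
    have h1 := hfixR _ (hE x hx)
    rw [map_mul] at h1
    have : h (h x) * h x * h x = h x * x * h x := by rw [h1]
    rwa [mul_assoc, h2, mul_one, mul_comm (h x) x, mul_assoc, h2, mul_one] at this
  have h4 : h ^ 4 = 1 := MulEquiv.ext fun x => by
    have hu := hK x
    have hv : h (h x * x) * (h x * x) ∈ D.ker := mul_mem (hhK _ hu) hu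
    have h2x : h (h x) = h (h x * x) * (h x * x) * x := by
      rw [map_mul, mul_assoc (h (h x) * h x), mul_assoc (h x), h2, mul_one, mul_assoc, h2, mul_one]
    have h4x : h (h (h (h x))) = x := by
      conv_lhs => rw [h2x]
      rw [map_mul, map_mul, hsq _ hv, h2x, ← mul_assoc, h2, one_mul]
    simpa [pow_succ, MulAut.mul_apply] using h4x
  have h14 : orderOf h ∣ 2 ^ 2 := orderOf_dvd_of_pow_eq_one h4
  exact orderOf_eq_one_iff.1 (Nat.eq_one_of_dvd_coprimes ((Nat.coprime_two_right.2 hh).pow_right 2) dvd_rfl h14)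

/-- In a group of order `4 m`, `m` odd, acting faithfully on an elementary abelian group of order eight, the
Sylow 2-subgroup is normal. -/
theorem normal_of_four_mul {M : Subgroup G} (hM : IsElementaryAbelian 2 M) (h8 : Nat.card M = 8)
    (W : Subgroup (MulAut M)) {m : ℕ} (hm : Odd m) (hW : Nat.card W = 4 * m) (V : Sylow 2 W) :
    (V : Subgroup W).Normal := by
  haveI := hM.1
  letI : CommGroup M := { (inferInstance : Group M) with mul_comm := fun a b => hM.1.1.comm a b }
  haveI : Fact (Nat.Prime 2) := ⟨Nat.prime_two⟩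
  haveI : Finite (MulAut M) := Finite.of_injective (fun a : MulAut M => (a : M → M)) DFunLike.coe_injective
  have h168 : Nat.card W ∣ 168 := (card_subgroup_dvd_card W).trans (E8Cent.card_mulAut_eight hM h8)
  have hm21 : m ∣ 21 := Nat.dvd_of_mul_dvd_mul_left (by norm_num : 0 < 4)
    (by
      rw [hW] at h168
      have h8' : Nat.Coprime m 8 := (Nat.coprime_two_right.2 hm).pow_right 3
      exact Nat.mul_dvd_mul_left 4 (h8'.dvd_of_dvd_mul_left ((dvd_mul_left m 4).trans h168)))
  have hV : Nat.card (V : Subgroup W) = 4 := by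
    rw [V.card_eq_multiplicity, hW, Nat.factorization_mul (by norm_num) (by rintro rfl; simp at hm),
      show (4 : ℕ) = 2 ^ 2 by norm_num, Nat.Prime.factorization_pow Nat.prime_two, Finsupp.add_apply,
      Finsupp.single_eq_same, Nat.factorization_eq_zero_of_not_dvd (Nat.two_dvd_ne_zero.2 (Nat.odd_iff.1 hm))]
  -- a normal subgroup of order `3` or `7` is impossible
  have key : ∀ (R : Subgroup W) (p : ℕ), R.Normal → Nat.card R = p → p = 3 ∨ p = 7 → False := by
    intro R p hR hc hp
    haveI := hR
    haveI : Fact p.Prime := ⟨by rcases hp with rfl | rfl <;> norm_num⟩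
    haveI := isCyclic_of_prime_card hc
    let φ : (V : Subgroup W) →* MulAut R := (MulAut.conjNormal).comp (V : Subgroup W).subtype
    have hφ : φ.ker ≠ ⊥ := fun e => by
      have h1 := Subgroup.card_dvd_of_injective φ ((MonoidHom.ker_eq_bot_iff _).1 e)
      rw [hV, IsCyclic.card_mulAut, hc] at h1
      rcases hp with rfl | rfl <;> rw [Nat.totient_prime (by norm_num)] at h1 <;> norm_num at h1
    obtain ⟨v, hv, hv1⟩ := φ.ker.bot_or_exists_ne_one.resolve_left hφ
    obtain ⟨t, ht, ht1, htt⟩ : ∃ t ∈ φ.ker, t ≠ 1 ∧ t * t = 1 := by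
      by_cases h : v * v = 1
      · exact ⟨v, hv, hv1, h⟩
      · refine ⟨v * v, mul_mem hv hv, h, ?_⟩
        have : v ^ 4 = 1 := hV ▸ pow_card_eq_one'
        rw [← this, pow_succ, pow_succ, pow_two, mul_assoc, mul_assoc, mul_assoc]
    have hR1 : R ≠ ⊥ := fun e => by rw [e, card_bot] at hc; omega
    obtain ⟨h, hh, hh1⟩ := R.bot_or_exists_ne_one.resolve_left hR1
    have hcomm := congrArg (fun a : MulAut R => ((a ⟨h, hh⟩ : R) : W)) ht
    simp only [φ, MonoidHom.comp_apply, coe_subtype, MulAut.conjNormal_apply, MulAut.one_apply] at hcomm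
    refine hh1 (Subtype.ext (eq_one_of_commute_involution h8
      (fun x => Subtype.ext (by
        have := hM.2 x x.2
        rw [pow_two] at this
        exact this))
      (t := ((t : W) : MulAut M)) (h := (h : MulAut M)) ?_ ?_ ?_ ?_))
    · exact congrArg (fun a : (V : Subgroup W) => ((a : W) : MulAut M)) htt
    · exact fun e => ht1 (Subtype.ext (Subtype.ext e))
    · rw [orderOf_coe]
      have : orderOf (⟨h, hh⟩ : R) ∣ p := hc ▸ orderOf_dvd_natCard _
      rw [orderOf_mk] at this
      have hpo : Odd p := by rcases hp with rfl | rfl <;> decide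
      exact hpo.of_dvd_nat this
    · have := congrArg (fun a : W => (a : MulAut M)) (mul_inv_eq_iff_eq_mul.1 hcomm)
      exact this.symm
  rcases eq_or_ne m 1 with rfl | hm1
  · have htop : (V : Subgroup W) = ⊤ := eq_top_of_card_eq _ (by rw [hV, hW, mul_one])
    rw [htop]
    infer_instance
  by_cases h7 : 7 ∣ m
  · haveI : Fact (Nat.Prime 7) := ⟨by norm_num⟩
    exfalso
    obtain ⟨R⟩ : Nonempty (Sylow 7 W) := inferInstance
    have hmem : m ∈ Nat.divisors 21 := Nat.mem_divisors.2 ⟨hm21, by norm_num⟩
    rw [show Nat.divisors 21 = {1, 3, 7, 21} by decide] at hmem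
    simp only [Finset.mem_insert, Finset.mem_singleton] at hmem
    have hR : Nat.card (R : Subgroup W) = 7 := by
      rw [R.card_eq_multiplicity, hW]
      have : (4 * m).factorization 7 = 1 := by
        rcases hmem with rfl | rfl | rfl | rfl
        · omega
        · omega
        · rw [show 4 * 7 = 7 ^ 1 * 4 by norm_num, Nat.factorization_mul (by norm_num) (by norm_num),
            Nat.Prime.factorization_pow (by norm_num), Finsupp.add_apply, Finsupp.single_eq_same,
            Nat.factorization_eq_zero_of_not_dvd (by norm_num)]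
        · rw [show 4 * 21 = 7 ^ 1 * 12 by norm_num, Nat.factorization_mul (by norm_num) (by norm_num),
            Nat.Prime.factorization_pow (by norm_num), Finsupp.add_apply, Finsupp.single_eq_same,
            Nat.factorization_eq_zero_of_not_dvd (by norm_num)]
      rw [this, pow_one]
    refine key R 7 ?_ hR (Or.inr rfl)
    have hi : (R : Subgroup W).index * 7 = 4 * m := by
      have := index_mul_card (R : Subgroup W)
      rwa [hR, hW] at this
    have h1 := card_sylow_modEq_one 7 W
    have h2 := R.card_dvd_index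
    have hn : Nat.card (Sylow 7 W) = 1 := by
      have hle := Nat.le_of_dvd (by rcases hmem with rfl | rfl | rfl | rfl <;> omega) h2
      have hidx : (R : Subgroup W).index ≤ 12 := by rcases hmem with rfl | rfl | rfl | rfl <;> omega
      have h12 : Nat.card (Sylow 7 W) ≤ 12 := hle.trans hidx
      unfold Nat.ModEq at h1
      interval_cases hn : Nat.card (Sylow 7 W) <;> first | rfl | omega
    haveI : Subsingleton (Sylow 7 W) := (Nat.card_eq_one_iff_unique.1 hn).1
    exact Sylow.normal_of_subsingleton R
  · have hm3 : m = 3 := by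
      have hmem : m ∈ Nat.divisors 21 := Nat.mem_divisors.2 ⟨hm21, by norm_num⟩
      rw [show Nat.divisors 21 = {1, 3, 7, 21} by decide] at hmem
      simp only [Finset.mem_insert, Finset.mem_singleton] at hmem
      omega
    subst hm3
    by_contra hn
    have hi : (normalizer ((V : Subgroup W) : Set W)).index ∣ 3 := by
      refine (index_dvd_of_le le_normalizer).trans ?_
      have := index_mul_card (V : Subgroup W)
      rw [hV, hW] at this
      exact dvd_of_eq (by omega)
    rcases (Nat.dvd_prime Nat.prime_three).1 hi with h1 | h1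
    · exact hn (normalizer_eq_top_iff.1 (index_eq_one.1 h1))
    · have hN : normalizer ((V : Subgroup W) : Set W) = (V : Subgroup W) := by
        refine (eq_of_le_of_card_ge le_normalizer ?_).symm
        have := index_mul_card (normalizer ((V : Subgroup W) : Set W))
        rw [h1, hW] at this
        omega
      have habV : IsMulCommutative (V : Subgroup W) :=
        IsPGroup.isMulCommutative_of_card_eq_prime_sq (p := 2) (by rw [hV]; norm_num)
      have hle : normalizer ((V : Subgroup W) : Set W) ≤ centralizer ((V : Subgroup W) : Set W) :=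
        hN.le.trans (le_centralizer_iff_isMulCommutative.2 habV)
      have hcomp := MonoidHom.ker_transferSylow_isComplement' V hle
      refine key (MonoidHom.transferSylow V hle).ker 3 inferInstance ?_ (Or.inl rfl)
      have := hcomp.card_mul
      rw [hV, hW] at this
      omega

/-- A nonabelian simple group is generated by its elements of odd order. -/
theorem pResidual_eq_top [IsSimpleGroup G] (hna : ¬ IsMulCommutative G) : Cfsg.pResidual 2 G = ⊤ := by
  haveI : Fact (Nat.Prime 2) := ⟨Nat.prime_two⟩
  refine (IsSimpleGroup.eq_bot_or_eq_top_of_normal (Cfsg.pResidual 2 G) inferInstance).resolve_left fun h => ?_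
  have hp : IsPGroup 2 (G ⧸ Cfsg.pResidual 2 G) := Cfsg.Lib.Fusion.isPGroup_quotient_pResidual
  haveI := hp.isNilpotent
  refine LenEight.not_solvable_simple hna
    (solvable_of_solvable_injective (f := QuotientGroup.mk' (Cfsg.pResidual 2 G)) ?_)
  rw [← MonoidHom.ker_eq_bot_iff, QuotientGroup.ker_mk', h]

variable [Fact (Nat.Prime 2)]

/-- Two points fixed by the Sylow subgroup and interchanged by an element of its normalizer are equal. -/
theorem eq_of_swap {α : Type*} (act : G → α → α) (hone : ∀ a, act 1 a = a)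
    (hmul : ∀ g h a, act (g * h) a = act g (act h a)) (S : Sylow 2 G) {n : G}
    (hn : n ∈ normalizer ((S : Subgroup G) : Set G)) {a b : α} (hS : ∀ s ∈ (S : Subgroup G), act s a = a)
    (hab : act n a = b) (hba : act n b = a) : a = b := by
  have h2 : act (n ^ 2) a = a := by rw [pow_two, hmul, hab, hba]
  have heven : ∀ k, act (n ^ (2 * k)) a = a := by
    intro k
    induction k with
    | zero => rw [Nat.mul_zero, pow_zero, hone]
    | succ k ih => rw [Nat.mul_succ, pow_add, hmul, h2, ih]
  obtain ⟨i, j, hj, hn'⟩ := Nat.exists_eq_two_pow_mul_odd (orderOf_pos n).ne'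
  obtain ⟨k, rfl⟩ := hj
  have hmem : n ^ (2 * k + 1) ∈ (S : Subgroup G) := by
    have hp : IsPGroup 2 (zpowers (n ^ (2 * k + 1))) :=
      IsPGroup.of_card (n := i) (by
        rw [Nat.card_zpowers, orderOf_pow' n (by omega), hn', Nat.gcd_mul_left_left,
          Nat.mul_div_cancel _ (by omega)])
    have h1 : zpowers (n ^ (2 * k + 1)) ⊔ (S : Subgroup G) ≤ (S : Subgroup G) :=
      (S.3 (hp.to_sup_of_normal_right' S.2 (zpowers_le.2 (pow_mem hn _))) le_sup_right).le
    exact h1 (mem_sup_left (mem_zpowers _))
  have h3 := hS _ hmem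
  rw [pow_succ', hmul, heven, hab] at h3
  exact h3.symm

/-- Conjugate normal subgroups of a Sylow subgroup are conjugate by an element of its normalizer. -/
theorem exists_normalizer_conj (S : Sylow 2 G) {A B : Subgroup G}
    (hA : (S : Subgroup G) ≤ normalizer (A : Set G)) (hB : (S : Subgroup G) ≤ normalizer (B : Set G))
    {g : G} (hg : A.map (MulAut.conj g).toMonoidHom = B) :
    ∃ n ∈ normalizer ((S : Subgroup G) : Set G), A.map (MulAut.conj n).toMonoidHom = B := by
  have hmax : ∀ R : Subgroup G, IsPGroup 2 R → R ≤ normalizer (B : Set G) →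
      Nat.card R ≤ Nat.card (S : Subgroup G) := fun R hR _ => by
    obtain ⟨T, hT⟩ := hR.exists_le_sylow
    exact (card_le_of_le hT).trans (le_of_eq (Nat.card_congr (T.equiv S).toEquiv))
  obtain ⟨c, hc, hcx⟩ := LenEight.exists_conj_le (C := normalizer (B : Set G)) S.2 hB
    (Q := (S : Subgroup G).map (MulAut.conj g).toMonoidHom) (S.2.map _) (by
      rintro _ ⟨s, hs, rfl⟩
      rw [← hg]
      exact map_conj_mem_normalizer (hA hs)) hmax
  have hle : (S : Subgroup G).map (MulAut.conj (c * g)).toMonoidHom ≤ (S : Subgroup G) := by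
    rintro _ ⟨s, hs, rfl⟩
    have := hcx _ ⟨s, hs, rfl⟩
    simpa [mul_assoc] using this
  have heq := eq_of_le_of_card_ge hle
    (le_of_eq (card_map_of_injective (MulAut.conj (c * g)).injective).symm)
  refine ⟨c * g, ?_, ?_⟩
  · rw [mem_normalizer_iff]
    intro y
    constructor
    · intro hy
      exact hle ⟨y, hy, by simp [mul_assoc]⟩
    · intro hy
      obtain ⟨s, hs, he⟩ := heq.ge hy
      have he' : s = y := (MulAut.conj (c * g)).injective he
      exact he' ▸ hs
  · ext y
    constructor
    · rintro ⟨a, ha, rfl⟩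
      have : g * a * g⁻¹ ∈ B := hg ▸ ⟨a, ha, by simp⟩
      simpa [mul_assoc] using (mem_normalizer_iff.1 hc _).1 this
    · intro hy
      have : c⁻¹ * y * c ∈ B := (mem_normalizer_iff.1 hc _).2 (by simpa [mul_assoc] using hy)
      rw [← hg] at this
      obtain ⟨a, ha, he⟩ := this
      refine ⟨a, ha, ?_⟩
      have he' : g * a * g⁻¹ = c⁻¹ * y * c := by simpa using he
      show c * g * a * (c * g)⁻¹ = y
      rw [show c * g * a * (c * g)⁻¹ = c * (g * a * g⁻¹) * c⁻¹ by group, he']
      group
where
  map_conj_mem_normalizer {A : Subgroup G} {s g : G} (hs : s ∈ normalizer (A : Set G)) :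
      (MulAut.conj g).toMonoidHom s ∈ normalizer (A.map (MulAut.conj g).toMonoidHom : Set G) := by
    rw [mem_normalizer_iff] at hs ⊢
    intro z
    simp only [MulEquiv.coe_toMonoidHom, MulAut.conj_apply, mem_map]
    constructor
    · rintro ⟨a, ha, rfl⟩
      exact ⟨s * a * s⁻¹, (hs a).1 ha, by group⟩
    · rintro ⟨a, ha, he⟩
      refine ⟨s⁻¹ * a * s, (hs _).2 (by convert ha using 1; group), ?_⟩
      calc g * (s⁻¹ * a * s) * g⁻¹ = g * s⁻¹ * g⁻¹ * (g * a * g⁻¹) * (g * s * g⁻¹) := by group
        _ = z := by rw [he]; group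

/-- A conjugate of an element of the centre of `S` is conjugate to it by an element carrying its centralizer
in `S` into `S`. -/
theorem exists_conj_central (S : Sylow 2 G) {x y : G}
    (hyc : ∀ s ∈ (S : Subgroup G), s * y = y * s) {g : G} (hg : g * x * g⁻¹ = y) :
    ∃ g' : G, g' * x * g'⁻¹ = y ∧
      ∀ s ∈ (S : Subgroup G), s * x = x * s → g' * s * g'⁻¹ ∈ (S : Subgroup G) := by
  obtain ⟨c, hc, hcx⟩ := LenEight.exists_conj_le (C := centralizer ({y} : Set G)) S.2
    (LenEight.le_cent_iff.2 hyc)
    (Q := ((S : Subgroup G) ⊓ centralizer ({x} : Set G)).map (MulAut.conj g).toMonoidHom)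
    ((S.2.to_le inf_le_left).map _) (by
      rintro _ ⟨s, hs, rfl⟩
      rw [← hg]
      simpa using LenEight.conj_mem_cent (g := g) hs.2)
    fun R hR _ => by
      obtain ⟨T, hT⟩ := hR.exists_le_sylow
      exact (card_le_of_le hT).trans (le_of_eq (Nat.card_congr (T.equiv S).toEquiv))
  refine ⟨c * g, ?_, fun s hs hsx => ?_⟩
  · rw [show c * g * x * (c * g)⁻¹ = c * (g * x * g⁻¹) * c⁻¹ by group, hg, LenEight.mem_cent.1 hc, mul_assoc,
      mul_inv_cancel, mul_one]
  · have := hcx _ ⟨s, ⟨hs, LenEight.mem_cent.2 hsx⟩, rfl⟩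
    rw [show c * g * s * (c * g)⁻¹ = c * (g * s * g⁻¹) * c⁻¹ by group]
    simpa using this

end Cfsg.Lib.LenSeven
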