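import Mathlib

/-!
# Arithmetic of the order equations
-/

set_option autoImplicit false

namespace Cfsg.Lib.LenSeven

/-- The quasi-dihedral equations force `q ^ 2 ∣ g` or `s ^ 2 ∣ g`. -/
theorem arith_qd {q s : ℕ} {g ε X Y : ℤ} (hq : q.Prime) (h7 : 7 < q) (hs : s.Prime) (hε : ε = 1 ∨ ε = -1)
    (hqs : (q : ℤ) - ε = 4 * s) (hsodd : Odd s) (hX : X ≠ 0) (hX1 : X + 1 ≠ 0)
    (hY : Y * (X + (q : ℤ) ^ 2) = -(X * (X + 1))) (h4 : (4 : ℤ) ∣ X - ε * q)
    (hg : g * (X - ε * q) ^ 2 = 2 * (q : ℤ) ^ 2 * ((q : ℤ) - ε) ^ 3 * ((q : ℤ) + ε) ^ 2 * (X * (X + 1)))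
    (h16 : (16 : ℤ) ∣ g) (h32 : ¬ (32 : ℤ) ∣ g) (hq2 : ¬ ((q : ℤ) ^ 2) ∣ g) (hs2 : ¬ ((s : ℤ) ^ 2) ∣ g) :
    False := by
  have hqZ : Prime (q : ℤ) := Nat.prime_iff_prime_int.1 hq
  have hsZ : Prime (s : ℤ) := Nat.prime_iff_prime_int.1 hs
  have hε2 : ε ^ 2 = 1 := by rcases hε with h | h <;> rw [h] <;> norm_num
  have hq0 : (q : ℤ) ≠ 0 := by exact_mod_cast hq.ne_zero
  -- `q ∣ X`
  obtain ⟨x, rfl⟩ : (q : ℤ) ∣ X := by
    by_contra hnd
    refine hq2 ((hqZ.pow_dvd_of_dvd_mul_right 2 (a := g) (b := (X - ε * q) ^ 2) ?_ ?_))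
    · intro h
      have := hqZ.dvd_of_dvd_pow h
      exact hnd ((dvd_sub_left (dvd_mul_left _ _)).1 this)
    · rw [hg]
      exact Dvd.dvd.mul_right (Dvd.dvd.mul_right (Dvd.dvd.mul_right (dvd_mul_left _ _) _) _) _
  have hg' : g * (x - ε) ^ 2 = 2 * (q : ℤ) * ((q : ℤ) - ε) ^ 3 * ((q : ℤ) + ε) ^ 2 * (x * (q * x + 1)) := by
    apply mul_left_cancel₀ (pow_ne_zero 2 hq0)
    linear_combination hg
  have hx0 : x ≠ 0 := fun h => hX (by rw [h, mul_zero])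
  have hqne : ∀ t : ℤ, (q : ℤ) ∣ ε * t → (q : ℤ) ∣ t := by
    intro t h
    have := h.mul_left ε
    rwa [← mul_assoc, ← pow_two, hε2, one_mul] at this
  have hqx : ¬ (q : ℤ) ∣ x := by
    intro hd
    refine hq2 (hqZ.pow_dvd_of_dvd_mul_right 2 (a := g) (b := (x - ε) ^ 2) (fun h => ?_) ?_)
    · have h1 := (dvd_sub_right hd).1 (hqZ.dvd_of_dvd_pow h)
      exact hqZ.not_dvd_one (hqne 1 (by rwa [mul_one]))
    · rw [hg', pow_two]
      obtain ⟨w, rfl⟩ := hd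
      exact ⟨2 * ((q : ℤ) - ε) ^ 3 * ((q : ℤ) + ε) ^ 2 * (w * (q * (q * w) + 1)), by ring⟩
  -- `k = x + q`
  have hY' : Y * (x + q) = -(x * (q * x + 1)) := by
    apply mul_left_cancel₀ hq0
    linear_combination hY
  have hk0 : x + q ≠ 0 := fun h => by
    have : x * (q * x + 1) = 0 := by linear_combination (hY' - Y * h)
    rcases mul_eq_zero.1 this with h1 | h1
    · exact hx0 h1
    · exact hX1 h1
  have hkdvd : x + q ∣ (q : ℤ) ^ 2 - 1 := by
    have hcop : IsCoprime (x + q) x := by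
      have h : IsCoprime (q : ℤ) x := hqZ.coprime_iff_not_dvd.2 hqx
      have := h.add_mul_right_left 1
      rwa [one_mul, add_comm] at this
    have h1 : x + q ∣ q * x + 1 := hcop.dvd_of_dvd_mul_left ⟨-Y, by linear_combination hY'⟩
    have h2 := dvd_sub (dvd_mul_right (x + q) (q : ℤ)) h1
    rwa [show (x + q) * (q : ℤ) - (q * x + 1) = (q : ℤ) ^ 2 - 1 by ring] at h2
  -- two-parts
  have h4x : (4 : ℤ) ∣ x - ε := by
    have hcop : IsCoprime (4 : ℤ) (q : ℤ) := by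
      rw [Int.isCoprime_iff_nat_coprime]
      show Nat.Coprime 4 q
      exact (Nat.Coprime.pow_left 2 ((Nat.coprime_primes Nat.prime_two hq).2 (by omega)) : Nat.Coprime (2 ^ 2) q)
    refine hcop.dvd_of_dvd_mul_left ?_
    rwa [show (q : ℤ) * (x - ε) = q * x - ε * q by ring]
  obtain ⟨a, ha⟩ := h4x
  obtain ⟨t, ht⟩ := hsodd
  have htZ : (s : ℤ) = 2 * t + 1 := by exact_mod_cast ht
  have ha2 : a % 2 = 0 := by
    by_contra hodd
    obtain ⟨b, hb⟩ : ∃ b, a = 2 * b + 1 := ⟨a / 2, by omega⟩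
    obtain ⟨g', rfl⟩ := h16
    -- `32` divides the right hand side and the square is sixteen times an odd number
    refine h32 ?_
    have e1 : g' * a ^ 2 * 256 = 512 * (q : ℤ) * (s : ℤ) ^ 3 * (((q : ℤ) + ε) / 2) ^ 2 * (x * (q * x + 1)) := by
      have hm : (q : ℤ) + ε = 2 * (((q : ℤ) + ε) / 2) := by omega
      calc g' * a ^ 2 * 256 = 16 * g' * (x - ε) ^ 2 := by rw [ha]; ring
        _ = _ := by rw [hg', hqs, hm, Int.mul_ediv_cancel_left _ two_ne_zero]; ring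
    have h2 : Even (g' * a ^ 2) := ⟨(q : ℤ) * (s : ℤ) ^ 3 * (((q : ℤ) + ε) / 2) ^ 2 * (x * (q * x + 1)), by linarith⟩
    obtain ⟨c, hc⟩ : Even g' := by
      rcases Int.even_mul.1 h2 with h | h
      · exact h
      · rw [Int.even_pow] at h
        exact absurd h.1 (by rw [Int.even_iff]; omega)
    exact ⟨c, by rw [hc]; ring⟩
  have h8 : (8 : ℤ) ∣ x - ε := ⟨a / 2, by omega⟩
  -- `s`
  have hseps : ∀ w : ℤ, (s : ℤ) ∣ (q : ℤ) - ε + w → (s : ℤ) ∣ w := fun w h =>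
    (dvd_add_right ⟨4, by rw [hqs]; ring⟩).1 h
  have hsne : ¬ (s : ℤ) ∣ 2 := by
    intro h
    have h' : s ∣ 2 := by exact_mod_cast h
    have := (Nat.prime_dvd_prime_iff_eq hs Nat.prime_two).1 h'
    omega
  have hsj : (s : ℤ) ∣ x - ε := by
    by_contra hnd
    refine hs2 (hsZ.pow_dvd_of_dvd_mul_right 2 (a := g) (b := (x - ε) ^ 2) (fun h => hnd (hsZ.dvd_of_dvd_pow h)) ?_)
    rw [hg', hqs]
    exact ⟨128 * (q : ℤ) * s * ((q : ℤ) + ε) ^ 2 * (x * (q * x + 1)), by ring⟩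
  have hsk : ¬ (s : ℤ) ∣ x + q := by
    intro h
    have h1 := dvd_sub h hsj
    rw [show x + q - (x - ε) = (q : ℤ) - ε + 2 * ε by ring] at h1
    have h2 := (hseps _ h1).mul_right ε
    rw [mul_assoc, ← pow_two, hε2, mul_one] at h2
    exact hsne h2
  -- `k ∣ q + ε`
  obtain ⟨b, hb⟩ := h8
  obtain ⟨k', hk'⟩ : (2 : ℤ) ∣ x + q := ⟨4 * b + ε + 2 * s, by linarith⟩
  have hk'odd : k' % 2 = 1 := by
    rcases hε with h | h <;> omega
  have hm : (q : ℤ) + ε = 2 * (((q : ℤ) + ε) / 2) := by omega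
  set m := ((q : ℤ) + ε) / 2
  have hk1 : k' ∣ m := by
    have h1 : x + q ∣ 8 * s * m := by
      have e : (q : ℤ) ^ 2 - 1 = 8 * s * m := by
        calc (q : ℤ) ^ 2 - 1 = ((q : ℤ) - ε) * ((q : ℤ) + ε) := by linear_combination hε2
          _ = _ := by rw [hqs, hm]; ring
      rwa [← e]
    rw [hk'] at h1
    have h2 : k' ∣ (4 * s : ℤ) * m := by
      obtain ⟨w, hw⟩ := h1
      exact ⟨w, by linarith⟩
    refine IsCoprime.dvd_of_dvd_mul_left ?_ h2
    refine IsCoprime.mul_right ?_ ?_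
    · rw [show (4 : ℤ) = 2 ^ 2 by norm_num]
      refine IsCoprime.pow_right ?_
      rw [isCoprime_comm, Int.prime_two.coprime_iff_not_dvd]
      omega
    · rw [isCoprime_comm, hsZ.coprime_iff_not_dvd]
      exact fun h => hsk (hk' ▸ h.mul_left 2)
  -- `8 s ∣ x - ε = 2 (k' - m)`
  have h8s : (8 * s : ℤ) ∣ x - ε := by
    refine IsCoprime.mul_dvd ?_ ⟨b, hb⟩ hsj
    rw [show (8 : ℤ) = 2 ^ 3 by norm_num]
    refine IsCoprime.pow_left ?_
    rw [Int.prime_two.coprime_iff_not_dvd]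
    omega
  obtain ⟨c, hc⟩ := h8s
  have hrel : k' - m = 4 * (s : ℤ) * c := by linarith
  have hc0 : c ≠ 0 := fun h => by
    rw [h, mul_zero] at hc
    have : g * 0 = 2 * (q : ℤ) * ((q : ℤ) - ε) ^ 3 * ((q : ℤ) + ε) ^ 2 * (x * (q * x + 1)) := by
      rw [← hg', hc]; ring
    rw [mul_zero, eq_comm] at this
    have e1 : (q : ℤ) - ε ≠ 0 := by rcases hε with e | e <;> omega
    have e2 : (q : ℤ) + ε ≠ 0 := by rcases hε with e | e <;> omega
    exact mul_ne_zero (mul_ne_zero (mul_ne_zero (mul_ne_zero two_ne_zero hq0) (pow_ne_zero 3 e1))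
      (pow_ne_zero 2 e2)) (mul_ne_zero hx0 hX1) this
  have hm0 : (0 : ℤ) < m := by omega
  have hkabs : k'.natAbs ≤ m.natAbs := Nat.le_of_dvd (by omega) (Int.natAbs_dvd_natAbs.2 hk1)
  obtain ⟨d, hd⟩ := hk1
  have hb' : k' ≤ m ∧ -m ≤ k' := by omega
  have hs0 : (1 : ℤ) ≤ s := by exact_mod_cast hs.one_le
  rcases (show c ≤ -2 ∨ c = -1 ∨ 1 ≤ c by omega) with h | h | h
  · have := mul_le_mul_of_nonneg_left h (show (0 : ℤ) ≤ 4 * s by omega)
    rcases hε with e | e <;> omega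
  · subst h
    have hdpos : 2 ≤ q := hq.two_le
    -- `k' = m - 4 s` divides `m`
    have hk'' : k' ∣ 4 * (s : ℤ) := by
      have h1 : k' ∣ m - k' := dvd_sub ⟨d, hd⟩ dvd_rfl
      rwa [show m - k' = 4 * (s : ℤ) by linarith] at h1
    have hcop : IsCoprime k' (4 * (s : ℤ)) := by
      refine IsCoprime.mul_right ?_ ?_
      · rw [show (4 : ℤ) = 2 ^ 2 by norm_num]
        refine IsCoprime.pow_right ?_
        rw [isCoprime_comm, Int.prime_two.coprime_iff_not_dvd]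
        omega
      · rw [isCoprime_comm, hsZ.coprime_iff_not_dvd]
        exact fun h => hsk (hk' ▸ h.mul_left 2)
    have hu := Int.isUnit_iff.1 (hcop.isUnit_of_dvd' dvd_rfl hk'')
    rcases hε with e | e <;> omega
  · have := mul_le_mul_of_nonneg_left h (show (0 : ℤ) ≤ 4 * s by omega)
    rcases hε with e | e <;> omega

end Cfsg.Lib.LenSeven
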