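import Cfsg.Agent.Lib.LenEight.Basic
import Cfsg.Agent.Lib.Dickson.Existence
import Cfsg.Agent.Lib.Dickson.Orders
import Cfsg.Agent.Lib.Dickson.Solvable
import Cfsg.Agent.Lib.Dickson.DihedralMax

/-!
# Chains in solvable groups and in `PSL(2, q)`
-/

set_option autoImplicit false
set_option linter.style.haveILetI false

namespace Cfsg.Lib.LenSeven

open Subgroup LenEight ArithmeticFunction
open scoped MatrixGroups

universe u

/-- A solvable group has a chain as long as its order has prime factors. -/
theorem chain_solvable_aux : ∀ (n : ℕ) (X : Type u) [Group X] [Finite X], Nat.card X ≤ n →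
    Group.IsSolvable X → Chain (⊤ : Subgroup X) (cardFactors (Nat.card X)) := by
  intro n
  induction n with
  | zero => intro X _ _ h; exact absurd (Nat.card_pos (α := X)) (by omega)
  | succ n ih =>
    intro X _ _ hcard hs
    by_cases hX : Nontrivial X
    swap
    · haveI := not_nontrivial_iff_subsingleton.1 hX
      rw [Nat.card_unique, cardFactors_one]
      exact Chain.zero _
    haveI := hX
    by_cases hsimp : IsSimpleGroup X
    · have hc : ∀ a b : X, a * b = b * a := IsSimpleGroup.comm_iff_isSolvable.2 hs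
      letI : CommGroup X := { ‹Group X› with mul_comm := hc }
      haveI : IsSimpleGroup X := hsimp
      have hp := IsSimpleGroup.prime_card (α := X)
      rw [cardFactors_apply_prime hp]
      exact (Chain.zero ⊥).succ bot_lt_top
    · obtain ⟨N, hN, hb, ht⟩ : ∃ N : Subgroup X, N.Normal ∧ N ≠ ⊥ ∧ N ≠ ⊤ := by
        by_contra hne
        push Not at hne
        exact hsimp ⟨fun N hN => or_iff_not_imp_left.2 (hne N hN)⟩
      haveI := hN
      have h1 := ih N (by have := Core.lt_card_of_ne_top ht; omega) inferInstance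
      have h2 := ih (X ⧸ N) (by have := Core.card_quotient_lt hb; omega) inferInstance
      have := Chain.top_append (QuotientGroup.mk' N) (QuotientGroup.mk'_surjective N)
        (show Chain (QuotientGroup.mk' N).ker _ by rw [QuotientGroup.ker_mk']; exact h1.top_subtype) h2
      rw [card_eq_card_quotient_mul_card_subgroup N,
        cardFactors_mul Nat.card_pos.ne' Nat.card_pos.ne', add_comm]
      exact this

theorem chain_solvable (X : Type u) [Group X] [Finite X] (h : Group.IsSolvable X) :
    Chain (⊤ : Subgroup X) (cardFactors (Nat.card X)) := chain_solvable_aux _ X le_rfl h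

theorem chain_solvable_subgroup {X : Type u} [Group X] [Finite X] (H : Subgroup X)
    (h : Group.IsSolvable H) : Chain H (cardFactors (Nat.card H)) := (chain_solvable H h).top_subtype

/-- A proper solvable subgroup and one step more. -/
theorem chain_succ_of_solvable {X : Type u} [Group X] [Finite X] (H : Subgroup X) (hH : H ≠ ⊤)
    (h : Group.IsSolvable H) : Chain (⊤ : Subgroup X) (cardFactors (Nat.card H) + 1) :=
  (chain_solvable_subgroup H h).succ (lt_top_iff_ne_top.2 hH)

/-- A normal subgroup and its quotient. -/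
theorem chain_normal {X : Type u} [Group X] (N : Subgroup X) [N.Normal] {a b : ℕ} (ha : Chain N a)
    (hb : Chain (⊤ : Subgroup (X ⧸ N)) b) : Chain (⊤ : Subgroup X) (a + b) :=
  Chain.top_append (QuotientGroup.mk' N) (QuotientGroup.mk'_surjective N)
    (by rw [QuotientGroup.ker_mk']; exact ha) hb

theorem chain_equiv {X Y : Type*} [Group X] [Group Y] (e : X ≃* Y) {n : ℕ}
    (h : Chain (⊤ : Subgroup X) n) : Chain (⊤ : Subgroup Y) n :=
  (h.map e.toMonoidHom e.injective).mono le_top

section PSL

variable {F : Type} [Field F] [Fintype F]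

local notation "PSL2" => Matrix.ProjectiveSpecialLinearGroup (Fin 2) F

theorem two_mul_card_psl (hodd : Odd (Fintype.card F)) :
    2 * Nat.card PSL2 = Fintype.card F * (Fintype.card F ^ 2 - 1) := by
  have h := Cfsg.Lib.Linear.Two.card_PSL_two (F := F)
  have hg : Nat.gcd 2 (Fintype.card F - 1) = 2 :=
    Nat.gcd_eq_left (by obtain ⟨k, hk⟩ := hodd; omega)
  rw [hg] at h
  exact h

theorem two_ne_zero_of_odd (hodd : Odd (Fintype.card F)) : (2 : F) ≠ 0 :=
  Ring.two_ne_zero fun h => by
    have := FiniteField.even_card_of_char_two h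
    obtain ⟨k, hk⟩ := hodd
    omega

theorem chain_psl_four (h : 4 ≤ Fintype.card F) : Chain (⊤ : Subgroup PSL2) 4 :=
  chain_four_of_not_solvable (Dickson.not_isSolvable_psl h)

/-- `q ≡ ± 1` modulo eight: the symmetric group of degree four. -/
theorem chain_psl_five_of_square (hodd : Odd (Fintype.card F)) (h7 : 7 ≤ Fintype.card F)
    (hsq : IsSquare (2 : F)) : Chain (⊤ : Subgroup PSL2) 5 := by
  obtain ⟨H, ⟨e⟩⟩ := Dickson.exists_perm_four (two_ne_zero_of_odd hodd) hsq
  have h24 : Nat.card H = 24 := Dickson.card_target_perm e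
  have hne : H ≠ ⊤ := fun hH => by
    have := two_mul_card_psl hodd
    rw [← card_top (G := PSL2), ← hH, h24] at this
    nlinarith [Nat.pow_le_pow_left h7 2, Nat.sub_add_cancel (Nat.one_le_pow 2 (Fintype.card F) (by omega))]
  have := chain_succ_of_solvable H hne (Dickson.isSolvable_congr e Dickson.isSolvable_perm_four)
  rw [h24] at this
  have e4 : cardFactors 24 = 4 := by
    rw [show 24 = 2 ^ 3 * 3 by norm_num, cardFactors_mul (by norm_num) (by norm_num),
      cardFactors_apply_prime_pow Nat.prime_two, cardFactors_apply_prime Nat.prime_three]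
  rw [e4] at this
  exact this

/-- The Borel subgroup. -/
theorem chain_borel (hodd : Odd (Fintype.card F)) (h5 : 5 ≤ Fintype.card F) :
    Chain (⊤ : Subgroup PSL2) (cardFactors (Fintype.card F * ((Fintype.card F - 1) / 2)) + 1) := by
  obtain ⟨p, hpp, hp, e, he0, he⟩ := Dickson.exists_char (F := F)
  haveI := Fact.mk hpp
  obtain ⟨P⟩ : Nonempty (Sylow p PSL2) := inferInstance
  set N := normalizer ((P : Subgroup PSL2) : Set PSL2) with hN
  have hc := Dickson.card_normalizer_sylow_psl p P
  rw [Nat.gcd_eq_left (show 2 ∣ Fintype.card F - 1 by obtain ⟨k, hk⟩ := hodd; omega)] at hc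
  have hNc : Nat.card N = Fintype.card F * ((Fintype.card F - 1) / 2) := by
    obtain ⟨k, hk⟩ := hodd
    rw [show (Fintype.card F - 1) / 2 = k by omega]
    rw [show Fintype.card F - 1 = 2 * k by omega, ← mul_assoc, mul_comm (Fintype.card F) 2,
      mul_assoc] at hc
    exact Nat.eq_of_mul_eq_mul_left two_pos hc
  have hne : N ≠ ⊤ := fun h => by
    have hi := Dickson.index_normalizer_sylow_psl p P
    rw [← hN, h, index_top] at hi
    omega
  rw [← hNc]
  exact chain_succ_of_solvable N hne (Dickson.isSolvable_normalizer_sylow_psl p P)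

/-- The dihedral subgroups. -/
theorem chain_dihedral_plus (hodd : Odd (Fintype.card F)) (h5 : 5 ≤ Fintype.card F)
    (h7 : Fintype.card F ≠ 7) (h9 : Fintype.card F ≠ 9) :
    Chain (⊤ : Subgroup PSL2) (cardFactors (Fintype.card F + 1) + 1) := by
  have hg : Nat.gcd 2 (Fintype.card F - 1) = 2 :=
    Nat.gcd_eq_left (by obtain ⟨k, hk⟩ := hodd; omega)
  obtain ⟨H, hH, ⟨e⟩⟩ := Dickson.exists_maximal_dihedral (F := F) ((Fintype.card F + 1) / 2) (by omega) h9
    (Or.inl ⟨by rw [hg], h7⟩)
  have hc : Nat.card H = Fintype.card F + 1 := by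
    rw [Nat.card_congr e.toEquiv, DihedralGroup.nat_card]
    obtain ⟨k, hk⟩ := hodd
    omega
  rw [← hc]
  exact chain_succ_of_solvable H hH.1 (Dickson.isSolvable_congr e (Dickson.isSolvable_dihedral _))

theorem chain_dihedral_minus (hodd : Odd (Fintype.card F)) (h5 : 5 < Fintype.card F)
    (h7 : Fintype.card F ≠ 7) (h9 : Fintype.card F ≠ 9) (h11 : Fintype.card F ≠ 11) :
    Chain (⊤ : Subgroup PSL2) (cardFactors (Fintype.card F - 1) + 1) := by
  have hg : Nat.gcd 2 (Fintype.card F - 1) = 2 :=
    Nat.gcd_eq_left (by obtain ⟨k, hk⟩ := hodd; omega)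
  obtain ⟨H, hH, ⟨e⟩⟩ := Dickson.exists_maximal_dihedral (F := F) ((Fintype.card F - 1) / 2) (by omega) h9
    (Or.inr ⟨by rw [hg], by omega, h7, h11⟩)
  have hc : Nat.card H = Fintype.card F - 1 := by
    rw [Nat.card_congr e.toEquiv, DihedralGroup.nat_card]
    obtain ⟨k, hk⟩ := hodd
    omega
  rw [← hc]
  exact chain_succ_of_solvable H hH.1 (Dickson.isSolvable_congr e (Dickson.isSolvable_dihedral _))

/-- `PSL(2, q)` of length four has prime `q`, not `± 1` modulo eight or five. -/
theorem psl_len_four (hodd : Odd (Fintype.card F)) (h5 : 5 < Fintype.card F)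
    (hlen : LenLe (⊤ : Subgroup PSL2) 4) :
    (Fintype.card F).Prime ∧ (Fintype.card F % 8 = 3 ∨ Fintype.card F % 8 = 5) ∧
      (Fintype.card F % 5 = 2 ∨ Fintype.card F % 5 = 3) ∧
      cardFactors ((Fintype.card F - 1) / 2) ≤ 2 ∧
      cardFactors (Fintype.card F + 1) ≤ 3 ∧ cardFactors (Fintype.card F - 1) ≤ 3 := by
  classical
  have h2 : ringChar F ≠ 2 := fun h => by
    have := FiniteField.even_card_of_char_two h
    obtain ⟨k, hk⟩ := hodd
    omega
  have hns : ¬ IsSquare (2 : F) := fun h => by
    have := hlen.chain_le (chain_psl_five_of_square hodd (by obtain ⟨k, hk⟩ := hodd; omega) h)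
    omega
  rw [FiniteField.isSquare_two_iff] at hns
  have h8 : Fintype.card F % 8 = 3 ∨ Fintype.card F % 8 = 5 := by omega
  have hB := hlen.chain_le (chain_borel hodd h5.le)
  have hq0 : (Fintype.card F - 1) / 2 ≠ 0 := by omega
  rw [cardFactors_mul Fintype.card_ne_zero hq0] at hB
  obtain ⟨p, hpp, hp, e, he0, he⟩ := Dickson.exists_char (F := F)
  haveI := hp
  haveI := Fact.mk hpp
  have hprime : (Fintype.card F).Prime := by
    rcases (show e = 1 ∨ 2 ≤ e by omega) with rfl | h
    · rw [he, pow_one]; exact hpp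
    exfalso
    rw [he] at hB h8 h5
    rw [cardFactors_apply_prime_pow hpp] at hB
    have hpos : 0 < cardFactors ((p ^ e - 1) / 2) := by
      rw [cardFactors_pos_iff_one_lt]
      omega
    rcases (show e = 2 ∨ 3 ≤ e by omega) with rfl | h3
    · have hmod := Nat.pow_mod p 2 8
      have := Nat.mod_lt p (show 8 > 0 by norm_num)
      interval_cases h : p % 8 <;> omega
    · omega
  refine ⟨hprime, h8, ?_, by rw [cardFactors_apply_prime hprime] at hB; omega, ?_, ?_⟩
  · have hns5 : ¬ IsSquare (5 : F) := fun h => by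
      obtain ⟨H, ⟨ε⟩⟩ := Dickson.exists_alternating_five (two_ne_zero_of_odd hodd) h
      have hne : H ≠ ⊤ := fun hH => by
        have := two_mul_card_psl hodd
        rw [← card_top (G := PSL2), ← hH, Dickson.card_target_five ε] at this
        nlinarith [Nat.pow_le_pow_left (show 6 ≤ Fintype.card F by omega) 2,
          Nat.sub_add_cancel (Nat.one_le_pow 2 (Fintype.card F) (by omega))]
      have h4 : Chain H 4 := (chain_four_of_not_solvable (X := H) fun hs =>
        Dickson.not_isSolvable_alternating_five (Dickson.isSolvable_congr ε.symm hs)).top_subtype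
      have := hlen.chain_le (h4.succ (lt_top_iff_ne_top.2 hne))
      omega
    rcases (show Fintype.card F % 5 = 0 ∨ Fintype.card F % 5 = 1 ∨ Fintype.card F % 5 = 4 ∨
      (Fintype.card F % 5 = 2 ∨ Fintype.card F % 5 = 3) by omega) with h | h | h | h
    · exfalso
      have := (Nat.prime_dvd_prime_iff_eq Nat.prime_five hprime).1 (Nat.dvd_of_mod_eq_zero h)
      omega
    all_goals first
      | exact h
      | exfalso
        refine hns5 ?_
        haveI : Fact (Fintype.card F).Prime := ⟨hprime⟩
        haveI : Fact (Nat.Prime 5) := ⟨Nat.prime_five⟩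
        haveI : CharP F (Fintype.card F) := by
          obtain ⟨r, hr⟩ := CharP.exists F
          haveI := hr
          obtain ⟨m, hr', hm⟩ := FiniteField.card F r
          have hrq : r = Fintype.card F :=
            (Nat.prime_dvd_prime_iff_eq hr' hprime).1 (hm ▸ dvd_pow_self r m.pos.ne')
          exact hrq ▸ hr
        let ψ : ZMod (Fintype.card F) ≃+* F := ZMod.ringEquiv F rfl
        have hs : IsSquare ((5 : ℕ) : ZMod (Fintype.card F)) := by
          refine (ZMod.exists_sq_eq_prime_iff_of_mod_four_eq_one (p := 5) (q := Fintype.card F) (by norm_num) (by omega)).1 ?_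
          rw [show ((Fintype.card F : ℕ) : ZMod 5) = ((Fintype.card F % 5 : ℕ) : ZMod 5) from (ZMod.natCast_mod _ _).symm, h]
          first
            | exact ⟨1, rfl⟩
            | exact ⟨2, rfl⟩
        obtain ⟨r, hr⟩ := hs
        exact ⟨ψ r, by rw [← map_mul, ← hr, map_natCast, Nat.cast_ofNat]⟩
  · have := hlen.chain_le (chain_dihedral_plus hodd h5.le (by omega) (by omega))
    omega
  · by_cases h11 : Fintype.card F = 11
    · rw [h11, show (11 - 1 : ℕ) = 2 * 5 by norm_num, cardFactors_mul (by norm_num) (by norm_num),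
        cardFactors_apply_prime Nat.prime_two, cardFactors_apply_prime Nat.prime_five]
      norm_num
    · have := hlen.chain_le (chain_dihedral_minus hodd h5 (by omega) (by omega) h11)
      omega

end PSL

end Cfsg.Lib.LenSeven
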