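import Cfsg.Agent.Lib.OrderSDW.QCover
import Cfsg.Agent.Lib.LenSeven.PSLChain
import Cfsg.Agent.Lib.GW.QGroup
import Cfsg.Agent.Lib.Local.JComp.Local

/-!
# Chains in the centralizer modulo its core
-/

set_option autoImplicit false
set_option linter.style.haveILetI false
set_option linter.unusedSectionVars false

namespace Cfsg.Lib.LenSeven

open Cfsg Subgroup LenEight OrderSDW ArithmeticFunction
open scoped MatrixGroups

universe u

/-- A subgroup isomorphic to `SL(2, q)`. -/
theorem chain_sl {F : Type} [Field F] [Fintype F] (hodd : Odd (Fintype.card F)) {Q : Type u} [Group Q]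
    {N : Subgroup Q} (e : N ≃* SL(2, F)) {a : ℕ}
    (h : Chain (⊤ : Subgroup (Matrix.ProjectiveSpecialLinearGroup (Fin 2) F)) a) : Chain N (1 + a) := by
  have h2 := two_ne_zero_of_odd (F := F) hodd
  have hc : center SL(2, F) ≠ ⊥ := by
    intro hb
    obtain ⟨m, hm⟩ : ∃ m : SL(2, F), m.1 = -1 :=
      ⟨⟨-1, by rw [Matrix.det_neg, Matrix.det_one]; norm_num⟩, rfl⟩
    have hmem : m ∈ center SL(2, F) := mem_center_iff.2 fun g => Subtype.ext (by
      rw [Matrix.SpecialLinearGroup.coe_mul, Matrix.SpecialLinearGroup.coe_mul, hm, mul_neg, mul_one, neg_mul, one_mul])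
    rw [hb, mem_bot] at hmem
    rw [hmem, Matrix.SpecialLinearGroup.coe_one] at hm
    have := congrFun (congrFun hm 0) 0
    simp at this
    exact h2 (by linear_combination this)
  exact (chain_equiv e.symm
    (chain_normal (center SL(2, F)) ((Chain.zero ⊥).succ (bot_lt_iff_ne_bot.2 hc)) h)).top_subtype

section Cover

variable {Q : Type u} [Group Q] [Fintype Q] {F : Type} [Field F] [Fintype F] [DecidableEq F]
variable {N : Subgroup Q} [N.Normal] {e : N ≃* SL(2, F)} {Z : Subgroup Q} [Z.Normal] (K : Cover e Z)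

include K

theorem cover_odd : Odd (Fintype.card F) := Nat.odd_iff.2 K.odd_q

theorem card_N : Nat.card N = Fintype.card F * (Fintype.card F ^ 2 - 1) := by
  rw [Nat.card_congr e.toEquiv, Cfsg.Lib.Linear.Two.card_SL_two]

theorem exists_index : ∃ k : ℕ, Odd k ∧ (N ⊔ Z).index = 2 * k := by
  have h := K.quot
  obtain ⟨k, hk⟩ : 2 ∣ (N ⊔ Z).index :=
    (Nat.prime_two.dvd_iff_one_le_factorization (index_ne_zero_of_finite)).2 (by omega)
  refine ⟨k, ?_, hk⟩
  have hk0 : k ≠ 0 := fun h0 => (N ⊔ Z).index_ne_zero_of_finite (by rw [hk, h0, mul_zero])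
  rw [hk, Nat.factorization_mul (by norm_num) hk0, Finsupp.add_apply,
    Nat.prime_two.factorization_self] at h
  by_contra hev
  have := (Nat.prime_two.dvd_iff_one_le_factorization hk0).1 (even_iff_two_dvd.1 (Nat.not_odd_iff_even.1 hev))
  omega

theorem chain_index {a : ℕ} (h : Chain (N ⊔ Z) a) :
    Chain (⊤ : Subgroup Q) (a + cardFactors (N ⊔ Z).index) := by
  haveI : (N ⊔ Z).Normal := inferInstance
  refine chain_normal (N ⊔ Z) h (chain_solvable _ ?_)
  obtain ⟨k, hk, hidx⟩ := exists_index K
  refine GW.isSolvable_of_not_four_dvd ?_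
  rw [← index_eq_card, hidx]
  rintro ⟨j, hj⟩
  obtain ⟨i, rfl⟩ := hk
  omega

theorem mem_Z_sq {n : Q} (hn : n ∈ N) (hZ : n ∈ Z) : n * n = 1 := by
  have h := (K.mem_Z_iff ⟨n, hn⟩).1 hZ
  have : (e ⟨n, hn⟩) * (e ⟨n, hn⟩) = 1 := Subtype.ext (by
    show (e ⟨n, hn⟩).1 * (e ⟨n, hn⟩).1 = 1
    rcases h with h | h <;> simp [h])
  rw [← map_mul, ← map_one e] at this
  exact congrArg Subtype.val (e.injective this)

theorem card_inf : Nat.card ↥(N ⊓ Z) = 2 := by
  classical
  obtain ⟨m, hm⟩ : ∃ m : SL(2, F), m.1 = -1 :=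
    ⟨⟨-1, by rw [Matrix.det_neg, Matrix.det_one]; norm_num⟩, rfl⟩
  obtain ⟨n, hn⟩ : ∃ n : N, (e n).1 = -1 := ⟨e.symm m, by rw [e.apply_symm_apply]; exact hm⟩
  rw [Nat.card_eq_two_iff]
  refine ⟨1, ⟨n, n.2, K.neg n hn⟩, fun h => K.one_ne_neg ?_, ?_⟩
  · have : n = 1 := Subtype.ext (congrArg Subtype.val h).symm
    rw [this, map_one] at hn
    exact hn
  · refine Set.eq_univ_of_forall fun x => ?_
    rcases (K.mem_Z_iff ⟨x.1, x.2.1⟩).1 x.2.2 with h | h
    · have : (⟨x.1, x.2.1⟩ : N) = 1 := e.injective (Subtype.ext (by rw [map_one]; exact h))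
      exact Or.inl (Subtype.ext (congrArg (fun y : N => (y : Q)) this))
    · have : (⟨x.1, x.2.1⟩ : N) = n := e.injective (Subtype.ext (h.trans hn.symm))
      exact Or.inr (Subtype.ext (congrArg (fun y : N => (y : Q)) this))

theorem le_of_card_two (h2 : Nat.card Z = 2) : Z ≤ N := by
  have h : N ⊓ Z = Z := eq_of_le_of_card_ge inf_le_right (by rw [card_inf K, h2])
  exact h ▸ inf_le_left

theorem card_sup : Nat.card ↥(N ⊔ Z) * 2 = Nat.card N * Nat.card Z := by
  rw [← card_inf K]
  exact Local.JComp.card_sup_mul_card_inf' (by rw [normalizer_eq_top]; exact le_top)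

theorem lt_sup {v : Q} (hv : v ∈ Z) (h4 : orderOf v = 4) : N < N ⊔ Z := by
  refine lt_of_le_of_ne le_sup_left fun h => ?_
  have hsq := mem_Z_sq K (h ▸ (le_sup_right : Z ≤ N ⊔ Z) hv : v ∈ N) hv
  have := Nat.le_of_dvd two_pos (orderOf_dvd_of_pow_eq_one (by rw [pow_two]; exact hsq : v ^ 2 = 1))
  omega

theorem hom_trivial (f : N →* Q) (hf : ∀ n, f n ∈ Z) (h2 : Nat.card Z = 2) : f = 1 := by
  have hr : f.range ≤ Z := by rintro _ ⟨n, rfl⟩; exact hf n
  have hd := card_dvd_of_le hr
  rw [h2, ← index_ker] at hd
  rcases (Nat.dvd_prime Nat.prime_two).1 hd with h | h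
  · ext n
    exact MonoidHom.mem_ker.1 ((index_eq_one.1 h).symm ▸ mem_top n)
  · exfalso
    refine GW.SL_two_index_ne_two (F := F) (cover_odd K) (f.ker.map e.toMonoidHom) ?_
    rw [index_map_of_bijective e.bijective, h]

/-- `q = 3`: the quotient by `N` has order two. -/
theorem index_of_three (h3 : Fintype.card F = 3) (h2 : Nat.card Z = 2)
    (hC : centralizer (N : Set Q) ≤ Z) : (N ⊔ Z).index = 2 := by
  classical
  haveI : Fact (Nat.Prime 3) := ⟨Nat.prime_three⟩
  obtain ⟨k, hk, hidx⟩ := exists_index K
  have hN24 : Nat.card N = 24 := by rw [card_N K, h3]; norm_num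
  have hle : N ⊔ Z = N := sup_eq_left.2 (le_of_card_two K h2)
  have hn : Nat.card (Sylow 3 N) = 1 ∨ Nat.card (Sylow 3 N) = 4 := by
    obtain ⟨P⟩ : Nonempty (Sylow 3 N) := inferInstance
    have hm := card_sylow_modEq_one 3 N
    have hP3 : Nat.card (P : Subgroup N) = 3 := by
      rw [P.card_eq_multiplicity, hN24, show (24 : ℕ) = 2 ^ 3 * 3 by norm_num,
        Nat.factorization_mul (by norm_num) (by norm_num), Finsupp.add_apply,
        Nat.Prime.factorization_pow Nat.prime_two, Finsupp.single_eq_of_ne (by norm_num),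
        Nat.prime_three.factorization_self]
      norm_num
    have h8 : Nat.card (Sylow 3 N) ∣ 8 := by
      have hi := P.card_dvd_index
      have := card_mul_index (P : Subgroup N)
      rw [hP3, hN24] at this
      rwa [show (P : Subgroup N).index = 8 by omega] at hi
    have := Nat.le_of_dvd (by norm_num) h8
    unfold Nat.ModEq at hm
    interval_cases hc : Nat.card (Sylow 3 N) <;> omega
  set f : Q →* MulAut N := MulAut.conjNormal with hf
  let act : Q →* Equiv.Perm (Sylow 3 N) :=
    (MulAction.toPermHom (MulAut N) (Sylow 3 N)).comp f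
  have hact : act.ker ≤ Z := by
    intro x hx
    have hfix : ∀ P : Sylow 3 N, f x • P = P := fun P => by
      have := congrArg (fun σ : Equiv.Perm (Sylow 3 N) => σ P) (MonoidHom.mem_ker.1 hx)
      simpa [act] using this
    -- the part in `N` is in `Z`
    have hin : ∀ y ∈ act.ker, y ∈ N → y ∈ Z := by
      intro y hy hyN
      set M : Subgroup N := (act.ker).subgroupOf N with hM
      haveI : M.Normal := inferInstance
      have hnorm : ∀ P : Sylow 3 N, M ≤ normalizer ((P : Subgroup N) : Set N) := by
        intro P m hm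
        have h1 : f (m : Q) • P = P := by
          have := congrArg (fun σ : Equiv.Perm (Sylow 3 N) => σ P) (MonoidHom.mem_ker.1 hm)
          simpa [act] using this
        have h2 : m • P = P := by
          apply Sylow.ext
          have h3 := congrArg (fun R : Sylow 3 N => (R : Subgroup N)) h1
          have e : f (m : Q) = MulAut.conj m := by
            ext w
            simp [hf]
          rw [e] at h3
          exact h3
        exact Sylow.smul_eq_iff_mem_normalizer.1 h2
      have hM3 : ¬ 3 ∣ Nat.card M := by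
        intro hd
        obtain ⟨P⟩ : Nonempty (Sylow 3 M) := inferInstance
        have hPp : IsPGroup 3 ((P : Subgroup M).map M.subtype) := P.2.map _
        obtain ⟨R, hR⟩ := hPp.exists_le_sylow
        have hall : ∀ R' : Sylow 3 N, (P : Subgroup M).map M.subtype ≤ (R' : Subgroup N) := by
          intro R' w hw
          by_contra hwR
          have hwn : w ∈ normalizer ((R' : Subgroup N) : Set N) := hnorm R' (map_subtype_le _ hw)
          have hz : IsPGroup 3 (zpowers w ⊔ (R' : Subgroup N) : Subgroup N) :=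
            IsPGroup.to_sup_of_normal_right'
              (hPp.to_le (zpowers_le.2 hw)) R'.2 (zpowers_le.2 hwn)
          exact hwR ((R'.3 hz le_sup_right) ▸ mem_sup_left (mem_zpowers w))
        have hne : (P : Subgroup M).map M.subtype ≠ ⊥ := fun h => by
          have hc := card_map_of_injective M.subtype_injective (K := (P : Subgroup M))
          rw [h, card_bot] at hc
          exact absurd (P.dvd_card_of_dvd_card hd) (by rw [← hc]; norm_num)
        -- the common subgroup is every Sylow subgroup
        have heq : ∀ R' : Sylow 3 N, (P : Subgroup M).map M.subtype = (R' : Subgroup N) := by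
          intro R'
          refine eq_of_le_of_card_ge (hall R') ?_
          have h3' : Nat.card (R' : Subgroup N) = 3 := by
            rw [R'.card_eq_multiplicity, hN24, show (24 : ℕ) = 2 ^ 3 * 3 by norm_num,
              Nat.factorization_mul (by norm_num) (by norm_num), Finsupp.add_apply,
              Nat.Prime.factorization_pow Nat.prime_two, Finsupp.single_eq_of_ne (by norm_num),
              Nat.prime_three.factorization_self]
            norm_num
          rw [h3']
          obtain ⟨j, hj⟩ := hPp.exists_card_eq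
          rcases j with _ | j
          · exact absurd (card_eq_one.1 hj) hne
          · rw [hj]; exact le_self_pow (by norm_num) j.succ_ne_zero
        haveI : Subsingleton (Sylow 3 N) := ⟨fun A B => Sylow.ext ((heq A).symm.trans (heq B))⟩
        have hRn : (R : Subgroup N).Normal := R.normal_of_subsingleton
        haveI := hRn
        haveI : Fact (Nat.Prime 2) := ⟨Nat.prime_two⟩
        have hi := card_mul_index (R : Subgroup N)
        rw [← heq R] at hi
        obtain ⟨j, hj⟩ := hPp.exists_card_eq
        rw [hj, hN24] at hi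
        have hidx8 : ((P : Subgroup M).map M.subtype).index = 8 := by
          rcases j with _ | _ | j
          · exact absurd (card_eq_one.1 hj) hne
          · omega
          · exfalso
            have : 9 ∣ 24 := Dvd.intro _ (by rw [← hi, pow_add]; ring : (9 : ℕ) * (3 ^ j *
              ((P : Subgroup M).map M.subtype).index) = 24)
            norm_num at this
        rw [heq R] at hidx8
        obtain ⟨T, hT⟩ := Sylow.exists_subgroup_card_pow_prime (G := N ⧸ (R : Subgroup N)) 2 (n := 2)
          (by rw [← index_eq_card, hidx8]; norm_num)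
        refine GW.SL_two_index_ne_two (F := F) (cover_odd K)
          ((T.comap (QuotientGroup.mk' (R : Subgroup N))).map e.toMonoidHom) ?_
        rw [index_map_of_bijective e.bijective, index_comap_of_surjective _ (QuotientGroup.mk'_surjective _)]
        have := card_mul_index T
        rw [hT, ← index_eq_card, hidx8] at this
        omega
      have hM2 : Nat.card M ∣ 8 :=
        (Nat.Coprime.dvd_of_dvd_mul_right
          ((Nat.Prime.coprime_iff_not_dvd Nat.prime_three).2 hM3).symm
          (show Nat.card M ∣ 8 * 3 by rw [show 8 * 3 = Nat.card N by omega]; exact card_subgroup_dvd_card M))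
      -- a normal two-subgroup normalising a subgroup of order three centralises it
      have hcent : ∀ (P : Sylow 3 N), ∀ m ∈ M, ∀ w ∈ (P : Subgroup N), m * w = w * m := by
        intro P m hm w hw
        have h1 : m * w * m⁻¹ * w⁻¹ ∈ M := by
          rw [mul_assoc m w, mul_assoc m]
          exact mul_mem hm (Subgroup.Normal.conj_mem inferInstance _ (inv_mem hm) w)
        have h2 : m * w * m⁻¹ * w⁻¹ ∈ (P : Subgroup N) :=
          mul_mem ((mem_normalizer_iff.1 (hnorm P hm) w).1 hw) (inv_mem hw)
        have h3 : orderOf (m * w * m⁻¹ * w⁻¹) ∣ 1 := by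
          obtain ⟨j, hj⟩ := P.2 ⟨_, h2⟩
          have hd3 : orderOf (m * w * m⁻¹ * w⁻¹) ∣ 3 ^ j :=
            orderOf_dvd_of_pow_eq_one (congrArg Subtype.val hj)
          have hd2 : orderOf (m * w * m⁻¹ * w⁻¹) ∣ 2 ^ 3 := by
            rw [show m * w * m⁻¹ * w⁻¹ = ((⟨_, h1⟩ : M) : N) from rfl, Subgroup.orderOf_coe]
            exact (_root_.orderOf_dvd_natCard _).trans hM2
          have hcop : Nat.Coprime (2 ^ 3) (3 ^ j) := Nat.Coprime.pow _ _ (by norm_num)
          exact hcop ▸ Nat.dvd_gcd hd2 hd3
        have h4 := orderOf_eq_one_iff.1 (Nat.dvd_one.1 h3)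
        calc m * w = m * w * m⁻¹ * w⁻¹ * (w * m) := by group
          _ = w * m := by rw [h4, one_mul]
      -- the subgroups of order three generate
      have hgen : centralizer (M : Set N) = ⊤ := by
        set C := centralizer (M : Set N) with hCdef
        haveI : C.Normal := Subgroup.normal_centralizer
        have hP : ∀ P : Sylow 3 N, (P : Subgroup N) ≤ C := fun P w hw =>
          mem_centralizer_iff.2 fun m hm => hcent P m hm w hw
        by_contra hne
        haveI : Fact (Nat.Prime 2) := ⟨Nat.prime_two⟩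
        obtain ⟨P⟩ : Nonempty (Sylow 3 N) := inferInstance
        have h1 := card_mul_index C
        rw [hN24] at h1
        have h3 : 3 ∣ Nat.card C := (P.dvd_card_of_dvd_card (by rw [hN24]; norm_num)).trans
          (card_dvd_of_le (hP P))
        have hidx : C.index ∣ 8 := by
          obtain ⟨c, hc⟩ := h3
          rw [hc, mul_assoc] at h1
          exact Dvd.intro_left c (by omega)
        obtain ⟨a, -, ha⟩ := (Nat.dvd_prime_pow Nat.prime_two).1 (show C.index ∣ 2 ^ 3 from hidx)
        rcases a with _ | a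
        · exact hne (index_eq_one.1 (by rw [ha, pow_zero]))
        obtain ⟨T, hT⟩ := Sylow.exists_subgroup_card_pow_prime (G := N ⧸ C) 2 (n := a)
          (by rw [← index_eq_card, ha]; exact pow_dvd_pow 2 a.le_succ)
        refine GW.SL_two_index_ne_two (F := F) (cover_odd K)
          ((T.comap (QuotientGroup.mk' C)).map e.toMonoidHom) ?_
        rw [index_map_of_bijective e.bijective, index_comap_of_surjective _ (QuotientGroup.mk'_surjective _)]
        have := card_mul_index T
        rw [hT, ← index_eq_card, ha, pow_succ] at this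
        exact Nat.eq_of_mul_eq_mul_left (pow_pos two_pos a) this
      refine hC (mem_centralizer_iff.2 fun w hw => ?_)
      have h5 : (⟨w, hw⟩ : N) ∈ centralizer (M : Set N) := hgen ▸ mem_top _
      have h6 := mem_centralizer_iff.1 h5 ⟨y, hyN⟩ (mem_subgroupOf.2 hy)
      exact (congrArg Subtype.val h6).symm
    refine hC (mem_centralizer_iff.2 fun w hw => ?_)
    have hcomm : ∀ n : N, x * n * x⁻¹ * (n : Q)⁻¹ ∈ Z := fun n => by
      refine hin _ ?_ (mul_mem (Subgroup.Normal.conj_mem inferInstance _ n.2 x) (inv_mem n.2))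
      rw [mul_assoc x, mul_assoc x]
      exact mul_mem hx (Subgroup.Normal.conj_mem inferInstance _ (inv_mem hx) _)
    let φ : N →* Q := MonoidHom.mk' (fun n => x * n * x⁻¹ * (n : Q)⁻¹) fun a b => by
      have hc := mem_center_iff.1 (K.central (hcomm b)) ((a : Q))
      show x * ↑(a * b) * x⁻¹ * (↑(a * b))⁻¹ = (x * a * x⁻¹ * (a : Q)⁻¹) * (x * b * x⁻¹ * (b : Q)⁻¹)
      calc x * ↑(a * b) * x⁻¹ * (↑(a * b))⁻¹
          = x * (a : Q) * x⁻¹ * ((x * (b : Q) * x⁻¹ * (b : Q)⁻¹) * (a : Q)⁻¹) := by
            rw [Subgroup.coe_mul]; group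
        _ = x * (a : Q) * x⁻¹ * ((a : Q)⁻¹ * (x * (b : Q) * x⁻¹ * (b : Q)⁻¹)) := by
            rw [mem_center_iff.1 (K.central (hcomm b)) (a : Q)⁻¹]
        _ = _ := by group
    have := DFunLike.congr_fun (hom_trivial K φ hcomm h2) ⟨w, hw⟩
    simp only [φ, MonoidHom.mk'_apply, MonoidHom.one_apply] at this
    calc w * x = (x * w * x⁻¹ * w⁻¹)⁻¹ * (x * w) := by group
      _ = x * w := by rw [this]; simp
  have hdvd : act.ker.index ∣ 24 := by
    rw [index_ker]
    refine (card_subgroup_dvd_card _).trans ?_
    rw [Nat.card_perm]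
    rcases hn with h | h <;> rw [h] <;> decide
  have hQ : Nat.card Q ∣ 2 * 24 := by
    rw [← card_mul_index act.ker]
    exact Nat.mul_dvd_mul (h2 ▸ card_dvd_of_le hact) hdvd
  rw [← card_mul_index (N ⊔ Z), hle, hN24, ← hle, hidx] at hQ
  have h2k : 2 * k ∣ 2 := Nat.dvd_of_mul_dvd_mul_left (show 0 < 24 by norm_num) hQ
  have := Nat.le_of_dvd two_pos h2k
  have hpos := hk.pos
  omega

end Cover

end Cfsg.Lib.LenSeven
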