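import Cfsg.Agent.Lib.LenSeven.RankThree
import Cfsg.Agent.Lib.LenEight.Classify
import Cfsg.Agent.Lib.GW.Main
import Cfsg.Agent.Lib.Concrete.MTwentyOne
import Cfsg.Agent.S0506
import Cfsg.Agent.S0516
import Cfsg.Agent.S1141
import Cfsg.Agent.S2554
import Cfsg.Prelude.Def_Classification2

/-!
# Simple groups of length at most seven by their Sylow 2-subgroups

Everything reduces to a quasi-dihedral Sylow subgroup of order 16 or 32 or a wreathed one of order 32.
-/

set_option autoImplicit false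
set_option linter.style.haveILetI false
set_option linter.unusedSectionVars false

namespace Cfsg.Lib.LenSeven

open Subgroup LenEight

universe u

/-- The simple groups of length at most seven. -/
def Concl (G : Type u) [Group G] : Prop :=
  (∃ (F : Type) (_ : Field F) (_ : Fintype F), Nonempty (G ≃* Matrix.ProjectiveSpecialLinearGroup (Fin 2) F)) ∨
    (∃ (F : Type) (_ : Field F) (_ : Fintype F), Fintype.card F = 9 ∧ Nonempty (G ≃* Cfsg.PSU 3 F 3)) ∨
    Nonempty (G ≃* ↥(alternatingGroup (Fin 7))) ∨ Cfsg.Spor.IsoM11 G ∨ Cfsg.Spor.IsoJ1 G ∨ Nat.card G = 126000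

variable {G : Type u} [Group G] [Finite G] [IsSimpleGroup G]

/-- A chain in a proper subgroup has at most six steps. -/
theorem chain_proper_le (hlen : LenLe (⊤ : Subgroup G) 7) {H : Subgroup G} (hH : H ≠ ⊤) {n : ℕ}
    (hc : Chain H n) : n ≤ 6 := by
  have := hlen.chain_le (hc.succ (lt_top_iff_ne_top.2 hH))
  omega

theorem sylow_ne_top (hna : ¬ IsMulCommutative G) (S : Sylow 2 G) : (S : Subgroup G) ≠ ⊤ := fun e => by
  haveI : Fact (Nat.Prime 2) := ⟨Nat.prime_two⟩
  have hp : IsPGroup 2 G := by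
    intro g
    obtain ⟨k, hk⟩ := S.2 ⟨g, e ▸ mem_top g⟩
    exact ⟨k, congrArg Subtype.val hk⟩
  haveI := hp.isNilpotent
  exact not_solvable_simple hna inferInstance

/-- A Sylow subgroup with a subgroup strictly between it and the group. -/
theorem coatom_of_card_six (hna : ¬ IsMulCommutative G) (hlen : LenLe (⊤ : Subgroup G) 7) (S : Sylow 2 G)
    (h6 : Nat.card (S : Subgroup G) = 2 ^ 6) : IsCoatom (S : Subgroup G) := by
  haveI : Fact (Nat.Prime 2) := ⟨Nat.prime_two⟩
  refine ⟨sylow_ne_top hna S, fun H hH => ?_⟩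
  by_contra hne
  have := chain_proper_le hlen hne ((chain_of_card_eq_pow h6).succ hH)
  omega

theorem coatom_normalizer (hna : ¬ IsMulCommutative G) (hlen : LenLe (⊤ : Subgroup G) 7) (S : Sylow 2 G)
    (h5 : Nat.card (S : Subgroup G) = 2 ^ 5) :
    normalizer ((S : Subgroup G) : Set G) ≠ (S : Subgroup G) →
      IsCoatom (normalizer ((S : Subgroup G) : Set G)) := by
  haveI : Fact (Nat.Prime 2) := ⟨Nat.prime_two⟩
  intro hne
  have hlt : (S : Subgroup G) < normalizer ((S : Subgroup G) : Set G) :=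
    lt_of_le_of_ne le_normalizer hne.symm
  refine ⟨normalizer_ne_top (fun e => by rw [e, card_bot] at h5; norm_num at h5) (sylow_ne_top hna S),
    fun H hH => ?_⟩
  by_contra hne'
  have := chain_proper_le hlen hne' (((chain_of_card_eq_pow h5).succ hlt).succ hH)
  omega

omit [IsSimpleGroup G] in
/-- A Sylow 2-subgroup without elementary abelian subgroups of order eight bounds the 2-rank. -/
theorem pRankLE_two (S : Sylow 2 G)
    (h : ∀ B : Subgroup G, B ≤ (S : Subgroup G) → (∀ b ∈ B, b * b = 1) → Nat.card B ≠ 8) :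
    Cfsg.PRankLE 2 2 G := by
  haveI : Fact (Nat.Prime 2) := ⟨Nat.prime_two⟩
  intro A _ hA
  by_contra hlt
  push Not at hlt
  have hp : IsPGroup 2 A := fun a => ⟨1, Subtype.ext (by simpa using hA a a.2)⟩
  obtain ⟨k, hk⟩ := IsPGroup.iff_card.1 hp
  have h3 : 3 ≤ k := by
    by_contra h3
    rw [hk] at hlt
    have := Nat.pow_le_pow_right (n := 2) two_pos (show k ≤ 2 by omega)
    omega
  obtain ⟨B, hB⟩ := Sylow.exists_subgroup_card_pow_prime (G := A) 2 (n := 3)
    (hk ▸ pow_dvd_pow 2 h3)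
  have hBp : IsPGroup 2 (B.map A.subtype) := (hp.to_subgroup B).map _
  obtain ⟨T, hT⟩ := hBp.exists_le_sylow
  obtain ⟨g, hg⟩ := MulAction.exists_smul_eq G T S
  refine h ((B.map A.subtype).map (MulAut.conj g).toMonoidHom) ?_ ?_ ?_
  · rintro _ ⟨b, hb, rfl⟩
    rw [← hg, Sylow.coe_subgroup_smul]
    exact ⟨b, hT hb, rfl⟩
  · rintro _ ⟨_, ⟨b, hb, rfl⟩, rfl⟩
    rw [← map_mul, ← map_mul]
    have : b * b = 1 := Subtype.ext (by
      have := hA b b.2
      simpa [pow_two] using this)
    rw [this, map_one, map_one]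
  · rw [card_map_of_injective (MulAut.conj g).injective, card_map_of_injective A.subtype_injective, hB]
    norm_num

/-- The groups `PSL(3, 4)` are too long. -/
theorem not_psl34 (hna : ¬ IsMulCommutative G) (hlen : LenLe (⊤ : Subgroup G) 7) :
    ¬ CIT.IsoPSLThreeFour G := by
  classical
  rintro ⟨F, i, j, hF, ⟨e⟩⟩
  haveI : Fact (Nat.Prime 2) := ⟨Nat.prime_two⟩
  let P := Matrix.ProjectiveSpecialLinearGroup (Fin 3) F
  haveI : Fintype (Cfsg.Lib.Concrete.MTwentyOne.PPt F) := Fintype.ofFinite _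
  have h21 : Nat.card (Cfsg.Lib.Concrete.MTwentyOne.PPt F) = 21 := by
    rw [Nat.card_eq_fintype_card]
    exact Cfsg.Lib.Concrete.MTwentyOne.card_PPt F hF
  obtain ⟨x⟩ : Nonempty (Cfsg.Lib.Concrete.MTwentyOne.PPt F) :=
    (Nat.card_pos_iff.1 (by rw [h21]; norm_num)).1
  have hidx : (MulAction.stabilizer P x).index = 21 := by
    rw [MulAction.index_stabilizer, ← h21, ← Set.ncard_univ]
    congr 1
    refine Set.eq_univ_of_forall fun y => ?_
    obtain ⟨A, hA⟩ := MulAction.exists_smul_eq (Matrix.SpecialLinearGroup (Fin 3) F) x y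
    refine ⟨(A : P), ?_⟩
    induction x using Projectivization.ind with
    | _ v hv =>
      show (A : P) • Projectivization.mk F v hv = y
      rw [Matrix.ProjectiveSpecialLinearGroup.smul_proj_mk]
      exact hA
  have hcard : Nat.card (MulAction.stabilizer P x) = 960 := by
    have := card_mul_index (MulAction.stabilizer P x)
    rw [hidx, Cfsg.Lib.Concrete.MTwentyOne.card_psl34 F hF] at this
    omega
  set H := (MulAction.stabilizer P x).map e.symm.toMonoidHom
  have hHcard : Nat.card H = 960 := by rw [card_map_of_injective e.symm.injective, hcard]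
  obtain ⟨B, hB⟩ := Sylow.exists_subgroup_card_pow_prime (G := H) 2 (n := 6) (by rw [hHcard]; norm_num)
  have hBc : Nat.card (B.map H.subtype) = 2 ^ 6 := by rw [card_map_of_injective H.subtype_injective, hB]
  have hlt : B.map H.subtype < H := lt_of_le_of_ne (map_subtype_le B) fun e1 => by
    rw [e1, hHcard] at hBc
    norm_num at hBc
  have hHtop : H ≠ ⊤ := fun e1 => by
    have := Nat.card_congr e.toEquiv
    rw [Cfsg.Lib.Concrete.MTwentyOne.card_psl34 F hF] at this
    rw [e1, card_top] at hHcard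
    omega
  have := chain_proper_le hlen hHtop ((chain_of_card_eq_pow hBc).succ hlt)
  omega

/-- Order 64: `PSL(2, q)`. -/
theorem concl_of_six (hna : ¬ IsMulCommutative G) (hlen : LenLe (⊤ : Subgroup G) 7) (S : Sylow 2 G)
    (h6 : Nat.card (S : Subgroup G) = 2 ^ 6) : Concl G := by
  haveI : Fact (Nat.Prime 2) := ⟨Nat.prime_two⟩
  have hco := coatom_of_card_six hna hlen S h6
  have h8 : LenLe (⊤ : Subgroup G) 8 := fun hc => hlen (hc.of_le (by norm_num))
  have hG : CIT.IsCIT G :=
    isCIT_of_len (Nat.card G) G le_rfl hna S 6 h6 (by norm_num) (by norm_num) hco h8 fun _ => hlen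
  have hti : CIT.TIHolds.{u} := fun Y _ _ H hD => CIT.exists_tiShape hD
  rcases CIT.trichotomy (CIT.ffHolds hti) (Nat.card G + 1) G hna hG (Nat.lt_succ_self _) with ht | ht | ht
  · exfalso
    have hSne : (S : Subgroup G) ≠ ⊥ := fun e => by
      rw [e, card_bot] at h6
      norm_num at h6
    have hD := CIT.tiData hna hG ht S
    obtain ⟨E, t, hE⟩ := hti G _ hD
    have hself : normalizer ((S : Subgroup G) : Set G) = S := by
      rcases eq_or_lt_of_le (le_normalizer (H := (S : Subgroup G))) with e | e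
      · exact e.symm
      · exact absurd (hco.2 _ e) (normalizer_ne_top hSne hco.1)
    have hE1 : E = ⊥ := by
      rw [eq_bot_iff, ← hE.inf_eq]
      exact le_inf (hself ▸ hE.le_normalizer) le_rfl
    obtain ⟨a, ha, b, hb, hoa, hob, hab⟩ := hD.two_involutions
    have hc := hE.card_eq
    rw [hE1, card_bot] at hc
    haveI := (Nat.card_eq_one_iff_unique.1 hc.symm).1
    exact hab (congrArg Subtype.val (Subsingleton.elim
      (⟨a, ha, hoa⟩ : {a : G // a ∈ (S : Subgroup G) ∧ orderOf a = 2}) ⟨b, hb, hob⟩))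
  · exact Or.inl (CIT.psl_of_dihedral hna hG ht)
  · exact absurd ht (not_psl34 hna hlen)

/-- An abelian Sylow 2-subgroup: `PSL(2, q)` or `J₁`. -/
theorem concl_of_comm (hna : ¬ IsMulCommutative G) (hlen : LenLe (⊤ : Subgroup G) 7) (S : Sylow 2 G)
    (hS : IsMulCommutative (S : Subgroup G)) : Concl G := by
  rcases Agent.S0506.result hna S hS with ⟨a, -, F, i, j, -, e⟩ | ⟨F, i, j, -, e⟩ | ⟨-, m, hm, hR⟩ | hJ
  · exact Or.inl ⟨F, i, j, e⟩
  · exact Or.inl ⟨F, i, j, e⟩
  · exfalso
    haveI : Fact (Nat.Prime 3) := ⟨Nat.prime_three⟩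
    obtain ⟨P, hP⟩ := Sylow.exists_subgroup_card_pow_prime (G := G) 3 (n := 9) (by
      rw [hR, ← pow_mul]
      exact Dvd.dvd.mul_right (Dvd.dvd.mul_right (pow_dvd_pow 3 (by omega)) _) _)
    have := hlen.chain_le ((chain_of_card_eq_pow hP).mono le_top)
    omega
  · have hab : ∀ (p : ℕ), p.Prime → ∀ (P : Sylow p G), IsMulCommutative ↥P := by
      intro p hp P
      haveI : Fact p.Prime := ⟨hp⟩
      by_cases h2 : p = 2
      · subst h2
        obtain ⟨g, hg⟩ := MulAction.exists_smul_eq G S P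
        exact ⟨⟨fun a b => (S.equiv P).symm.injective (by
          rw [map_mul, map_mul]
          exact hS.1.comm _ _)⟩⟩
      · have hc := P.card_eq_multiplicity
        rw [hJ.2] at hc
        have hle : (175560 : ℕ).factorization p ≤ 1 := by
          by_contra hlt
          have h2' : p ^ 2 ∣ 175560 :=
            (hp.pow_dvd_iff_le_factorization (by norm_num)).2 (by omega)
          have h1 : p ∣ 2 ^ 3 * (3 * (5 * (7 * (11 * 19)))) :=
            (dvd_pow_self p two_ne_zero).trans (by simpa using h2')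
          rcases hp.dvd_mul.1 h1 with h | h
          · exact h2 ((Nat.prime_dvd_prime_iff_eq hp Nat.prime_two).1 (hp.dvd_of_dvd_pow h))
          have hcase : p = 3 ∨ p = 5 ∨ p = 7 ∨ p = 11 ∨ p = 19 := by
            rcases hp.dvd_mul.1 h with h | h
            · exact Or.inl ((Nat.prime_dvd_prime_iff_eq hp (by norm_num)).1 h)
            rcases hp.dvd_mul.1 h with h | h
            · exact Or.inr (Or.inl ((Nat.prime_dvd_prime_iff_eq hp (by norm_num)).1 h))
            rcases hp.dvd_mul.1 h with h | h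
            · exact Or.inr (Or.inr (Or.inl ((Nat.prime_dvd_prime_iff_eq hp (by norm_num)).1 h)))
            rcases hp.dvd_mul.1 h with h | h
            · exact Or.inr (Or.inr (Or.inr (Or.inl ((Nat.prime_dvd_prime_iff_eq hp (by norm_num)).1 h))))
            · exact Or.inr (Or.inr (Or.inr (Or.inr ((Nat.prime_dvd_prime_iff_eq hp (by norm_num)).1 h))))
          rcases hcase with rfl | rfl | rfl | rfl | rfl <;> norm_num at h2'
        rcases Nat.le_one_iff_eq_zero_or_eq_one.1 hle with h0 | h1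
        · rw [h0, pow_zero] at hc
          haveI : Subsingleton (P : Subgroup G) := (Nat.card_eq_one_iff_unique.1 hc).1
          exact ⟨⟨fun a b => Subsingleton.elim _ _⟩⟩
        · rw [h1, pow_one] at hc
          haveI := isCyclic_of_prime_card hc
          infer_instance
    rcases Agent.S2554.result hna hab with hJ1 | ⟨F, i, j, -, -, e⟩
    · exact Or.inr (Or.inr (Or.inr (Or.inr (Or.inl hJ1))))
    · exact Or.inl ⟨F, i, j, e⟩

/-- A dihedral Sylow 2-subgroup. -/
theorem concl_of_dihedral (hna : ¬ IsMulCommutative G) (S : Sylow 2 G) {n : ℕ} (hn : 2 ≤ n)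
    (e : (S : Subgroup G) ≃* DihedralGroup n) : Concl G := by
  haveI : Fact (Nat.Prime 2) := ⟨Nat.prime_two⟩
  rcases GW.simpleGW G hna (fun T => ⟨n, hn, ⟨(T.equiv S).trans e⟩⟩) with ⟨F, i, j, -, -, h⟩ | h
  · exact Or.inl ⟨F, i, j, h⟩
  · exact Or.inr (Or.inr (Or.inl h))

/-- The reduction to quasi-dihedral and wreathed Sylow 2-subgroups. -/
theorem concl_of (hna : ¬ IsMulCommutative G) (hlen : LenLe (⊤ : Subgroup G) 7)
    (hQD : ∀ S : Sylow 2 G, Cfsg.IsQuasiDihedral (S : Subgroup G) → Nat.card (S : Subgroup G) ≤ 32 → Concl G)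
    (hW : ∀ S : Sylow 2 G, Cfsg.IsWreathed (S : Subgroup G) → Nat.card (S : Subgroup G) = 32 → Concl G) :
    Concl G := by
  classical
  haveI : Fact (Nat.Prime 2) := ⟨Nat.prime_two⟩
  obtain ⟨S⟩ : Nonempty (Sylow 2 G) := inferInstance
  by_cases hS : IsMulCommutative (S : Subgroup G)
  · exact concl_of_comm hna hlen S hS
  obtain ⟨k, hk⟩ := IsPGroup.iff_card.1 S.2
  have hk6 : k ≤ 6 := chain_proper_le hlen (sylow_ne_top hna S) (chain_of_card_eq_pow hk)
  rcases hk6.lt_or_eq with hk5 | rfl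
  swap
  · exact concl_of_six hna hlen S hk
  have hnab : ¬ ∀ x ∈ (S : Subgroup G), ∀ y ∈ (S : Subgroup G), x * y = y * x := fun h =>
    hS ⟨⟨fun a b => Subtype.ext (h a a.2 b b.2)⟩⟩
  by_cases hB : ∃ B : Subgroup G, B ≤ (S : Subgroup G) ∧ (∀ b ∈ B, b * b = 1) ∧ Nat.card B = 8
  · exfalso
    obtain ⟨B, hBS, hB2, hB8⟩ := hB
    have hd := card_dvd_of_le hBS
    rw [hB8, hk, show 8 = 2 ^ 3 by norm_num, Nat.pow_dvd_pow_iff_le_right (by norm_num)] at hd
    rcases (show k = 3 ∨ k = 4 ∨ k = 5 by omega) with rfl | rfl | rfl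
    · have e := eq_of_le_of_card_ge hBS (by rw [hk, hB8]; norm_num)
      exact hnab fun x hx y hy => comm_of_sq hB2 (e ▸ hx) (e ▸ hy)
    · have hi : B.relIndex (S : Subgroup G) = 2 := by
        have := card_mul_index (B.subgroupOf (S : Subgroup G))
        rw [Nat.card_congr (subgroupOfEquivOfLe hBS).toEquiv, hB8, hk] at this
        show (B.subgroupOf (S : Subgroup G)).index = 2
        omega
      exact false_of_sixteen hna S hBS hB2 hi hnab hB8
    · exact false_of_rank hna S (by rw [hk]; norm_num) hBS hB2 hB8 hnab (coatom_normalizer hna hlen S hk)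
  push Not at hB
  obtain ⟨P⟩ : Nonempty (Sylow 2 (Cfsg.PSU 3 (GaloisField 2 4) 4)) := inferInstance
  haveI : Fintype (GaloisField 2 4) := Fintype.ofFinite _
  have hF : Fintype.card (GaloisField 2 4) = 16 := by
    rw [← Nat.card_eq_fintype_card, GaloisField.card 2 4 (by norm_num)]
    norm_num
  rcases Agent.S0516.result hna (pRankLE_two S fun B h1 h2 => hB B h1 h2) S hF P with
    ⟨n, hn, ⟨e⟩⟩ | hq | hw | ⟨⟨e⟩⟩
  · exact concl_of_dihedral hna S hn e
  · exact hQD S hq (by rw [hk]; exact le_trans (Nat.pow_le_pow_right two_pos (show k ≤ 5 by omega)) (by norm_num))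
  · refine hW S hw ?_
    obtain ⟨n, hn, hc, -⟩ := hw
    rw [hk] at hc ⊢
    have := Nat.pow_right_injective le_rfl hc
    rw [show k = 5 by omega]
    norm_num
  · exfalso
    have h1 := (Agent.S1141.result (n := 2) le_rfl (by rw [hF]; norm_num) P).1
    have h2 : 2 ^ k = (2 ^ 2) ^ 3 := by rw [← hk, Nat.card_congr e.toEquiv]; exact h1
    rw [← pow_mul] at h2
    have := Nat.pow_right_injective le_rfl h2
    omega

end Cfsg.Lib.LenSeven
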