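import Cfsg.Agent.Lib.LenSeven.Data
import Cfsg.Agent.Lib.LenSeven.Quot
import Cfsg.Agent.Lib.LenSeven.Split

/-!
# The centralizer of an involution in a simple group of length at most seven
-/

set_option autoImplicit false
set_option linter.style.haveILetI false
set_option linter.unusedSectionVars false

namespace Cfsg.Lib.LenSeven

open Cfsg Subgroup LenEight OrderSDW TwoGroup ArithmeticFunction
open scoped MatrixGroups

universe u

variable {G : Type u} [Group G] [Fintype G] [Fact (Nat.Prime 2)]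

/-- A chain in a subgroup from a map onto a group. -/
theorem chain_of_surj {H : Subgroup G} {Q : Type*} [Group Q] (f : H →* Q) (hf : Function.Surjective f)
    {a b : ℕ} (ha : Chain f.ker a) (hb : Chain (⊤ : Subgroup Q) b) : Chain H (a + b) :=
  (Chain.top_append f hf ha hb).top_subtype

/-- A group that is not trivial has a chain of one step, and of two if its order is not prime. -/
theorem chain_one {X : Type*} [Group X] [Finite X] {H : Subgroup X} (h : H ≠ ⊥) : Chain H 1 :=
  (Chain.zero ⊥).succ (bot_lt_iff_ne_bot.2 h)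

theorem chain_two {X : Type*} [Group X] [Finite X] {H : Subgroup X} (h : H ≠ ⊥)
    (hp : ¬ (Nat.card H).Prime) : Chain H 2 := by
  obtain ⟨r, hr, hrd⟩ := Nat.exists_prime_and_dvd (n := Nat.card H) (fun e => h (card_eq_one.1 e))
  haveI : Fact r.Prime := ⟨hr⟩
  obtain ⟨R, hR⟩ := Sylow.exists_subgroup_card_pow_prime (G := H) r (n := 1) (by rwa [pow_one])
  rw [pow_one] at hR
  have hRH : Nat.card (R.map H.subtype) = r := by rw [card_map_of_injective H.subtype_injective, hR]
  refine ((chain_of_card_eq_pow (p := r) (a := 1) (by rw [hRH, pow_one])).succ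
    (lt_of_le_of_ne (map_subtype_le R) fun e => hp ?_))
  rw [← e, hRH]
  exact hr

/-- A chain of six in a proper subgroup makes it maximal. -/
theorem isCoatom_of_chain_six (hlen : LenLe (⊤ : Subgroup G) 7) {H : Subgroup G} (hH : H ≠ ⊤)
    (h : Chain H 6) : IsCoatom H := by
  refine ⟨hH, fun K hK => ?_⟩
  by_contra hne
  have := hlen.chain_le ((h.succ hK).succ (lt_top_iff_ne_top.2 hne))
  omega

theorem factorization_sylow_le {S : Sylow 2 G} {H : Subgroup G} (h : (S : Subgroup G) ≤ H) {k : ℕ}
    (hk : Nat.card (S : Subgroup G) = 2 ^ k) : (Nat.card H).factorization 2 = k := by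
  have h1 := (S.subtype h).card_eq_multiplicity
  rw [Sylow.coe_subtype, Nat.card_congr (subgroupOfEquivOfLe h).toEquiv, hk] at h1
  exact (Nat.pow_right_injective le_rfl h1).symm

section Fields

variable {F : Type} [Field F] [Fintype F] [DecidableEq F] {p : ℕ} [Fact p.Prime] [CharP F p]

theorem card_ker' {H H' : Subgroup G} {Q : Type*} [Group Q] (f : H →* Q) {O : Subgroup H'}
    (h : f.ker.map H.subtype = O.map H'.subtype) : Nat.card f.ker = Nat.card O := by
  rw [← card_map_of_injective H.subtype_injective (K := f.ker), h, card_map_of_injective H'.subtype_injective]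

theorem chain_ker {H H' : Subgroup G} {Q : Type*} [Group Q] (f : H →* Q) {O : Subgroup H'}
    (h : f.ker.map H.subtype = O.map H'.subtype) {o : ℕ} (ho : Chain O o) : Chain f.ker o := by
  have h1 := (h ▸ ho.map H'.subtype H'.subtype_injective).to_subtype (map_subtype_le f.ker)
  rwa [subgroupOf, comap_map_eq_self_of_injective H.subtype_injective] at h1

theorem card_quot {Q : Type u} [Group Q] [Fintype Q] (L : Local G Q F p) :
    Nat.card (Cen L.z) = Nat.card L.f.ker * Nat.card Q := by
  rw [← card_mul_index L.f.ker, index_ker, MonoidHom.range_eq_top.2 L.surj, card_top]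

/-- The semidihedral centralizer. -/
theorem cent_sd (S : Sylow 2 G) {m : ℕ} (d : SD ↥(S : Subgroup G) m) {z : G} (hz : orderOf z = 2)
    (hzS : z ∈ S) (hzc : ∀ s ∈ (S : Subgroup G), s * z = z * s) (hp : p ≠ 2)
    (hodd : Fintype.card F % 2 = 1)
    (hL : ∃ N : Subgroup (CQ z), N.Normal ∧ Nonempty (N ≃* SL(2, F))) :
    ∃ k : ℕ, Odd k ∧
      Nat.card (Cen z) = Nat.card (oddCore ↥(Cen z)) * (Fintype.card F * (Fintype.card F ^ 2 - 1) * (2 * k)) ∧
      m + 1 = (Fintype.card F ^ 2 - 1).factorization 2 + 1 ∧ (Fintype.card F = 3 → k = 1) ∧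
      ∀ o a : ℕ, Chain (oddCore ↥(Cen z)) o →
        Chain (⊤ : Subgroup (Matrix.ProjectiveSpecialLinearGroup (Fin 2) F)) a →
        Chain (Cen z) (o + (1 + a + cardFactors (2 * k))) := by
  obtain ⟨L, hLz, hZG, hh, hZ2, hC, hout, hne, hker⟩ := local_sd S hz hzc d hzS hp hL hodd
  have K := L.cover
  obtain ⟨k, hk, hidx⟩ := exists_index K
  have hle : L.N ⊔ L.Z = L.N := sup_eq_left.2 (le_of_card_two K hZ2)
  have hQ : Nat.card (CQ z) = Fintype.card F * (Fintype.card F ^ 2 - 1) * (2 * k) := by
    rw [← card_mul_index (L.N ⊔ L.Z), hidx, hle, card_N K]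
  have hC2 := card_quot L
  rw [card_ker' L.f hker, hQ, hLz] at hC2
  refine ⟨k, hk, hC2, ?_, fun h3 => ?_, fun o a ho ha => ?_⟩
  · have h1 := factorization_sylow_le (H := Cen z) (sylow_le_cen S hzc) d.card
    have hq2 : 2 ≤ Fintype.card F := Fintype.one_lt_card
    have hsq : Fintype.card F ^ 2 - 1 ≠ 0 := by
      have := Nat.pow_le_pow_left hq2 2
      omega
    have hO : (Nat.card (oddCore ↥(Cen z))).factorization 2 = 0 :=
      Nat.factorization_eq_zero_of_not_dvd fun h =>
        Nat.not_even_iff_odd.2 Cfsg.Lib.ZStar.odd_card_oddCore (even_iff_two_dvd.2 h)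
    have hk0 : k.factorization 2 = 0 :=
      Nat.factorization_eq_zero_of_not_dvd fun h => Nat.not_even_iff_odd.2 hk (even_iff_two_dvd.2 h)
    have hq0 : (Fintype.card F).factorization 2 = 0 :=
      Nat.factorization_eq_zero_of_not_dvd fun h => by omega
    have hk' : k ≠ 0 := hk.pos.ne'
    rw [hC2, Nat.factorization_mul Nat.card_pos.ne' (by positivity),
      Nat.factorization_mul (by positivity) (by positivity),
      Nat.factorization_mul (by omega) hsq, Nat.factorization_mul two_ne_zero hk'] at h1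
    simp only [Finsupp.add_apply, hO, hq0, hk0, Nat.prime_two.factorization_self] at h1
    omega
  · have := index_of_three K h3 hZ2 hC
    omega
  · refine (chain_of_surj L.f L.surj (chain_ker L.f hker ho) ?_).mono (le_of_eq (congrArg Cen hLz))
    rw [← hidx]
    refine chain_index K ?_
    rw [hle]
    exact chain_sl (Nat.odd_iff.2 hodd) L.e ha

/-- The wreathed centralizer. -/
theorem cent_w (S : Sylow 2 G) {m : ℕ} (d : W ↥(S : Subgroup G) m) {z : G} (hz : orderOf z = 2)
    (hzS : z ∈ S) (hzc : ∀ s ∈ (S : Subgroup G), s * z = z * s) (hp : p ≠ 2)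
    (hodd : Fintype.card F % 2 = 1)
    (hL : ∃ N : Subgroup (CQ z), N.Normal ∧ Nonempty (N ≃* SL(2, F))) :
    ∃ k : ℕ, Odd k ∧
      Nat.card (Cen z) =
        Nat.card (oddCore ↥(Cen z)) * (Fintype.card F * (Fintype.card F ^ 2 - 1) * 2 ^ m * k) ∧
      ∀ o a : ℕ, Chain (oddCore ↥(Cen z)) o →
        Chain (⊤ : Subgroup (Matrix.ProjectiveSpecialLinearGroup (Fin 2) F)) a →
        Chain (Cen z) (o + (1 + a + 1 + cardFactors (2 * k))) := by
  obtain ⟨L, hLz, hZG, hh, hcZ, hZc, ⟨v, hv, hv4⟩, hin, hne, hker⟩ := local_w S hz hzc d hzS hp hL hodd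
  have K := L.cover
  obtain ⟨k, hk, hidx⟩ := exists_index K
  have hQ : Nat.card (CQ z) = Fintype.card F * (Fintype.card F ^ 2 - 1) * 2 ^ m * k := by
    have h := card_sup K
    rw [card_N K, hcZ] at h
    rw [← card_mul_index (L.N ⊔ L.Z), hidx, ← h]
    ring
  have hC2 := card_quot L
  rw [card_ker' L.f hker, hQ, hLz] at hC2
  refine ⟨k, hk, hC2, fun o a ho ha => ?_⟩
  refine (chain_of_surj L.f L.surj (chain_ker L.f hker ho) ?_).mono (le_of_eq (congrArg Cen hLz))
  rw [← hidx]
  exact chain_index K ((chain_sl (Nat.odd_iff.2 hodd) L.e ha).succ (lt_sup K hv hv4))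

end Fields

section Shapes

variable [IsSimpleGroup G] (hna : ¬ IsMulCommutative G) (hlen : LenLe (⊤ : Subgroup G) 7)

include hna in
theorem cen_ne_top {z : G} (hz : orderOf z = 2) : Cen z ≠ ⊤ :=
  centralizer_ne_top hna (Cfsg.Lib.Invol.ne_one hz)

theorem cardFactors_two_mul {k : ℕ} (hk : Odd k) : cardFactors (2 * k) = 1 + cardFactors k := by
  rw [cardFactors_mul two_ne_zero hk.pos.ne', cardFactors_apply_prime Nat.prime_two]

theorem eq_one_of_cardFactors {k : ℕ} (hk : 0 < k) (h : cardFactors k = 0) : k = 1 := by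
  by_contra hne
  have := cardFactors_pos_iff_one_lt.2 (show 1 < k by omega)
  omega

include hna hlen in
/-- The centralizer for a quasi-dihedral Sylow subgroup. -/
theorem qd_shape (S : Sylow 2 G) (hQD : IsQuasiDihedral (S : Subgroup G))
    (h32 : Nat.card (S : Subgroup G) ≤ 32) {z : G} (hz : orderOf z = 2) (hzS : z ∈ S)
    (hzc : ∀ s ∈ (S : Subgroup G), s * z = z * s) {F : Type} [Field F] [Fintype F] [DecidableEq F]
    {p : ℕ} [Fact p.Prime] [CharP F p] (hp : p ≠ 2) (hodd : Fintype.card F % 2 = 1)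
    (hL : ∃ N : Subgroup (CQ z), N.Normal ∧ Nonempty (N ≃* SL(2, F))) :
    Nat.card (S : Subgroup G) = 16 ∧
    ((Fintype.card F = 3 ∧ Nat.card (Cen z) = 48 * Nat.card (oddCore ↥(Cen z)) ∧
        (Nat.card (oddCore ↥(Cen z)) = 1 ∨
          (Nat.card (oddCore ↥(Cen z))).Prime ∧ IsCoatom (Cen z))) ∨
      (5 ≤ Fintype.card F ∧ Nat.card (oddCore ↥(Cen z)) = 1 ∧
        Nat.card (Cen z) = 2 * (Fintype.card F * (Fintype.card F ^ 2 - 1)) ∧ IsCoatom (Cen z) ∧
        LenLe (⊤ : Subgroup (Matrix.ProjectiveSpecialLinearGroup (Fin 2) F)) 4)) := by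
  obtain ⟨m, ⟨d⟩⟩ := exists_sd hQD
  obtain ⟨k, hk, hcard, hm, hk3, hch⟩ := cent_sd S d hz hzS hzc hp hodd hL
  have h3 := d.three_le
  have hm4 : m ≤ 4 := by
    rw [d.card] at h32
    by_contra hlt
    have := Nat.pow_le_pow_right (n := 2) two_pos (show 6 ≤ m + 1 by omega)
    omega
  have hq3 : 3 ≤ Fintype.card F := by
    have := Fintype.one_lt_card (α := F)
    omega
  have hodd' : Odd (Fintype.card F) := Nat.odd_iff.2 hodd
  have hsix : ∀ {n : ℕ}, Chain (Cen z) n → n ≤ 6 := fun h => chain_proper_le hlen (cen_ne_top hna hz) h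
  have hO1 : Nat.card (oddCore ↥(Cen z)) ≠ 1 → oddCore ↥(Cen z) ≠ ⊥ := fun h e => h (by rw [e, card_bot])
  rw [cardFactors_two_mul hk] at hch
  rcases (show Fintype.card F = 3 ∨ 5 ≤ Fintype.card F by omega) with hF3 | hF5
  · have hm3 : m = 3 := by
      rw [hF3] at hm
      rw [show (3 : ℕ) ^ 2 - 1 = 2 ^ 3 by norm_num, Nat.Prime.factorization_pow Nat.prime_two,
        Finsupp.single_eq_same] at hm
      omega
    refine ⟨by rw [d.card, hm3]; norm_num, Or.inl ⟨hF3, ?_, ?_⟩⟩
    · rw [hcard, hk3 hF3, hF3]; ring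
    · have hsol := Dickson.isSolvable_psl_two_three (K := F) hF3
      have hP := chain_solvable (Matrix.ProjectiveSpecialLinearGroup (Fin 2) F) hsol
      have hc12 : Nat.card (Matrix.ProjectiveSpecialLinearGroup (Fin 2) F) = 12 := by
        have := two_mul_card_psl hodd'
        rw [hF3] at this
        omega
      rw [hc12, show cardFactors 12 = 3 by
        rw [show 12 = 2 ^ 2 * 3 by norm_num, cardFactors_mul (by norm_num) (by norm_num),
          cardFactors_apply_prime_pow Nat.prime_two, cardFactors_apply_prime Nat.prime_three]] at hP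
      rw [hk3 hF3, cardFactors_one] at hch
      by_cases hO : Nat.card (oddCore ↥(Cen z)) = 1
      · exact Or.inl hO
      refine Or.inr ⟨?_, isCoatom_of_chain_six hlen (cen_ne_top hna hz) (hch 1 3 (chain_one (hO1 hO)) hP)⟩
      by_contra hnp
      have := hsix (hch 2 3 (chain_two (hO1 hO) hnp) hP)
      omega
  · have hO : Nat.card (oddCore ↥(Cen z)) = 1 := by
      by_contra hO
      have := hsix (hch 1 4 (chain_one (hO1 hO)) (chain_psl_four (by omega)))
      omega
    have h6 := hsix (hch 0 4 (Chain.zero _) (chain_psl_four (by omega)))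
    have hk1 : k = 1 := eq_one_of_cardFactors hk.pos (by omega)
    rw [hk1, cardFactors_one] at hch
    have hpsl : LenLe (⊤ : Subgroup (Matrix.ProjectiveSpecialLinearGroup (Fin 2) F)) 4 := fun h => by
      have := hsix (hch 0 5 (Chain.zero _) h)
      omega
    refine ⟨?_, Or.inr ⟨hF5, hO, by rw [hcard, hk1, hO]; ring,
      isCoatom_of_chain_six hlen (cen_ne_top hna hz) (hch 0 4 (Chain.zero _) (chain_psl_four (by omega))), hpsl⟩⟩
    rcases (show m = 3 ∨ m = 4 by omega) with rfl | rfl
    · rw [d.card]; norm_num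
    exfalso
    have h16 : 2 ^ 4 ∣ Fintype.card F ^ 2 - 1 :=
      (Nat.prime_two.pow_dvd_iff_le_factorization (by
        have := Nat.pow_le_pow_left hF5 2
        omega)).2 (by omega)
    have h8 : Fintype.card F % 8 = 1 ∨ Fintype.card F % 8 = 7 := by
      obtain ⟨c, hc⟩ := h16
      have := Nat.pow_le_pow_left hF5 2
      have hsq : Fintype.card F ^ 2 = 16 * c + 1 := by omega
      have hmod := Nat.pow_mod (Fintype.card F) 2 16
      have h16' := Nat.mod_lt (Fintype.card F) (show 16 > 0 by norm_num)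
      rw [hsq] at hmod
      interval_cases h : Fintype.card F % 16 <;> omega
    have hsq : IsSquare (2 : F) := FiniteField.isSquare_two_iff.2 (by omega)
    have := hpsl.chain_le (chain_psl_five_of_square hodd' (by omega) hsq)
    omega

include hna hlen in
/-- The centralizer for a wreathed Sylow subgroup of order `32`. -/
theorem w_shape (S : Sylow 2 G) (hW : IsWreathed (S : Subgroup G))
    (h32 : Nat.card (S : Subgroup G) = 32) {z : G} (hz : orderOf z = 2) (hzS : z ∈ S)
    (hzc : ∀ s ∈ (S : Subgroup G), s * z = z * s) {F : Type} [Field F] [Fintype F] [DecidableEq F]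
    {p : ℕ} [Fact p.Prime] [CharP F p] (hp : p ≠ 2) (hodd : Fintype.card F % 2 = 1)
    (hL : ∃ N : Subgroup (CQ z), N.Normal ∧ Nonempty (N ≃* SL(2, F))) :
    Fintype.card F = 3 ∧ Nat.card (oddCore ↥(Cen z)) = 1 ∧ Nat.card (Cen z) = 96 ∧ IsCoatom (Cen z) := by
  obtain ⟨m, ⟨d⟩⟩ := exists_w hW
  obtain ⟨k, hk, hcard, hch⟩ := cent_w S d hz hzS hzc hp hodd hL
  have hm : m = 2 := by
    have := d.card
    rw [h32, show (32 : ℕ) = 2 ^ 5 by norm_num] at this
    have := Nat.pow_right_injective le_rfl this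
    omega
  subst hm
  have hq3 : 3 ≤ Fintype.card F := by
    have := Fintype.one_lt_card (α := F)
    omega
  have hodd' : Odd (Fintype.card F) := Nat.odd_iff.2 hodd
  have hsix : ∀ {n : ℕ}, Chain (Cen z) n → n ≤ 6 := fun h => chain_proper_le hlen (cen_ne_top hna hz) h
  rw [cardFactors_two_mul hk] at hch
  have hF3 : Fintype.card F = 3 := by
    by_contra h
    have := hsix (hch 0 4 (Chain.zero _) (chain_psl_four (by omega)))
    omega
  have hP := chain_solvable (Matrix.ProjectiveSpecialLinearGroup (Fin 2) F)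
    (Dickson.isSolvable_psl_two_three (K := F) hF3)
  have hc12 : Nat.card (Matrix.ProjectiveSpecialLinearGroup (Fin 2) F) = 12 := by
    have := two_mul_card_psl hodd'
    rw [hF3] at this
    omega
  rw [hc12, show cardFactors 12 = 3 by
    rw [show 12 = 2 ^ 2 * 3 by norm_num, cardFactors_mul (by norm_num) (by norm_num),
      cardFactors_apply_prime_pow Nat.prime_two, cardFactors_apply_prime Nat.prime_three]] at hP
  have h6 := hsix (hch 0 3 (Chain.zero _) hP)
  have hk1 : k = 1 := eq_one_of_cardFactors hk.pos (by omega)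
  rw [hk1, cardFactors_one] at hch
  have hO : Nat.card (oddCore ↥(Cen z)) = 1 := by
    by_contra hO
    have := hsix (hch 1 3 (chain_one fun e => hO (by rw [e, card_bot])) hP)
    omega
  refine ⟨hF3, hO, by rw [hcard, hO, hk1, hF3]; norm_num,
    isCoatom_of_chain_six hlen (cen_ne_top hna hz) (hch 0 3 (Chain.zero _) hP)⟩

end Shapes

end Cfsg.Lib.LenSeven
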