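import Cfsg.Agent.Lib.OrderSDW.Main
import Cfsg.Agent.Lib.LenSeven.PSLChain
import Cfsg.Agent.S1240

/-!
# The centralizer of an involution in the quasi-dihedral and wreathed cases
-/

set_option autoImplicit false
set_option linter.style.haveILetI false
set_option linter.unusedSectionVars false

namespace Cfsg.Lib.LenSeven

open Cfsg Subgroup LenEight OrderSDW TwoGroup
open scoped MatrixGroups

universe u

variable {G : Type u} [Group G] [Fintype G] [Fact (Nat.Prime 2)] [IsSimpleGroup G]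

/-- The normal subgroup isomorphic to `SL(2, q)`. -/
theorem exists_sl (hna : ¬ IsMulCommutative G) (S : Sylow 2 G)
    (hS : IsQuasiDihedral ↥(S : Subgroup G) ∨ IsWreathed ↥(S : Subgroup G)) {z : G} (hz : orderOf z = 2) :
    ∃ (p : ℕ) (F : Type) (_ : Field F) (_ : Fintype F) (_ : CharP F p) (n : ℕ), p.Prime ∧ p ≠ 2 ∧
      Fintype.card F = p ^ n ∧ Odd (Fintype.card F) ∧
      ∃ N : Subgroup (CQ z), N.Normal ∧ Nonempty (N ≃* SL(2, F)) := by
  have hone : ∀ a b : G, orderOf a = 2 → orderOf b = 2 → IsConj a b := by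
    intro a b ha hb
    rcases hS with h | h
    · obtain ⟨n, ⟨d⟩⟩ := exists_sd h
      exact sd_isConj_involutions S d hna ha hb
    · obtain ⟨n, ⟨d⟩⟩ := exists_w h
      exact w_isConj_involutions S d hna ha hb
  obtain ⟨F, iF, iF', hodd, he⟩ :=
    Agent.S1240.result S hS (no_index_two_of_simple hna) hone z hz
  obtain ⟨p, hp⟩ := CharP.exists F
  haveI := hp
  obtain ⟨n, hpp, hn⟩ := FiniteField.card F p
  refine ⟨p, F, iF, iF', hp, n, hpp, ?_, hn, hodd, commutator (CQ z), inferInstance, he⟩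
  rintro rfl
  rw [hn] at hodd
  exact Nat.not_even_iff_odd.2 hodd (Nat.even_pow.2 ⟨even_two, n.pos.ne'⟩)

section Fields

variable {F : Type} [Field F] [Fintype F] [DecidableEq F] {p : ℕ} [Fact p.Prime] [CharP F p]
variable {Q : Type u} [Group Q] [Fintype Q]

theorem kc_dvd (L : Local G Q F p) (b : G) : L.kc b ∣ Nat.card L.f.ker := by
  classical
  set H : Subgroup L.f.ker := (Cen b).comap ((Cen L.z).subtype.comp L.f.ker.subtype) with hH
  have : L.kc b = Nat.card H := by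
    unfold Local.kc
    rw [← Nat.card_eq_finsetCard]
    refine Nat.card_congr (Equiv.subtypeEquivRight fun y => ?_)
    rw [Finset.mem_filter, hH, mem_comap, mem_centralizer_singleton_iff]
    exact ⟨fun h => h.2, fun h => ⟨@Finset.mem_univ _ (_) _, h⟩⟩
  rw [this]
  exact card_subgroup_dvd_card _

theorem kc_eq (L : Local G Q F p) (b : G) {z : G}
    (h : L.f.ker.map (Cen L.z).subtype = (oddCore ↥(Cen z)).map (Cen z).subtype) :
    L.kc b = Nat.card ↥((oddCore ↥(Cen z)).map (Cen z).subtype ⊓ Cen b) := by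
  classical
  rw [← h]
  unfold Local.kc
  rw [← Nat.card_eq_finsetCard]
  refine Nat.card_congr
    { toFun := fun y => ⟨((y.1 : Cen L.z) : G), ⟨_, y.1.2, rfl⟩,
        mem_centralizer_singleton_iff.2 (Finset.mem_filter.1 y.2).2⟩
      invFun := fun x => ⟨⟨⟨x.1, by obtain ⟨w, -, hw⟩ := x.2.1; exact hw ▸ w.2⟩,
        by obtain ⟨w, hw, hwx⟩ := x.2.1
           rwa [show (⟨x.1, _⟩ : Cen L.z) = w from Subtype.ext hwx.symm]⟩,
        Finset.mem_filter.2 ⟨@Finset.mem_univ _ (_) _, mem_centralizer_singleton_iff.1 x.2.2⟩⟩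
      left_inv := fun y => rfl
      right_inv := fun x => rfl }

theorem card_ker (L : Local G Q F p) {z : G}
    (h : L.f.ker.map (Cen L.z).subtype = (oddCore ↥(Cen z)).map (Cen z).subtype) :
    Nat.card L.f.ker = Nat.card (oddCore ↥(Cen z)) := by
  rw [← card_map_of_injective (Cen L.z).subtype_injective (K := L.f.ker), h,
    card_map_of_injective (Cen z).subtype_injective]

/-- Brauer's equation with the size of the centralizer of the four group. -/
theorem data_sd (hna : ¬ IsMulCommutative G) (S : Sylow 2 G) {m : ℕ}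
    (d : SD ↥(S : Subgroup G) m) {z : G} (hz : orderOf z = 2) (hzS : z ∈ S)
    (hzc : ∀ s ∈ (S : Subgroup G), s * z = z * s) {U : Subgroup G} (hUS : U ≤ S) (hU : IsKleinFour U)
    (hp : p ≠ 2) {n : ℕ} (hq : Fintype.card F = p ^ n) (hodd : Fintype.card F % 2 = 1)
    (hL : ∃ N : Subgroup (CQ z), N.Normal ∧ Nonempty (N ≃* SL(2, F))) :
    ∃ ε : ℤ, (ε = 1 ∨ ε = -1) ∧ (4 : ℤ) ∣ (Fintype.card F : ℤ) - ε ∧
      Eqs ε (Fintype.card F) (Nat.card G) (Nat.card (Cen z))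
        (Nat.card ↥(Subgroup.centralizer (U : Set G))) ∧
      ∃ kc : ℕ, kc ∣ Nat.card (oddCore ↥(Cen z)) ∧
        (Nat.card (Cen z) : ℤ) * kc = (Nat.card (oddCore ↥(Cen z)) : ℤ) *
          (Nat.card ↥(Subgroup.centralizer (U : Set G)) : ℤ) *
          ((Fintype.card F : ℤ) * ((Fintype.card F : ℤ) - ε)) ∧
        ∃ b ∈ U, b ≠ 1 ∧ b ≠ z ∧
          kc = Nat.card ↥((oddCore ↥(Cen z)).map (Cen z).subtype ⊓ Cen b) := by
  classical
  obtain ⟨L, hLz, hZG, hh, hZ2, hC, hout, hne, hker⟩ := local_sd S hz hzc d hzS hp hL hodd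
  have hzd := sd_mem_four S d hz hzS hzc
  have hzU : z ∈ U := hzd ▸ (QDFusion.four_in S d U hU hUS).2.1
  obtain ⟨b, hbU, hb1, hbz⟩ := four_exists_ne hU z
  have hb : b ∈ L.J1 := L.mem_J1.2 ⟨⟨hb1, four_mul_self hU hbU⟩,
    by rw [hLz]; exact Subgroup.mem_centralizer_singleton_iff.2 (hzc b (hUS hbU)), by rw [hLz]; exact hbz⟩
  have hone : ∀ a : G, a ≠ 1 → a * a = 1 → IsConj L.z a := fun a ha1 ha =>
    sd_isConj_involutions S d hna L.hz (orderOf_eq_prime (by rw [pow_two, ha]) ha1)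
  have hone1 : ∀ i ∈ L.J1, ∀ i' ∈ L.J1, ∃ c ∈ Cen L.z, c * i * c⁻¹ = i' := by
    intro i hi i' hi'
    obtain ⟨⟨h1, h2⟩, h3, h4⟩ := L.mem_J1.1 hi
    obtain ⟨⟨h1', h2'⟩, h3', h4'⟩ := L.mem_J1.1 hi'
    rw [hLz] at h3 h4 h3' h4' ⊢
    exact sd_one_class S d hz hzS hzc (orderOf_eq_prime (by rw [pow_two, h2]) h1)
      (orderOf_eq_prime (by rw [pow_two, h2']) h1') h4 h4' h3 h3'
  haveI hZc : IsCyclic L.Z := isCyclic_of_prime_card (p := 2) hZ2
  obtain ⟨M, hM⟩ := Block.exists_isPModular Nat.prime_two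
  obtain ⟨X, iX, iX', W, iW, iW', act, φ, T, s, hW, hs1, hsz, hfix, hN, hLi, hinv, hfree, hl0, hreal⟩ :=
    exists_torus_sd L hna S d (hLz.trans hzd) hZG hh hZ2
  obtain ⟨hE, hsize⟩ := case_sd L hna hZc hone hone1 hb hU hM T hZ2 hC hout hne hq hW hs1 hsz hfix hN hLi
    hinv hfree hl0 hreal
  refine ⟨L.δ, L.hδ, L.h4, ?_, L.kc b, ?_, ?_, b, hbU, hb1, hbz, kc_eq L b hker⟩
  · rw [four_centralizer hU hzU hbU (Cfsg.Lib.Invol.ne_one hz) hb1 hbz]
    rw [hLz] at hE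
    exact hE
  · rw [← card_ker L hker]
    exact kc_dvd L b
  · rw [four_centralizer hU hzU hbU (Cfsg.Lib.Invol.ne_one hz) hb1 hbz, ← card_ker L hker]
    have e : Cen L.z = Cen z := by rw [hLz]
    simpa only [e] using hsize

/-- Brauer's equation with the size of the centralizer of the four group. -/
theorem data_w (hna : ¬ IsMulCommutative G) (S : Sylow 2 G) {m : ℕ}
    (d : W ↥(S : Subgroup G) m) {z : G} (hz : orderOf z = 2) (hzS : z ∈ S)
    (hzc : ∀ s ∈ (S : Subgroup G), s * z = z * s) {U : Subgroup G} (hUS : U ≤ S) (hU : IsKleinFour U)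
    (hUn : ∀ s ∈ (S : Subgroup G), ∀ t ∈ U, s * t * s⁻¹ ∈ U)
    (hp : p ≠ 2) {n : ℕ} (hq : Fintype.card F = p ^ n) (hodd : Fintype.card F % 2 = 1)
    (hL : ∃ N : Subgroup (CQ z), N.Normal ∧ Nonempty (N ≃* SL(2, F))) :
    ∃ ε : ℤ, (ε = 1 ∨ ε = -1) ∧ (4 : ℤ) ∣ (Fintype.card F : ℤ) + ε ∧
      Eqs ε (Fintype.card F) (Nat.card G) (Nat.card (Cen z))
        (Nat.card ↥(Subgroup.centralizer (U : Set G))) ∧
      ∃ kc : ℕ, kc ∣ Nat.card (oddCore ↥(Cen z)) ∧
        (Nat.card (Cen z) : ℤ) * kc = (Nat.card (oddCore ↥(Cen z)) : ℤ) *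
          (Nat.card ↥(Subgroup.centralizer (U : Set G)) : ℤ) *
          ((Fintype.card F : ℤ) * ((Fintype.card F : ℤ) - ε)) ∧
        ∃ b ∈ U, b ≠ 1 ∧ b ≠ z ∧
          kc = Nat.card ↥((oddCore ↥(Cen z)).map (Cen z).subtype ⊓ Cen b) := by
  classical
  obtain ⟨L, hLz, hZG, hh, hcZ, hZc, hz4, hin, hne, hker⟩ := local_w S hz hzc d hzS hp hL hodd
  have hzd := w_z_eq S d hz hzS hzc
  have hzU : z ∈ U := w_mem_four S d hz hzS hzc hU hUS hUn
  obtain ⟨b, hbU, hb1, hbz⟩ := four_exists_ne hU z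
  have hb : b ∈ L.J1 := L.mem_J1.2 ⟨⟨hb1, four_mul_self hU hbU⟩,
    by rw [hLz]; exact Subgroup.mem_centralizer_singleton_iff.2 (hzc b (hUS hbU)), by rw [hLz]; exact hbz⟩
  have hone : ∀ a : G, a ≠ 1 → a * a = 1 → IsConj L.z a := fun a ha1 ha =>
    w_isConj_involutions S d hna L.hz (orderOf_eq_prime (by rw [pow_two, ha]) ha1)
  have hone1 := L.one_class hZc hin
  obtain ⟨M, hM⟩ := Block.exists_isPModular Nat.prime_two
  obtain ⟨X, iX, iX', W₁, iW, iW', act, φ, T, s, hW, hs1, hsz, hfix, hN, hLi, hreal⟩ :=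
    exists_torus_w_r L S d (hLz.trans hzd) hZG hh hcZ
  obtain ⟨X', iX₂, iX₂', W', iW₂, iW₂', act', φ', T', h6, hst, hgen, hB⟩ :=
    exists_torus_w_a L hna S d (hLz.trans hzd) hZG hh hcZ
  have hm := d.two_le
  have hpow : 4 ≤ 2 ^ m := le_trans (by norm_num) (Nat.pow_le_pow_right two_pos hm)
  have hw : L.w L.δ = 2 ^ (2 * m) := by
    rw [Local.w, if_pos rfl, hh, hcZ, ← pow_succ', ← pow_add]
    congr 1; omega
  have hB' : 2 * (L.w L.δ : ℤ) < 18 * (Fintype.card (LIdx act s) : ℤ) ∨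
      (3 ≤ Fintype.card (OIdx act' 1) ∧
        (Finset.univ.filter fun o : OIdx act' 2 => ∑ ψ ∈ orbC act' o.1, T'.sgn ψ ≠ -1).card <
          Fintype.card (LIdx act s)) := by
    rw [hw, hLi, Nat.cast_sub (Nat.one_le_two_pow)]
    push_cast
    exact hB
  obtain ⟨hE, hsize⟩ := case_w L hna hZc hone hone1 hb hU hM T T'
    (by rw [hh]; exact Nat.one_lt_two_pow (by omega)) hz4 hin hne hq hW hs1 hsz hfix hN (by omega) hreal
    h6 hst hgen hB'
  refine ⟨-L.δ, by rcases L.hδ with h | h <;> rw [h] <;> norm_num,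
    by rw [← sub_eq_add_neg]; exact L.h4, ?_, L.kc b, ?_, ?_, b, hbU, hb1, hbz, kc_eq L b hker⟩
  · rw [four_centralizer hU hzU hbU (Cfsg.Lib.Invol.ne_one hz) hb1 hbz]
    rw [hLz] at hE
    exact hE
  · rw [← card_ker L hker]
    exact kc_dvd L b
  · rw [four_centralizer hU hzU hbU (Cfsg.Lib.Invol.ne_one hz) hb1 hbz, ← card_ker L hker]
    have e : Cen L.z = Cen z := by rw [hLz]
    simpa only [e] using hsize

end Fields

end Cfsg.Lib.LenSeven
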