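import Cfsg.Agent.Lib.LenSeven.Tools
import Cfsg.Agent.Lib.FusionSys.RankThreeTools
import Cfsg.Agent.S2872
import Cfsg.Agent.S3309
import Cfsg.Agent.Lib.LenEight.Basic

/-!
# An elementary abelian maximal subgroup of a Sylow 2-subgroup

A simple group whose nonabelian Sylow 2-subgroup `S` of order 16 or 32 has an elementary abelian subgroup of
index two does not exist, if for order 32 the normalizer of `S` is `S` or a maximal subgroup.
-/

set_option autoImplicit false
set_option linter.style.haveILetI false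
set_option linter.unusedSectionVars false
set_option maxHeartbeats 400000

namespace Cfsg.Lib.LenSeven

open Subgroup LenEight

universe u

variable {G : Type u} [Group G] [Finite G]

/-- If a Sylow subgroup of order 32 normalizes an elementary abelian group `F` of order eight and induces on it
a group of order four, the normalizer of `F` permutes the actions of its elements. -/
theorem exists_same_action (S : Sylow 2 G) {F : Subgroup G} (hF : IsElementaryAbelian 2 F)
    (h8 : Nat.card F = 8) (hFS : F ≤ (S : Subgroup G)) (hSN : (S : Subgroup G) ≤ normalizer (F : Set G))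
    (hC : ∀ s ∈ (S : Subgroup G), (∀ f ∈ F, s * f = f * s) → s ∈ F) (h32 : Nat.card (S : Subgroup G) = 32)
    {n : G} (hn : n ∈ normalizer (F : Set G)) {s : G} (hs : s ∈ (S : Subgroup G)) :
    ∃ t ∈ (S : Subgroup G), ∀ f ∈ F, n⁻¹ * s * n * f * (n⁻¹ * s * n)⁻¹ = t * f * t⁻¹ := by
  haveI : Fact (Nat.Prime 2) := ⟨Nat.prime_two⟩
  let φ := F.normalizerMonoidHom
  have hφ : ∀ (g : normalizer (F : Set G)) (f : F), ((φ g f : F) : G) = (g : G) * f * (g : G)⁻¹ := fun _ _ => rfl
  obtain ⟨SN, hSNc⟩ : ∃ SN : Sylow 2 (normalizer (F : Set G)),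
      (SN : Subgroup (normalizer (F : Set G))) = (S : Subgroup G).subgroupOf (normalizer (F : Set G)) :=
    ⟨S.subtype hSN, rfl⟩
  let V : Sylow 2 φ.range := SN.mapSurjective φ.rangeRestrict_surjective
  haveI : Finite (MulAut F) := Finite.of_injective (fun a : MulAut F => (a : F → F)) DFunLike.coe_injective
  -- the order of the image of `S`
  let ψ : ((S : Subgroup G).subgroupOf (normalizer (F : Set G))) →* φ.range :=
    φ.rangeRestrict.comp (Subgroup.subtype _)
  have hrange : ψ.range = (V : Subgroup φ.range) := by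
    show ψ.range = (SN : Subgroup (normalizer (F : Set G))).map φ.rangeRestrict
    rw [hSNc, MonoidHom.range_comp, Subgroup.range_subtype]
  have hker : Nat.card ψ.ker = 8 := by
    rw [← h8]
    refine Nat.card_congr
      { toFun := fun k => ⟨((k : (S : Subgroup G).subgroupOf (normalizer (F : Set G))) : G), ?_⟩
        invFun := fun f => ⟨⟨⟨f, le_normalizer f.2⟩, hFS f.2⟩, ?_⟩
        left_inv := fun k => rfl
        right_inv := fun f => rfl }
    · refine hC _ k.1.2 fun f hf => ?_
      have := congrArg (fun a : φ.range => (((a : MulAut F) ⟨f, hf⟩ : F) : G)) k.2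
      simp only [ψ, MonoidHom.comp_apply, coe_subtype, MonoidHom.coe_rangeRestrict, OneMemClass.coe_one,
        MulAut.one_apply, hφ] at this
      exact mul_inv_eq_iff_eq_mul.1 this
    · refine Subtype.ext (MulEquiv.ext fun x => Subtype.ext ?_)
      simp only [ψ, MonoidHom.comp_apply, coe_subtype, MonoidHom.coe_rangeRestrict, OneMemClass.coe_one,
        MulAut.one_apply, hφ]
      haveI := hF.1
      have := congrArg Subtype.val (hF.1.1.comm f x)
      simp only [coe_mul] at this
      rw [this, mul_assoc, mul_inv_cancel, mul_one]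
  have hcardV : Nat.card (V : Subgroup φ.range) = 4 := by
    have h1 := card_eq_card_quotient_mul_card_subgroup ψ.ker
    rw [Nat.card_congr (QuotientGroup.quotientKerEquivRange ψ).toEquiv, hrange, hker,
      Nat.card_congr (subgroupOfEquivOfLe hSN).toEquiv, h32] at h1
    omega
  have hodd : Odd (V : Subgroup φ.range).index := by
    rw [← Nat.not_even_iff_odd, even_iff_two_dvd]
    exact V.not_dvd_index
  have hW : Nat.card φ.range = 4 * (V : Subgroup φ.range).index := by
    rw [← card_mul_index (V : Subgroup φ.range), hcardV]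
  have hVn := normal_of_four_mul hF h8 φ.range hodd hW V
  let ns : φ.range := φ.rangeRestrict ⟨n, hn⟩
  have hsV : φ.rangeRestrict ⟨s, hSN hs⟩ ∈ (V : Subgroup φ.range) := by
    rw [← hrange]
    exact ⟨⟨⟨s, hSN hs⟩, hs⟩, rfl⟩
  have hmem := hVn.conj_mem _ hsV (φ.rangeRestrict ⟨n⁻¹, inv_mem hn⟩)
  rw [← hrange] at hmem
  obtain ⟨⟨t, ht⟩, hte⟩ := hmem
  refine ⟨t, ht, fun f hf => ?_⟩
  have h2 := congrArg (fun a : φ.range => (((a : MulAut F) ⟨f, hf⟩ : F) : G)) hte
  simp only [ψ, MonoidHom.comp_apply, coe_subtype, MonoidHom.coe_rangeRestrict, coe_mul, coe_inv,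
    ← map_inv, ← map_mul, hφ, inv_inv] at h2
  exact h2.symm

/-- An element normalizing an elementary abelian group `F` of order eight that is its own centralizer in a
Sylow subgroup of order 32 preserves the fixed points of the Sylow subgroup on `F`. -/
theorem normalizer_preserves_fixed (S : Sylow 2 G) {F : Subgroup G} (hF : IsElementaryAbelian 2 F)
    (h8 : Nat.card F = 8) (hFS : F ≤ (S : Subgroup G)) (hSN : (S : Subgroup G) ≤ normalizer (F : Set G))
    (hC : ∀ s ∈ (S : Subgroup G), (∀ f ∈ F, s * f = f * s) → s ∈ F) (h32 : Nat.card (S : Subgroup G) = 32)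
    {n : G} (hn : n ∈ normalizer (F : Set G)) {z : G} (hz : z ∈ F)
    (hzS : ∀ s ∈ (S : Subgroup G), s * z = z * s) :
    ∀ s ∈ (S : Subgroup G), s * (n * z * n⁻¹) = n * z * n⁻¹ * s := by
  intro s hs
  obtain ⟨t, ht, hte⟩ := exists_same_action S hF h8 hFS hSN hC h32 hn hs
  have h2 := hte z hz
  rw [hzS t ht, mul_inv_cancel_right] at h2
  calc s * (n * z * n⁻¹) = n * (n⁻¹ * s * n * z * (n⁻¹ * s * n)⁻¹) * n⁻¹ * s := by group
    _ = n * z * n⁻¹ * s := by rw [h2]

variable [IsSimpleGroup G]

section IndexTwo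

variable (hna : ¬ IsMulCommutative G) (S : Sylow 2 G) {A : Subgroup G} (hAS : A ≤ (S : Subgroup G))
  (hA : ∀ a ∈ A, a * a = 1) (hAi : A.relIndex (S : Subgroup G) = 2)
  (hnab : ¬ ∀ x ∈ (S : Subgroup G), ∀ y ∈ (S : Subgroup G), x * y = y * x)

omit [IsSimpleGroup G] in
include hA in
theorem comm_of_sq {a b : G} (ha : a ∈ A) (hb : b ∈ A) : a * b = b * a := by
  have h := hA _ (mul_mem ha hb)
  calc a * b = (a * b)⁻¹ := (inv_self h).symm
    _ = b⁻¹ * a⁻¹ := mul_inv_rev _ _
    _ = b * a := by rw [inv_self (hA a ha), inv_self (hA b hb)]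

omit [IsSimpleGroup G] in
include hAi in
theorem mul_mem_iff_two {x y : G} (hx : x ∈ (S : Subgroup G)) (hy : y ∈ (S : Subgroup G)) :
    x * y ∈ A ↔ (x ∈ A ↔ y ∈ A) := by
  have := mul_mem_iff_of_index_two (H := A.subgroupOf (S : Subgroup G)) hAi (a := ⟨x, hx⟩) (b := ⟨y, hy⟩)
  simpa [mem_subgroupOf] using this

omit [IsSimpleGroup G] in
include hAi in
theorem mem_or_mul_mem {x : G} (hx : x ∈ (S : Subgroup G)) (hxA : x ∉ A) {s : G}
    (hs : s ∈ (S : Subgroup G)) : s ∈ A ∨ s * x ∈ A := by
  by_cases h : s ∈ A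
  · exact Or.inl h
  · exact Or.inr ((mul_mem_iff_two S hAi hs hx).2 (iff_of_false h hxA))

include hna hA hAi in
theorem exists_involution_notMem : ∃ x ∈ (S : Subgroup G), x ∉ A ∧ x * x = 1 := by
  by_contra hno
  push Not at hno
  obtain ⟨x, hxS, hxA⟩ : ∃ x ∈ (S : Subgroup G), x ∉ A := by
    by_contra h
    push Not at h
    rw [relIndex_eq_one.2 h] at hAi
    omega
  have h4 : ∀ y ∈ (S : Subgroup G), y ∉ A → orderOf y = 4 := by
    intro y hy hyA
    refine orderOf_eq_prime_pow (p := 2) (n := 1) ?_ ?_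
    · rw [pow_one, pow_two]
      exact hno y hy hyA
    · have h2 : y * y ∈ A := (mul_mem_iff_two S hAi hy hy).2 Iff.rfl
      rw [show (2 : ℕ) ^ (1 + 1) = 2 + 2 by norm_num, pow_add, pow_two]
      exact hA _ h2
  obtain ⟨g, hg, -⟩ := conj_into_min hna S hAi hxS fun y hy hlt => by
    by_contra hyA
    rw [h4 y hy hyA, h4 x hxS hxA] at hlt
    omega
  have h1 : orderOf (g * x * g⁻¹) ≤ 2 :=
    Nat.le_of_dvd two_pos (orderOf_dvd_of_pow_eq_one (by rw [pow_two]; exact hA _ hg))
  rw [show g * x * g⁻¹ = MulAut.conj g x from rfl, MulEquiv.orderOf_eq, h4 x hxS hxA] at h1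
  omega

variable {x : G} (hxS : x ∈ (S : Subgroup G)) (hxA : x ∉ A) (hx2 : x * x = 1)

include hAi hxS in
theorem conj_mem {a : G} (hAS : A ≤ (S : Subgroup G)) (ha : a ∈ A) : x * a * x ∈ A := by
  have h := mul_mem_iff_two S hAi (mul_mem hxS (hAS ha)) hxS
  rw [h]
  refine ⟨fun h' => ?_, fun h' => mul_mem h' ha⟩
  exact ((mul_mem_iff_two S hAi hxS (hAS ha)).1 h').2 ha

/-- The map `a ↦ [a, x]` on `A`. -/
def twist (hAS : A ≤ (S : Subgroup G)) (hA : ∀ a ∈ A, a * a = 1) (hAi : A.relIndex (S : Subgroup G) = 2)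
    (hxS : x ∈ (S : Subgroup G)) (hx2 : x * x = 1) : A →* G where
  toFun a := a * (x * a * x)
  map_one' := by simp [hx2]
  map_mul' a b := by
    have h1 := conj_mem S hAi hxS hAS a.2
    have hb := comm_of_sq hA b.2 h1
    calc (↑(a * b) : G) * (x * ↑(a * b) * x)
        = a * (b * (x * a * x)) * (x * b * x) := by
          rw [coe_mul]
          simp only [mul_assoc]
          rw [← mul_assoc x x (↑b * x), hx2, one_mul]
      _ = a * ((x * a * x) * b) * (x * b * x) := by rw [hb]
      _ = a * (x * a * x) * (b * (x * b * x)) := by simp only [mul_assoc]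

theorem twist_apply (a : A) : twist S hAS hA hAi hxS hx2 a = a * (x * a * x) := rfl

theorem twist_eq_one_iff (a : A) : twist S hAS hA hAi hxS hx2 a = 1 ↔ x * a = a * x := by
  rw [twist_apply, mul_eq_one_iff_inv_eq, inv_self (hA _ a.2)]
  constructor
  · intro h
    calc x * a = x * (x * a * x) := by rw [← h]
      _ = a * x := by rw [← mul_assoc, ← mul_assoc, hx2, one_mul]
  · intro h
    rw [h, mul_assoc, hx2, mul_one]

theorem twist_ker :
    (twist S hAS hA hAi hxS hx2).ker = (A ⊓ centralizer ({x} : Set G)).subgroupOf A := by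
  ext a
  rw [MonoidHom.mem_ker, twist_eq_one_iff, mem_subgroupOf, mem_inf, mem_cent]
  exact ⟨fun h => ⟨a.2, h.symm⟩, fun h => h.2.symm⟩

theorem twist_range_le : (twist S hAS hA hAi hxS hx2).range ≤ A ⊓ centralizer ({x} : Set G) := by
  rintro _ ⟨a, rfl⟩
  have h1 := conj_mem S hAi hxS hAS a.2
  refine ⟨mul_mem a.2 h1, mem_cent.2 ?_⟩
  rw [twist_apply, comm_of_sq hA a.2 h1]
  calc x * a * x * a * x = x * a * (x * a * x) := by simp only [mul_assoc]
    _ = x * ((x * a * x) * a) := by rw [mul_assoc, comm_of_sq hA a.2 h1]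

include hxA in
theorem twist_range_ne_bot (hnab : ¬ ∀ x ∈ (S : Subgroup G), ∀ y ∈ (S : Subgroup G), x * y = y * x) :
    (twist S hAS hA hAi hxS hx2).range ≠ ⊥ := by
  intro e
  have hx : ∀ a ∈ A, x * a = a * x := fun a ha => by
    refine (twist_eq_one_iff S hAS hA hAi hxS hx2 ⟨a, ha⟩).1 ?_
    exact mem_bot.1 (e ▸ ⟨⟨a, ha⟩, rfl⟩)
  have hS : ∀ s ∈ (S : Subgroup G), s * x = x * s := fun s hs => by
    rcases mem_or_mul_mem S hAi hxS hxA hs with h | h
    · exact (hx s h).symm
    · have := hx _ h
      rw [← mul_assoc] at this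
      exact (mul_right_cancel this).symm
  refine hnab fun s hs t ht => ?_
  have hAc : ∀ a ∈ A, a * t = t * a := fun a ha => by
    rcases mem_or_mul_mem S hAi hxS hxA ht with h | h
    · exact comm_of_sq hA ha h
    · have h1 := comm_of_sq hA ha h
      refine mul_right_cancel (b := x) ?_
      calc a * t * x = a * (t * x) := mul_assoc _ _ _
        _ = t * x * a := h1
        _ = t * a * x := by rw [mul_assoc, hx a ha, ← mul_assoc]
  rcases mem_or_mul_mem S hAi hxS hxA hs with h | h
  · exact hAc s h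
  · refine mul_right_cancel (b := x) ?_
    calc s * t * x = s * (t * x) := mul_assoc _ _ _
      _ = s * x * t := by rw [hS t ht, ← mul_assoc]
      _ = t * (s * x) := hAc _ h
      _ = t * s * x := (mul_assoc _ _ _).symm

theorem twist_card : Nat.card (twist S hAS hA hAi hxS hx2).range *
    Nat.card (A ⊓ centralizer ({x} : Set G) : Subgroup G) = Nat.card A := by
  set D := twist S hAS hA hAi hxS hx2 with hD
  rw [← Nat.card_congr (QuotientGroup.quotientKerEquivRange D).toEquiv,
    card_eq_card_quotient_mul_card_subgroup D.ker]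
  congr 1
  rw [hD, twist_ker S hAS hA hAi hxS hx2]
  exact (Nat.card_congr (subgroupOfEquivOfLe inf_le_left).toEquiv).symm

include hna hAS hA hAi hnab in
/-- Order 16. -/
theorem false_of_sixteen (h8 : Nat.card A = 8) : False := by
  obtain ⟨x, hxS, hxA, hx2⟩ := exists_involution_notMem hna S hA hAi
  set D := twist S hAS hA hAi hxS hx2 with hD
  set Z := A ⊓ centralizer ({x} : Set G) with hZ
  have hle : D.range ≤ Z := twist_range_le S hAS hA hAi hxS hx2
  have hne := twist_range_ne_bot S hAS hA hAi hxS hxA hx2 hnab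
  have hmul : Nat.card D.range * Nat.card Z = 8 := h8 ▸ twist_card S hAS hA hAi hxS hx2
  have hd := card_dvd_of_le hle
  have hcard : Nat.card D.range = 2 ∧ Nat.card Z = 4 := by
    have h1 : Nat.card D.range ≠ 1 := fun e => hne (card_eq_one.1 e)
    have h8' : Nat.card D.range ∣ 8 := Dvd.intro _ hmul
    have hle8 := Nat.le_of_dvd (by norm_num) h8'
    interval_cases hn : Nat.card D.range <;> omega
  obtain ⟨c, hc, hc1⟩ := D.range.bot_or_exists_ne_one.resolve_left hne
  obtain ⟨⟨a, ha⟩, hac⟩ := id hc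
  rw [hD, twist_apply] at hac
  have hcZ := hle hc
  have hsub : zpowers c ≠ Z := fun e => by
    have := congrArg (fun K : Subgroup G => Nat.card K) e
    rw [Nat.card_zpowers, orderOf_two (hA c hcZ.1) hc1, hcard.2] at this
    omega
  obtain ⟨d, hdZ, hdc⟩ := SetLike.exists_of_lt (lt_of_le_of_ne (zpowers_le.2 hcZ) hsub)
  have hd1 : d ≠ 1 := fun e => hdc (e ▸ one_mem _)
  have hZf : IsFour Z := ⟨hcard.2, fun y hy => hA y hy.1⟩
  have hxa : a * x ∈ (S : Subgroup G) := mul_mem (hAS ha) hxS
  have hr2 : a * x * (a * x) = c := by rw [← hac]; simp only [mul_assoc]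
  have hr4 : (a * x) ^ 4 = 1 := by
    rw [show 4 = 2 + 2 from rfl, pow_add, pow_two, hr2]
    exact hA c hcZ.1
  have hinv : x * (a * x) * x⁻¹ = (a * x)⁻¹ := by
    rw [mul_inv_rev, inv_self hx2, inv_self (hA a ha), mul_assoc, mul_assoc a, hx2, mul_one]
  let f₂ : DihedralGroup 4 →* G := Invol.dihedralHom 4 hr4 hx2 hinv
  let f₁ : Multiplicative (ZMod 2) →* G :=
    { toFun := fun i => d ^ (Multiplicative.toAdd i).val
      map_one' := by simp
      map_mul' := fun i j => by
        rw [toAdd_mul, ZMod.val_add, ← pow_add]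
        refine (pow_eq_pow_iff_modEq.2 ?_)
        rw [orderOf_two (hA d hdZ.1) hd1]
        exact Nat.mod_modEq _ _ }
  have hdS : ∀ s ∈ (S : Subgroup G), d * s = s * d := fun s hs => by
    rcases mem_or_mul_mem S hAi hxS hxA hs with h | h
    · exact comm_of_sq hA hdZ.1 h
    · refine mul_right_cancel (b := x) ?_
      calc d * s * x = d * (s * x) := mul_assoc _ _ _
        _ = s * x * d := comm_of_sq hA hdZ.1 h
        _ = s * d * x := by rw [mul_assoc, ← mem_cent.1 hdZ.2, ← mul_assoc]
  have hf₁ : ∀ i, f₁ i ∈ (S : Subgroup G) := fun i => pow_mem (hAS hdZ.1) _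
  have hf₂ : ∀ w, f₂ w ∈ (S : Subgroup G) := by
    rintro (i | i)
    · exact zpow_mem hxa _
    · exact mul_mem hxS (zpow_mem hxa _)
  let ψ : Multiplicative (ZMod 2) × DihedralGroup 4 →* (S : Subgroup G) :=
    MonoidHom.noncommCoprod (f₁.codRestrict _ hf₁) (f₂.codRestrict _ hf₂) fun i w => Subtype.ext
      (((show Commute d (f₂ w) from hdS _ (hf₂ w)).pow_left _).eq)
  have hψ : ∀ i w, ((ψ (i, w) : (S : Subgroup G)) : G) = f₁ i * f₂ w := fun _ _ => rfl
  let R := ψ.range.map (S : Subgroup G).subtype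
  have hdR : d ∈ R := ⟨ψ (Multiplicative.ofAdd 1, 1), ⟨_, rfl⟩, by
    show ((ψ (Multiplicative.ofAdd 1, 1) : (S : Subgroup G)) : G) = d
    rw [hψ, map_one f₂, mul_one]
    show d ^ (ZMod.val (1 : ZMod 2)) = d
    rw [ZMod.val_one, pow_one]⟩
  have hxR : x ∈ R := ⟨ψ (1, DihedralGroup.sr 0), ⟨_, rfl⟩, by
    show ((ψ (1, DihedralGroup.sr 0) : (S : Subgroup G)) : G) = x
    rw [hψ, map_one, one_mul]
    show x * (a * x) ^ ((0 : ZMod 4).cast : ℤ) = x
    rw [ZMod.cast_zero, zpow_zero, mul_one]⟩
  have hrR : a * x ∈ R := ⟨ψ (1, DihedralGroup.r 1), ⟨_, rfl⟩, by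
    show ((ψ (1, DihedralGroup.r 1) : (S : Subgroup G)) : G) = a * x
    rw [hψ, map_one, one_mul]
    show (a * x) ^ ((1 : ZMod 4).cast : ℤ) = a * x
    rw [show ((1 : ZMod 4).cast : ℤ) = 1 by rfl, zpow_one]⟩
  have haR : a ∈ R := by
    have := mul_mem hrR hxR
    rwa [mul_assoc, hx2, mul_one] at this
  have hcR : c ∈ R := hr2 ▸ mul_mem hrR hrR
  have hZR : Z ≤ R := fun z hz => by
    rcases four_cases hZf hcZ hdZ hc1 hd1 (fun e => hdc (e ▸ mem_zpowers c)) hz with rfl | rfl | rfl | rfl
    exacts [one_mem _, hcR, hdR, mul_mem hcR hdR]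
  have haZ : a ∉ Z := fun h => hc1 (by
    have h1 := (twist_eq_one_iff S hAS hA hAi hxS hx2 ⟨a, ha⟩).2 (mem_cent.1 h.2).symm
    rw [twist_apply, hac] at h1
    exact h1)
  have hAR : A ≤ R := by
    have h4 : Nat.card (Z.subgroupOf A) = 4 := by
      rw [Nat.card_congr (subgroupOfEquivOfLe inf_le_left).toEquiv, hcard.2]
    have hi : (Z.subgroupOf A).index = 2 := by
      have := card_mul_index (Z.subgroupOf A)
      rw [h4, h8] at this
      omega
    intro y hy
    by_cases hyZ : y ∈ Z
    · exact hZR hyZ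
    · have h1 : a * y ∈ Z := by
        have := (mul_mem_iff_of_index_two hi (a := ⟨a, ha⟩) (b := ⟨y, hy⟩)).2 (iff_of_false haZ hyZ)
        exact this
      have h2 := mul_mem haR (hZR h1)
      rwa [← mul_assoc, hA a ha, one_mul] at h2
  have hSR : (S : Subgroup G) ≤ R := fun s hs => by
    rcases mem_or_mul_mem S hAi hxS hxA hs with h | h
    · exact hAR h
    · have h2 := mul_mem (hAR h) hxR
      rwa [mul_assoc, hx2, mul_one] at h2
  have hsurj : Function.Surjective ψ := fun s => by
    obtain ⟨t, ⟨w, hw⟩, hts⟩ := hSR s.2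
    exact ⟨w, by rw [hw]; exact Subtype.ext hts⟩
  have h16 : Nat.card (S : Subgroup G) = 16 := by
    have := card_mul_index (A.subgroupOf (S : Subgroup G))
    rw [Nat.card_congr (subgroupOfEquivOfLe hAS).toEquiv, h8, show (A.subgroupOf (S : Subgroup G)).index = 2
      from hAi] at this
    omega
  have hbij : Function.Bijective ψ := (Nat.bijective_iff_surjective_and_card ψ).2 ⟨hsurj, by
    rw [h16, Nat.card_prod, DihedralGroup.nat_card, Nat.card_eq_fintype_card]
    rfl⟩
  exact Agent.S3309.result S ⟨(MulEquiv.ofBijective ψ hbij).symm⟩ hna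

include hna hAS hA hAi hnab in
/-- Order 32. -/
theorem false_of_thirty_two (h16 : Nat.card A = 16)
    (hN : normalizer ((S : Subgroup G) : Set G) ≠ (S : Subgroup G) →
      IsCoatom (normalizer ((S : Subgroup G) : Set G))) : False := by
  haveI : Fact (Nat.Prime 2) := ⟨Nat.prime_two⟩
  obtain ⟨x, hxS, hxA, hx2⟩ := exists_involution_notMem hna S hA hAi
  set D := twist S hAS hA hAi hxS hx2 with hD
  set Z := A ⊓ centralizer ({x} : Set G) with hZ
  set F := (S : Subgroup G) ⊓ centralizer ({x} : Set G) with hFdef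
  have hle : D.range ≤ Z := twist_range_le S hAS hA hAi hxS hx2
  have hne := twist_range_ne_bot S hAS hA hAi hxS hxA hx2 hnab
  have hmul : Nat.card D.range * Nat.card Z = 16 := h16 ▸ twist_card S hAS hA hAi hxS hx2
  have hS32 : Nat.card (S : Subgroup G) = 32 := by
    have := card_mul_index (A.subgroupOf (S : Subgroup G))
    rw [Nat.card_congr (subgroupOfEquivOfLe hAS).toEquiv, h16, show (A.subgroupOf (S : Subgroup G)).index = 2
      from hAi] at this
    omega
  have hxc : ∀ z ∈ Z, z * x = x * z := fun z hz => mem_cent.1 hz.2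
  have hxF : x ∈ F := ⟨hxS, mem_cent.2 rfl⟩
  have hZF : Z ≤ F := fun z hz => ⟨hAS hz.1, hz.2⟩
  have hAnotF : F ≠ A := fun e => hxA (e ▸ hxF)
  have hF_cases : ∀ s ∈ F, s ∈ Z ∨ s * x ∈ Z := fun s hs => by
    rcases mem_or_mul_mem S hAi hxS hxA hs.1 with h | h
    · exact Or.inl ⟨h, hs.2⟩
    · refine Or.inr ⟨h, mem_cent.2 ?_⟩
      rw [← mul_assoc, ← mem_cent.1 hs.2]
  have hFsq : ∀ s ∈ F, s * s = 1 := fun s hs => by
    rcases hF_cases s hs with h | h
    · exact hA s h.1
    · have h1 := hA _ h.1
      rwa [mul_assoc, ← mul_assoc x, ← mem_cent.1 hs.2, mul_assoc s, hx2, mul_one] at h1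
  have hFe : IsElementaryAbelian 2 F :=
    ⟨⟨⟨fun a b => Subtype.ext (comm_of_sq hFsq a.2 b.2)⟩⟩, fun a ha => by rw [pow_two]; exact hFsq a ha⟩
  have hFcard : Nat.card F = 2 * Nat.card Z := by
    have hi : (A.subgroupOf F).index = 2 := by
      rw [index_eq_two_iff]
      refine ⟨⟨x, hxF⟩, fun b => ?_⟩
      rcases hF_cases _ b.2 with h | h
      · refine Or.inr ⟨h.1, fun h' => hxA ?_⟩
        have := mul_mem (A.inv_mem h.1) (mem_subgroupOf.1 h')
        simpa using this
      · refine Or.inl ⟨h.1, fun h' => hxA ?_⟩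
        have h1 := mul_mem (A.inv_mem (mem_subgroupOf.1 h')) h.1
        simpa using h1
    have hcongr : Nat.card (A.subgroupOf F) = Nat.card Z := Nat.card_congr
      { toFun := fun a => ⟨((a : F) : G), ⟨mem_subgroupOf.1 a.2, a.1.2.2⟩⟩
        invFun := fun a => ⟨⟨a, hZF a.2⟩, a.2.1⟩
        left_inv := fun a => rfl
        right_inv := fun a => rfl }
    rw [← card_mul_index (A.subgroupOf F), hi, hcongr, mul_comm]
  -- `Z` is central
  have hZS : ∀ z ∈ Z, ∀ s ∈ (S : Subgroup G), s * z = z * s := fun z hz s hs => by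
    rcases mem_or_mul_mem S hAi hxS hxA hs with h | h
    · exact comm_of_sq hA h hz.1
    · refine mul_right_cancel (b := x) ?_
      calc s * z * x = s * x * z := by rw [mul_assoc, hxc z hz, mul_assoc]
        _ = z * (s * x) := comm_of_sq hA h hz.1
        _ = z * s * x := (mul_assoc _ _ _).symm
  have hSF : (S : Subgroup G) ≤ normalizer (F : Set G) := by
    intro s hs
    have hconj : ∀ t ∈ (S : Subgroup G), ∀ f ∈ F, t * f * t⁻¹ ∈ F := by
      intro t ht f hf
      have hx' : t * x * t⁻¹ ∈ F := by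
        have haux : ∀ a ∈ A, a * x * a⁻¹ ∈ F := fun a ha => by
          have h1 : a * (x * a * x) ∈ Z := hle ⟨⟨a, ha⟩, rfl⟩
          have h2 := mul_mem (hZF h1) hxF
          rw [inv_self (hA a ha)]
          rwa [mul_assoc, mul_assoc (x * a), hx2, mul_one, ← mul_assoc] at h2
        rcases mem_or_mul_mem S hAi hxS hxA ht with h | h
        · exact haux t h
        · have h1 := haux _ h
          rwa [mul_inv_rev, mul_assoc (t * x) x, mul_inv_cancel_left] at h1
      rcases hF_cases f hf with h | h
      · rw [hZS f h t ht, mul_assoc, mul_inv_cancel, mul_one]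
        exact hf
      · have h2 : t * f * t⁻¹ = f * x * (t * x * t⁻¹) := by
          rw [show f * x * (t * x * t⁻¹) = (f * x * t) * x * t⁻¹ by simp only [mul_assoc], ← hZS _ h t ht]
          rw [show t * (f * x) * x = t * f * (x * x) by simp only [mul_assoc], hx2, mul_one]
        rw [h2]
        exact mul_mem (hZF h) hx'
    rw [mem_normalizer_iff]
    refine fun f => ⟨hconj s hs f, fun hf => ?_⟩
    have := hconj s⁻¹ (inv_mem hs) _ hf
    simpa [mul_assoc] using this
  obtain ⟨g, hgA, hgC⟩ := conj_into_min hna S hAi hxS fun y hy hlt => by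
    have hx1 : x ≠ 1 := fun e => hxA (e ▸ one_mem A)
    rw [orderOf_two hx2 hx1, Nat.lt_iff_add_one_le] at hlt
    rw [orderOf_eq_one_iff.1 (le_antisymm (by omega) (orderOf_pos y))]
    exact one_mem A
  set B := F.map (MulAut.conj g).toMonoidHom with hBdef
  have hBS : B ≤ (S : Subgroup G) := by
    rintro _ ⟨f, hf, rfl⟩
    exact hgC f hf.1 (mem_cent.1 hf.2)
  have hBsq : ∀ b ∈ B, b * b = 1 := by
    rintro _ ⟨f, hf, rfl⟩
    rw [← map_mul, hFsq f hf, map_one]
  have hBcard : Nat.card B = Nat.card F := card_map_of_injective (MulAut.conj g).injective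
  have hgxB : g * x * g⁻¹ ∈ B := ⟨x, hxF, rfl⟩
  -- a subgroup of exponent two outside `A`
  have hout : ∀ B' : Subgroup G, B' ≤ (S : Subgroup G) → (∀ b ∈ B', b * b = 1) → ¬ B' ≤ A → B' ≤ F := by
    intro B' hB'S hB'sq hB'A
    obtain ⟨b, hb, hbA⟩ := SetLike.not_le_iff_exists.1 hB'A
    have hbx : b * x ∈ Z := by
      have h1 : b * x ∈ A := (mem_or_mul_mem S hAi hxS hxA (hB'S hb)).resolve_left hbA
      refine ⟨h1, mem_cent.2 ?_⟩
      have h2 := (twist_eq_one_iff S hAS hA hAi hxS hx2 ⟨_, h1⟩).1 (by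
        rw [twist_apply]
        show b * x * (x * (b * x) * x) = 1
        rw [show b * x * (x * (b * x) * x) = b * (x * x) * b * (x * x) by simp only [mul_assoc], hx2,
          mul_one, mul_one, hB'sq b hb])
      exact h2.symm
    have hbF : b ∈ F := by
      have := mul_mem (hZF hbx) hxF
      rwa [mul_assoc, hx2, mul_one] at this
    intro y hy
    have hyb : y * b = b * y := comm_of_sq hB'sq hy hb
    have hyx : y * x = x * y := by
      have hcb : ∀ s ∈ (S : Subgroup G), s * (b * x) = b * x * s := fun s hs => hZS _ hbx s hs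
      have h1 := hcb y (hB'S hy)
      rw [← mul_assoc, hyb, mul_assoc, mul_assoc] at h1
      exact mul_left_cancel h1
    exact ⟨hB'S hy, mem_cent.2 hyx⟩
  have hd : Nat.card D.range ∣ Nat.card Z := card_dvd_of_le hle
  have hcases : Nat.card Z = 8 ∧ Nat.card D.range = 2 ∨ Nat.card Z = 4 := by
    have h1 : Nat.card D.range ≠ 1 := fun e => hne (card_eq_one.1 e)
    have hdv : Nat.card D.range ∣ 16 := Dvd.intro _ hmul
    have hle16 := Nat.le_of_dvd (by norm_num) hdv
    interval_cases hn : Nat.card D.range <;> omega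
  rcases hcases with ⟨hZ8, hR2⟩ | hZ4
  · -- two elementary abelian subgroups of order 16
    rw [hZ8] at hFcard
    have hAmax : ∀ B' : Subgroup G, B' ≤ (S : Subgroup G) → (∀ b ∈ B', b * b = 1) → Nat.card B' = 16 →
        B' = A ∨ B' = F := fun B' hB'S hB'sq hB' => by
      by_cases hBA : B' ≤ A
      · exact Or.inl (eq_of_le_of_card_ge hBA (by rw [h16, hB']))
      · exact Or.inr (eq_of_le_of_card_ge (hout B' hB'S hB'sq hBA) (by rw [hFcard, hB']))
    have hcent : ∀ s ∈ (S : Subgroup G), (∀ t ∈ (S : Subgroup G), t * s = s * t) → s ∈ Z := fun s hs hsc => by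
      rcases mem_or_mul_mem S hAi hxS hxA hs with h | h
      · exact ⟨h, mem_cent.2 (hsc x hxS).symm⟩
      · exfalso
        refine hne ((Subgroup.eq_bot_iff_forall _).2 ?_)
        rintro _ ⟨a, rfl⟩
        rw [twist_eq_one_iff]
        have h1 := hsc a (hAS a.2)
        have h2 := comm_of_sq hA a.2 h
        rw [← mul_assoc, h1, mul_assoc, mul_assoc] at h2
        exact (mul_left_cancel h2).symm
    have hSA : (S : Subgroup G) ≤ normalizer (A : Set G) :=
      (normal_subgroupOf_iff_le_normalizer hAS).1 (normal_of_index_eq_two hAi)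
    -- the Frattini subgroup is generated by the commutator
    have hfr : ¬ Cfsg.omegaOne 2 ((S : Subgroup G) ⊓ centralizer ((S : Subgroup G) : Set G)) ≤
        (frattini ↥(S : Subgroup G)).map (S : Subgroup G).subtype := by
      intro hle'
      haveI hRn : (D.range.subgroupOf (S : Subgroup G)).Normal := by
        refine ⟨fun z hz t => ?_⟩
        rw [mem_subgroupOf] at hz ⊢
        rw [coe_mul, coe_mul, coe_inv, hZS _ (hle hz) _ t.2, mul_assoc, mul_inv_cancel, mul_one]
        exact hz
      let R' := D.range.subgroupOf (S : Subgroup G)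
      have hfr' : frattini ↥(S : Subgroup G) ≤ R' := by
        have hcomm : ∀ v w : (S : Subgroup G), (v : ↥(S : Subgroup G) ⧸ R') * w = w * v := by
          have hA' : ∀ a : (S : Subgroup G), (a : G) ∈ A → ∀ t : (S : Subgroup G),
              (a : ↥(S : Subgroup G) ⧸ R') * t = t * a := by
            intro a ha t
            rw [← QuotientGroup.mk_mul, ← QuotientGroup.mk_mul, QuotientGroup.eq, mem_subgroupOf]
            rcases mem_or_mul_mem S hAi hxS hxA t.2 with h | h
            · push_cast
              rw [comm_of_sq hA ha h, inv_mul_cancel]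
              exact one_mem _
            · push_cast
              rw [mul_inv_rev, inv_self (hA _ ha)]
              have key : (t : G)⁻¹ * a * (t * a) = x * a * x * a := by
                have ht : (t : G) = t * x * x := by rw [mul_assoc, hx2, mul_one]
                conv_lhs => rw [ht]
                rw [mul_inv_rev (↑t * x) x, inv_self hx2, inv_self (hA _ h)]
                rw [show x * (↑t * x) * ↑a * (↑t * x * x * ↑a) =
                  x * ((↑t * x) * ↑a) * (↑t * x) * x * ↑a by simp only [mul_assoc],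
                  comm_of_sq hA h ha, show x * (↑a * (↑t * x)) * (↑t * x) * x * ↑a =
                  x * ↑a * ((↑t * x) * (↑t * x)) * x * ↑a by simp only [mul_assoc], hA _ h, mul_one]
              rw [show (t : G)⁻¹ * a * (↑t * ↑a) = (t : G)⁻¹ * a * (t * a) from rfl] at *
              rw [show (t : G)⁻¹ * a * (↑t * ↑a) = x * a * x * a from key]
              have h1 : (a : G) * (x * a * x) ∈ D.range := ⟨⟨a, ha⟩, rfl⟩
              rw [comm_of_sq hA ha (conj_mem S hAi hxS hAS ha)] at h1
              exact h1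
          intro v w
          rcases mem_or_mul_mem S hAi hxS hxA v.2 with h | h
          · exact hA' v h w
          rcases mem_or_mul_mem S hAi hxS hxA w.2 with h' | h'
          · exact (hA' w h' v).symm
          have hv := hA' (v * ⟨x, hxS⟩) h ⟨x, hxS⟩
          have hw := hA' (w * ⟨x, hxS⟩) h' ⟨x, hxS⟩
          have hvw := hA' (v * ⟨x, hxS⟩) h (w * ⟨x, hxS⟩)
          simp only [QuotientGroup.mk_mul] at hv hw hvw
          set X : ↥(S : Subgroup G) ⧸ R' := QuotientGroup.mk ⟨x, hxS⟩
          set v' : ↥(S : Subgroup G) ⧸ R' := QuotientGroup.mk v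
          set w' : ↥(S : Subgroup G) ⧸ R' := QuotientGroup.mk w
          have hv' : v' * X = X * v' := mul_right_cancel (by rw [hv, mul_assoc])
          have hw' : w' * X = X * w' := mul_right_cancel (by rw [hw, mul_assoc])
          refine mul_right_cancel (b := X * X) ?_
          calc v' * w' * (X * X) = v' * X * (w' * X) := by
                simp only [mul_assoc]
                rw [← mul_assoc w', hw', mul_assoc, hw']
            _ = w' * X * (v' * X) := hvw
            _ = w' * v' * (X * X) := by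
                simp only [mul_assoc]
                rw [← mul_assoc X v', ← hv', mul_assoc]
        refine FusionSys.RankThree.frattini_le_of (p := 2) S.2 (N := R') (fun v w => ?_) (fun v => ?_)
        · rw [← QuotientGroup.eq_one_iff, ← QuotientGroup.mk'_apply, map_commutatorElement,
            commutatorElement_eq_one_iff_mul_comm]
          exact hcomm v w
        · rcases mem_or_mul_mem S hAi hxS hxA v.2 with h | h
          · rw [mem_subgroupOf, coe_pow, pow_two, hA _ h]
            exact one_mem _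
          · rw [mem_subgroupOf, coe_pow, pow_two]
            have h1 : (v : G) * x * (x * (v * x) * x) ∈ D.range := ⟨⟨v * x, h⟩, rfl⟩
            rwa [show (v : G) * x * (x * (v * x) * x) = v * (x * x) * v * (x * x) by simp only [mul_assoc],
              hx2, mul_one, mul_one] at h1
      have hZle : Z ≤ D.range := fun z hz => by
        have h1 : z ∈ Cfsg.omegaOne 2 ((S : Subgroup G) ⊓ centralizer ((S : Subgroup G) : Set G)) :=
          subset_closure ⟨⟨hAS hz.1, mem_centralizer_iff.2 fun s hs => hZS z hz s hs⟩,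
            by rw [pow_two]; exact hA z hz.1⟩
        obtain ⟨w, hw, rfl⟩ := hle' h1
        exact hfr' hw
      have := card_le_of_le hZle
      omega
    rcases Agent.S2872.result S with hp | hp | ⟨n, hn, z, hz, hnz⟩
    · exact hp (pResidual_eq_top hna)
    · exact hfr hp
    have hzS : ∀ s ∈ (S : Subgroup G), s * z = z * s := by
      have hle' : Cfsg.omegaOne 2 ((S : Subgroup G) ⊓ centralizer ((S : Subgroup G) : Set G)) ≤
          centralizer ((S : Subgroup G) : Set G) := (closure_le _).2 fun w hw => hw.1.2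
      exact fun s hs => mem_centralizer_iff.1 (hle' hz) s hs
    have hcoat := hN fun e => hnz (by
      rw [hzS n (e ▸ hn), mul_assoc, mul_inv_cancel, mul_one])
    have hNA : ∀ n ∈ normalizer ((S : Subgroup G) : Set G), A.map (MulAut.conj n).toMonoidHom = A ∧
        F.map (MulAut.conj n).toMonoidHom = F := by
      intro n hn
      have himg : ∀ B' : Subgroup G, B' ≤ (S : Subgroup G) → (∀ b ∈ B', b * b = 1) → Nat.card B' = 16 →
          B'.map (MulAut.conj n).toMonoidHom = A ∨ B'.map (MulAut.conj n).toMonoidHom = F := by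
        intro B' h1 h2 h3
        refine hAmax _ ?_ ?_ ?_
        · rintro _ ⟨b, hb, rfl⟩
          exact (mem_normalizer_iff.1 hn b).1 (h1 hb)
        · rintro _ ⟨b, hb, rfl⟩
          rw [← map_mul, h2 b hb, map_one]
        · rw [card_map_of_injective (MulAut.conj n).injective, h3]
      have hinj := map_injective (f := (MulAut.conj n).toMonoidHom) (MulAut.conj n).injective
      have hA1 : A.map (MulAut.conj n).toMonoidHom = A := by
        refine (himg A hAS hA h16).resolve_right fun e => ?_
        rcases himg F inf_le_left hFsq hFcard with e' | e'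
        · refine hAnotF (eq_of_swap (fun g K => K.map (MulAut.conj g).toMonoidHom) (fun K => ?_)
            (fun g h K => ?_) S hn (fun s hs => ?_) e e').symm
          · ext; simp
          · ext; simp [mul_assoc]
          · exact Core.mem_normalizer_iff_map_conj.1 (hSA hs)
        · exact hAnotF (hinj (e.trans e'.symm)).symm
      refine ⟨hA1, (himg F inf_le_left hFsq hFcard).resolve_left fun e => hAnotF ?_⟩
      exact hinj (e.trans hA1.symm)
    have hNF : normalizer (F : Set G) = normalizer ((S : Subgroup G) : Set G) := by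
      refine (hcoat.le_iff.1 fun n hn =>
        Core.mem_normalizer_iff_map_conj.2 (hNA n hn).2).resolve_left ?_
      refine normalizer_ne_top (fun e => ?_) fun e => ?_
      · rw [e, card_bot] at hFcard; omega
      · exact not_solvable_simple hna (by
          haveI : Group.IsSolvable (⊤ : Subgroup G) := by
            rw [← e]
            exact Group.isSolvable_of_comm fun a b => Subtype.ext (comm_of_sq hFsq a.2 b.2)
          exact Group.isSolvable_of_surjective (f := (⊤ : Subgroup G).subtype) fun y => ⟨⟨y, mem_top y⟩, rfl⟩)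
    rcases hAmax B hBS hBsq (by rw [hBcard, hFcard]) with hB | hB
    · obtain ⟨n, hn, hnF⟩ := exists_normalizer_conj S hSF hSA hB
      exact hAnotF ((hNA n hn).2.symm.trans hnF)
    · have hgN : g ∈ normalizer ((S : Subgroup G) : Set G) := hNF ▸ Core.mem_normalizer_iff_map_conj.2 hB
      have haZ : g * x * g⁻¹ ∈ Z := by
        have h1 : g * x * g⁻¹ ∈ F := hB ▸ hgxB
        exact ⟨hgA, h1.2⟩
      have hxZ : x ∈ Z := by
        refine hcent x hxS fun t ht => ?_
        have h1 := hZS _ haZ (g * t * g⁻¹) ((mem_normalizer_iff.1 hgN t).1 ht)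
        calc t * x = g⁻¹ * (g * t * g⁻¹ * (g * x * g⁻¹)) * g := by group
          _ = g⁻¹ * (g * x * g⁻¹ * (g * t * g⁻¹)) * g := by rw [h1]
          _ = x * t := by group
      exact hxA hxZ.1
  · -- the centre has order four
    rw [hZ4] at hFcard
    have hC : ∀ s ∈ (S : Subgroup G), (∀ f ∈ F, s * f = f * s) → s ∈ F := fun s hs h =>
      ⟨hs, mem_cent.2 (h x hxF)⟩
    by_cases hBA : B ≤ A
    · obtain ⟨c, hc, hcx⟩ := exists_conj_le (C := normalizer (F : Set G)) S.2 hSF
        (Q := A.map (MulAut.conj g⁻¹).toMonoidHom) ((S.2.to_le hAS).map _) (by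
          rintro _ ⟨a, ha, rfl⟩
          refine centralizer_le_normalizer _ (mem_centralizer_iff.2 fun f hf => ?_)
          have h1 := comm_of_sq hA ha (hBA ⟨f, hf, rfl⟩)
          simp only [MulEquiv.coe_toMonoidHom, MulAut.conj_apply, inv_inv] at h1 ⊢
          calc f * (g⁻¹ * a * g) = g⁻¹ * (g * f * g⁻¹ * a) * g := by group
            _ = g⁻¹ * (a * (g * f * g⁻¹)) * g := by rw [h1]
            _ = g⁻¹ * a * g * f := by group)
        fun R hR _ => by
          obtain ⟨T, hT⟩ := hR.exists_le_sylow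
          exact (card_le_of_le hT).trans (le_of_eq (Nat.card_congr (T.equiv S).toEquiv))
      have hle' : A.map (MulAut.conj (c * g⁻¹)).toMonoidHom ≤ F := by
        rintro _ ⟨a, ha, rfl⟩
        have h0 := hcx _ ⟨a, ha, rfl⟩
        simp only [MulEquiv.coe_toMonoidHom, MulAut.conj_apply, inv_inv] at h0
        refine hC _ (by simpa [mul_assoc] using h0) fun f hf => ?_
        have hf' : c⁻¹ * f * c ∈ F := (mem_normalizer_iff.1 hc _).2 (by simpa [mul_assoc] using hf)
        have h1 := comm_of_sq hA ha (hBA ⟨_, hf', rfl⟩)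
        simp only [MulEquiv.coe_toMonoidHom, MulAut.conj_apply] at h1 ⊢
        calc c * g⁻¹ * a * (c * g⁻¹)⁻¹ * f
            = c * g⁻¹ * (a * (g * (c⁻¹ * f * c) * g⁻¹)) * g * c⁻¹ := by group
          _ = c * g⁻¹ * (g * (c⁻¹ * f * c) * g⁻¹ * a) * g * c⁻¹ := by rw [h1]
          _ = f * (c * g⁻¹ * a * (c * g⁻¹)⁻¹) := by group
      have := card_le_of_le hle'
      rw [card_map_of_injective (MulAut.conj _).injective, h16, hFcard] at this
      omega
    · have hB : B = F := eq_of_le_of_card_ge (hout B hBS hBsq hBA) hBcard.ge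
      have hgN : g ∈ normalizer (F : Set G) := Core.mem_normalizer_iff_map_conj.2 hB
      have haZ : g * x * g⁻¹ ∈ Z := ⟨hgA, (hB ▸ hgxB : g * x * g⁻¹ ∈ F).2⟩
      have h1 := normalizer_preserves_fixed S hFe (by omega) inf_le_left hSF hC hS32 (inv_mem hgN)
        (hZF haZ) (hZS _ haZ)
      refine hne ((Subgroup.eq_bot_iff_forall _).2 ?_)
      rintro _ ⟨a, rfl⟩
      rw [twist_eq_one_iff]
      have h2 := h1 a (hAS a.2)
      rw [inv_inv, show g⁻¹ * (g * x * g⁻¹) * g = x by group] at h2
      exact h2.symm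

end IndexTwo

end Cfsg.Lib.LenSeven
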