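import Cfsg.Agent.Lib.LenSeven.Essential
import Cfsg.Agent.Lib.LenSeven.RankFour

/-!
# Elementary abelian essential subgroups of order eight

In a Sylow subgroup of order 32 of a simple group such a subgroup does not exist.
-/

set_option autoImplicit false
set_option linter.style.haveILetI false
set_option linter.unusedSectionVars false
set_option maxHeartbeats 400000

namespace Cfsg.Lib.LenSeven

open Subgroup LenEight Cfsg.FusionSystem
open scoped commutatorElement

universe u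

variable {G : Type u} [Group G] [Finite G] [IsSimpleGroup G]

/-- A quasi-dihedral maximal subgroup with all involutions fused to `c` and an involution outside not fused
to `c`. -/
theorem false_of_qd16 (hna : ¬ IsMulCommutative G) (S : Sylow 2 G) (h32 : Nat.card (S : Subgroup G) = 32)
    {y a d : G} (hy : y ∈ (S : Subgroup G)) (ha : a ∈ (S : Subgroup G)) (hd : d ∈ (S : Subgroup G))
    (hy8 : orderOf y = 8) (ha2 : a * a = 1) (haya : a * y * a = y ^ 3) (hd2 : d * d = 1)
    (hda : d * a = a * d) (hd1 : d ≠ 1) (hdc : d ≠ y ^ 4) (hdne : d ≠ a) (hdne' : d ≠ y ^ 4 * a)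
    (hfus : ∀ g : G, g * d * g⁻¹ ≠ y ^ 4) (hac : ∃ g : G, g * a * g⁻¹ = y ^ 4) : False := by
  have hy8' : y ^ 8 = 1 := hy8 ▸ pow_orderOf_eq_one y
  have hpow : ∀ k, a * y ^ k * a = y ^ (3 * k) := by
    intro k
    induction k with
    | zero => simp [ha2]
    | succ k ih =>
      rw [pow_succ, show a * (y ^ k * y) * a = a * y ^ k * a * (a * y * a) by
        simp only [mul_assoc]; rw [← mul_assoc a a (y * a), ha2, one_mul], ih, haya, ← pow_add]
      congr 1
  have haC : a ∈ normalizer ((zpowers y : Subgroup G) : Set G) := by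
    refine Invol.mem_normalizer_of_map_le ?_
    rintro _ ⟨g, hg, rfl⟩
    obtain ⟨k, rfl⟩ := (IsOfFinOrder.mem_powers_iff_mem_zpowers (isOfFinOrder_of_finite y)).2 hg
    show a * y ^ k * a⁻¹ ∈ zpowers y
    rw [inv_self ha2, hpow]
    exact pow_mem (mem_zpowers y) _
  set M := zpowers y ⊔ zpowers a with hM
  have hmemM : ∀ m ∈ M, ∃ k : ℕ, m = y ^ k ∨ m = y ^ k * a := by
    intro m hm
    rw [hM, ← SetLike.mem_coe, coe_mul_of_right_le_normalizer_left _ _ (zpowers_le.2 haC)] at hm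
    obtain ⟨p, hp, q, hq, rfl⟩ := hm
    obtain ⟨k, rfl⟩ := (IsOfFinOrder.mem_powers_iff_mem_zpowers (isOfFinOrder_of_finite y)).2 hp
    obtain ⟨j, rfl⟩ := (IsOfFinOrder.mem_powers_iff_mem_zpowers (isOfFinOrder_of_finite a)).2 hq
    refine ⟨k, ?_⟩
    show y ^ k * a ^ j = y ^ k ∨ y ^ k * a ^ j = y ^ k * a
    rcases Nat.even_or_odd' j with ⟨i, rfl | rfl⟩
    · exact Or.inl (by rw [pow_mul, pow_two, ha2, one_pow, mul_one])
    · exact Or.inr (by rw [pow_succ, pow_mul, pow_two, ha2, one_pow, one_mul])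
  have hMS : M ≤ (S : Subgroup G) := sup_le (zpowers_le.2 hy) (zpowers_le.2 ha)
  have h8dvd : ∀ n : ℕ, y ^ n = 1 → 8 ∣ n := fun n h => hy8 ▸ orderOf_dvd_of_pow_eq_one h
  have hpe : ∀ i j : ℕ, i % 8 = j % 8 → y ^ i = y ^ j := fun i j h => by
    rw [← pow_mod_orderOf y i, ← pow_mod_orderOf y j, hy8, h]
  have hay : a ∉ zpowers y := fun h => by
    obtain ⟨k, hk⟩ := (IsOfFinOrder.mem_powers_iff_mem_zpowers (isOfFinOrder_of_finite y)).2 h
    have h1 : y * a = a * y := by rw [← hk]; exact (Commute.self_pow y k).eq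
    have h2 : y ^ 3 = y := by rw [← haya, ← h1, mul_assoc, ha2, mul_one]
    have h3 : y ^ 2 = 1 := by rwa [pow_succ, mul_eq_right] at h2
    have := h8dvd 2 h3
    omega
  have hdM : d ∉ M := fun h => by
    obtain ⟨k, hk | hk⟩ := hmemM d h
    · subst hk
      rw [← pow_add] at hd2
      have h2 := h8dvd _ hd2
      rcases (show k % 8 = 0 ∨ k % 8 = 4 by omega) with h3 | h3
      · exact hd1 ((hpe k 0 (by omega)).trans (pow_zero y))
      · exact hdc (hpe k 4 (by omega))
    · subst hk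
      have h1 : y ^ k = y ^ (3 * k) := by
        rw [← hpow]
        calc y ^ k = y ^ k * a * a := by rw [mul_assoc, ha2, mul_one]
          _ = a * (y ^ k * a) := hda
          _ = a * y ^ k * a := (mul_assoc _ _ _).symm
      rw [pow_eq_pow_iff_modEq] at h1
      simp only [hy8, Nat.ModEq] at h1
      rcases (show k % 8 = 0 ∨ k % 8 = 4 by omega) with h3 | h3
      · exact hdne (by rw [hpe k 0 (by omega), pow_zero, one_mul])
      · exact hdne' (by rw [hpe k 4 (by omega)])
  have hMcard : Nat.card M = 16 := by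
    have hlt : zpowers y < M := lt_of_le_of_ne le_sup_left fun e => hay (e ▸ mem_sup_right (mem_zpowers a))
    have hlt' : M < (S : Subgroup G) := lt_of_le_of_ne hMS fun e => hdM (e ▸ hd)
    obtain ⟨i, hi⟩ := card_dvd_of_le hlt.le
    obtain ⟨j, hj⟩ := card_dvd_of_le hMS
    have h1 : Nat.card M ≠ Nat.card (zpowers y) := fun e => hlt.ne (eq_of_le_of_card_ge hlt.le e.le)
    have h2 : Nat.card M ≠ Nat.card (S : Subgroup G) := fun e => hlt'.ne (eq_of_le_of_card_ge hMS e.ge)
    rw [Nat.card_zpowers, hy8] at hi h1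
    rw [hi] at hj h1 h2 ⊢
    rw [h32] at hj h2
    have : i ∣ 4 := ⟨j, by rw [mul_assoc] at hj; omega⟩
    have := Nat.le_of_dvd (by norm_num) this
    interval_cases i <;> omega
  have hMi : M.relIndex (S : Subgroup G) = 2 := by
    have := card_mul_index (M.subgroupOf (S : Subgroup G))
    rw [Nat.card_congr (subgroupOfEquivOfLe hMS).toEquiv, hMcard, h32] at this
    show (M.subgroupOf (S : Subgroup G)).index = 2
    omega
  -- every involution of `M` is fused to `y ^ 4`
  obtain ⟨g₀, hg₀⟩ := hac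
  have hstep : ∀ j : ℕ, y ^ j * a * (y ^ j)⁻¹ = y ^ (6 * j) * a := by
    intro j
    rw [mul_inv_eq_iff_eq_mul]
    calc y ^ j * a = y ^ (6 * j + 3 * j) * a := by
          rw [hpe (6 * j + 3 * j) j (by omega)]
      _ = y ^ (6 * j) * (a * y ^ j * a) * a := by rw [pow_add, hpow]
      _ = y ^ (6 * j) * a * y ^ j := by simp only [mul_assoc]; rw [ha2, mul_one]
  obtain ⟨g, hg, -⟩ := conj_into_min hna S hMi hd fun z hz hlt => by
    rw [orderOf_two hd2 hd1, Nat.lt_iff_add_one_le] at hlt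
    rw [orderOf_eq_one_iff.1 (le_antisymm (by omega) (orderOf_pos z))]
    exact one_mem M
  have hg2 : g * d * g⁻¹ * (g * d * g⁻¹) = 1 := by
    rw [show g * d * g⁻¹ * (g * d * g⁻¹) = g * (d * d) * g⁻¹ by group, hd2, mul_one, mul_inv_cancel]
  obtain ⟨k, hk | hk⟩ := hmemM _ hg
  · rw [hk, ← pow_add] at hg2
    have h2 := h8dvd _ hg2
    rcases (show k % 8 = 0 ∨ k % 8 = 4 by omega) with h3 | h3
    · rw [hpe k 0 (by omega), pow_zero, mul_inv_eq_one, mul_eq_left] at hk
      exact hd1 hk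
    · exact hfus g (hk.trans (hpe k 4 (by omega)))
  · rw [hk, show y ^ k * a * (y ^ k * a) = y ^ k * (a * y ^ k * a) by simp only [mul_assoc], hpow,
      ← pow_add] at hg2
    have h2 := h8dvd _ hg2
    obtain ⟨j, hj⟩ : ∃ j, k % 8 = 6 * j % 8 := by
      rcases (show k % 8 = 0 ∨ k % 8 = 2 ∨ k % 8 = 4 ∨ k % 8 = 6 by omega) with h3 | h3 | h3 | h3
      exacts [⟨0, h3⟩, ⟨3, h3⟩, ⟨2, h3⟩, ⟨1, h3⟩]
    rw [hpe k _ hj, ← hstep] at hk
    refine hfus (g₀ * (y ^ j)⁻¹ * g) ?_
    rw [← hg₀]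
    calc g₀ * (y ^ j)⁻¹ * g * d * (g₀ * (y ^ j)⁻¹ * g)⁻¹
        = g₀ * (y ^ j)⁻¹ * (g * d * g⁻¹) * y ^ j * g₀⁻¹ := by group
      _ = g₀ * (y ^ j)⁻¹ * (y ^ j * a * (y ^ j)⁻¹) * y ^ j * g₀⁻¹ := by rw [hk]
      _ = g₀ * a * g₀⁻¹ := by group

/-- An elementary abelian essential subgroup of order eight is impossible in rank three. -/
theorem IsEss.not_eight_elementary (hna : ¬ IsMulCommutative G) {S : Sylow 2 G} {A : Subgroup G}
    (h : IsEss S A) (h32 : Nat.card (S : Subgroup G) = 32) (h8 : Nat.card A = 8)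
    (hA : ∀ a ∈ A, a * a = 1) : False := by
  haveI : Fact (Nat.Prime 2) := ⟨Nat.prime_two⟩
  have hAS := h.le
  have hAe : IsElementaryAbelian 2 A :=
    ⟨⟨⟨fun a b => Subtype.ext (comm_of_sq hA a.2 b.2)⟩⟩, fun a ha => by rw [pow_two]; exact hA a ha⟩
  have hC : ∀ s ∈ (S : Subgroup G), (∀ f ∈ A, s * f = f * s) → s ∈ A := fun s hs hc =>
    h.mem_of_commute hs hc
  set T := (S : Subgroup G) ⊓ normalizer (A : Set G) with hTdef
  have hAT : A ≤ T := le_inf hAS le_normalizer
  have hTS : T ≤ (S : Subgroup G) := inf_le_left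
  have hTnS : T ≠ (S : Subgroup G) := by
    intro e
    have hSN : (S : Subgroup G) ≤ normalizer (A : Set G) := e ▸ inf_le_right
    set F := groupFusionSystem (S : Subgroup G)
    obtain ⟨-, -, -, hO, hRp, hRI⟩ :=
      FusionSys.RankTwo.basic S.2 (FusionSys.isSaturated_groupFusionSystem S) h
    refine hRI (hO _ ⟨fun b hb a => ?_⟩ hRp)
    obtain ⟨n, hn, hna'⟩ := h.exists_conj a.2
    obtain ⟨s, hs, hsb⟩ := FusionSys.mem_autInducedBy.1 (mem_subgroupOf.1 hb)
    obtain ⟨t, ht, hte⟩ := exists_same_action S hAe h8 hAS hSN hC h32 (inv_mem hn) hs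
    refine mem_subgroupOf.2 (FusionSys.mem_autInducedBy.2 ⟨t, ht, fun x => ?_⟩)
    rw [← hte x x.2, inv_inv, Subgroup.coe_mul, Subgroup.coe_mul, MulAut.mul_apply, MulAut.mul_apply, hna',
      hsb]
    have h1 := hna' ((a⁻¹ : F.autGroup A).1 x)
    rw [Subgroup.coe_inv, MulAut.inv_apply, MulEquiv.apply_symm_apply] at h1
    have h2 : (((a : MulAut A).symm x : A) : G) = n⁻¹ * x * n := by rw [h1]; group
    rw [Subgroup.coe_inv, MulAut.inv_apply, h2]
    group
  have hTcard : Nat.card T = 16 := by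
    have hlt : A < T := by
      obtain ⟨u, hu, huA, huN⟩ := exists_normalizer_grow S.2 h.lt
      exact lt_of_le_of_ne hAT fun e => huA (e ▸ ⟨hu, huN⟩)
    obtain ⟨i, hi⟩ := card_dvd_of_le hAT
    obtain ⟨j, hj⟩ := card_dvd_of_le hTS
    have h1 : Nat.card T ≠ Nat.card A := fun e => hlt.ne (eq_of_le_of_card_ge hAT e.le)
    have h2 : Nat.card T ≠ Nat.card (S : Subgroup G) := fun e => hTnS (eq_of_le_of_card_ge hTS e.ge)
    rw [h8] at hi h1
    rw [hi] at hj h1 h2 ⊢
    rw [h32] at hj h2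
    have : i ∣ 4 := ⟨j, by rw [mul_assoc] at hj; omega⟩
    have := Nat.le_of_dvd (by norm_num) this
    interval_cases i <;> omega
  have hTi : T.relIndex (S : Subgroup G) = 2 := by
    have := card_mul_index (T.subgroupOf (S : Subgroup G))
    rw [Nat.card_congr (subgroupOfEquivOfLe hTS).toEquiv, hTcard, h32] at this
    show (T.subgroupOf (S : Subgroup G)).index = 2
    omega
  have hST : (S : Subgroup G) ≤ normalizer (T : Set G) :=
    (normal_subgroupOf_iff_le_normalizer hTS).1 (normal_of_index_eq_two hTi)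
  obtain ⟨y₀, hy₀S, hy₀T⟩ := SetLike.exists_of_lt (lt_of_le_of_ne hTS hTnS)
  set A' := A.map (MulAut.conj y₀).toMonoidHom with hA'def
  have hyconj : ∀ {t : G}, t ∈ T → y₀ * t * y₀⁻¹ ∈ T := fun {t} ht =>
    (mem_normalizer_iff.1 (hST hy₀S) t).1 ht
  have hA'T : A' ≤ T := by
    rintro _ ⟨x, hx, rfl⟩
    exact hyconj (hAT hx)
  have hy2 : y₀ * y₀ ∈ T := (mul_mem_iff_two S hTi hy₀S hy₀S).2 Iff.rfl
  have hTA : ∀ t ∈ T, ∀ x ∈ A, t * x * t⁻¹ ∈ A := fun t ht x hx =>
    (mem_normalizer_iff.1 ht.2 x).1 hx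
  have hback : ∀ x ∈ A', y₀ * x * y₀⁻¹ ∈ A := by
    rintro _ ⟨w, hw, rfl⟩
    have := hTA _ hy2 w hw
    simpa [mul_assoc] using this
  have hA'sq : ∀ x ∈ A', x * x = 1 := by
    rintro _ ⟨w, hw, rfl⟩
    rw [← map_mul, hA w hw, map_one]
  have hA'8 : Nat.card A' = 8 := by rw [hA'def, card_map_of_injective (MulAut.conj y₀).injective, h8]
  have hA'ne : A' ≠ A := fun e =>
    hy₀T ⟨hy₀S, Core.mem_normalizer_iff_map_conj.2 e⟩
  have hTA' : ∀ t ∈ T, ∀ x ∈ A', t * x * t⁻¹ ∈ A' := by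
    rintro t ht _ ⟨w, hw, rfl⟩
    have ht' : y₀⁻¹ * t * y₀ ∈ T :=
      (mem_normalizer_iff.1 (hST hy₀S) _).2 (by simpa [mul_assoc] using ht)
    refine ⟨_, hTA _ ht' w hw, ?_⟩
    simp [mul_assoc]
  set Z := A ⊓ A' with hZdef
  have hAi : (A.subgroupOf T).index = 2 := by
    have := card_mul_index (A.subgroupOf T)
    rw [Nat.card_congr (subgroupOfEquivOfLe hAT).toEquiv, h8, hTcard] at this
    omega
  have hmulA : ∀ {p q : G}, p ∈ T → q ∈ T → (p * q ∈ A ↔ (p ∈ A ↔ q ∈ A)) := fun {p q} hp hq => by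
    simpa [mem_subgroupOf] using mul_mem_iff_of_index_two hAi (a := ⟨p, hp⟩) (b := ⟨q, hq⟩)
  obtain ⟨b₀, hb₀', hb₀A⟩ : ∃ b ∈ A', b ∉ A := SetLike.not_le_iff_exists.1 fun hle =>
    hA'ne (eq_of_le_of_card_ge hle (by rw [h8, hA'8]))
  have hZi : (Z.subgroupOf A').index = 2 := by
    rw [index_eq_two_iff]
    refine ⟨⟨b₀, hb₀'⟩, fun b => ?_⟩
    have h1 := hmulA (hA'T b.2) (hA'T hb₀')
    simp only [mem_subgroupOf, hZdef, mem_inf, coe_mul, mul_mem b.2 hb₀', b.2, and_true]
    by_cases hb : (b : G) ∈ A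
    · exact Or.inr ⟨hb, fun h' => hb₀A ((h1.1 h').1 hb)⟩
    · exact Or.inl ⟨h1.2 (iff_of_false hb hb₀A), hb⟩
  have hZ4 : Nat.card Z = 4 := by
    have := card_mul_index (Z.subgroupOf A')
    rw [Nat.card_congr (subgroupOfEquivOfLe (inf_le_right : Z ≤ A')).toEquiv, hA'8, hZi] at this
    rw [hZdef]
    omega
  have hZi' : (Z.subgroupOf A).index = 2 := by
    have := card_mul_index (Z.subgroupOf A)
    rw [Nat.card_congr (subgroupOfEquivOfLe (inf_le_left : Z ≤ A)).toEquiv, h8, ← hZdef, hZ4] at this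
    omega
  have hdecA : ∀ {p q : G}, p ∈ A → q ∈ A → p ∉ Z → q ∈ Z ∨ p * q ∈ Z := fun {p q} hp hq hpZ => by
    by_cases hqZ : q ∈ Z
    · exact Or.inl hqZ
    · exact Or.inr ((mul_mem_iff_of_index_two hZi' (a := ⟨p, hp⟩) (b := ⟨q, hq⟩)).2 (iff_of_false hpZ hqZ))
  have hdecA' : ∀ {p q : G}, p ∈ A' → q ∈ A' → p ∉ Z → q ∈ Z ∨ p * q ∈ Z := fun {p q} hp hq hpZ => by
    by_cases hqZ : q ∈ Z
    · exact Or.inl hqZ
    · exact Or.inr ((mul_mem_iff_of_index_two hZi (a := ⟨p, hp⟩) (b := ⟨q, hq⟩)).2 (iff_of_false hpZ hqZ))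
  -- decomposition of `T`
  have hTdec : ∀ {a a' : G}, a ∈ A → a ∉ Z → a' ∈ A' → a' ∉ Z → ∀ t ∈ T,
      ∃ z ∈ Z, t = z ∨ t = a * z ∨ t = z * a' ∨ t = a * z * a' := by
    intro a a' ha haZ ha' ha'Z t ht
    have ha'A : a' ∉ A := fun h1 => ha'Z ⟨h1, ha'⟩
    have hA2 : ∀ x ∈ A, ∃ z ∈ Z, x = z ∨ x = a * z := fun x hx => by
      rcases hdecA ha hx haZ with h1 | h1
      · exact ⟨x, h1, Or.inl rfl⟩
      · exact ⟨a * x, h1, Or.inr (by rw [← mul_assoc, hA a ha, one_mul])⟩
    by_cases htA : t ∈ A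
    · obtain ⟨z, hz, rfl | rfl⟩ := hA2 t htA
      exacts [⟨t, hz, Or.inl rfl⟩, ⟨z, hz, Or.inr (Or.inl rfl)⟩]
    · have h1 : t * a' ∈ A := (hmulA ht (hA'T ha')).2 (iff_of_false htA ha'A)
      obtain ⟨z, hz, h2 | h2⟩ := hA2 _ h1
      · refine ⟨z, hz, Or.inr (Or.inr (Or.inl ?_))⟩
        rw [← h2, mul_assoc, hA'sq a' ha', mul_one]
      · refine ⟨z, hz, Or.inr (Or.inr (Or.inr ?_))⟩
        rw [← h2, mul_assoc, hA'sq a' ha', mul_one]
  obtain ⟨a₀, ha₀, ha₀Z⟩ : ∃ a ∈ A, a ∉ Z := by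
    refine SetLike.exists_of_lt (lt_of_le_of_ne inf_le_left fun e => ?_)
    rw [e, h8] at hZ4
    omega
  have hb₀Z : b₀ ∉ Z := fun h1 => hb₀A h1.1
  have hZT : ∀ z ∈ Z, ∀ t ∈ T, t * z = z * t := by
    intro z hz t ht
    have c1 : ∀ x ∈ A, x * z = z * x := fun x hx => comm_of_sq hA hx hz.1
    obtain ⟨w, hw, rfl | rfl | rfl | rfl⟩ := hTdec ha₀ ha₀Z hb₀' hb₀Z t ht
    · exact c1 _ hw.1
    · exact c1 _ (mul_mem ha₀ hw.1)
    · rw [mul_assoc, comm_of_sq hA'sq hb₀' hz.2, ← mul_assoc, c1 w hw.1, mul_assoc]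
    · rw [mul_assoc, comm_of_sq hA'sq hb₀' hz.2, ← mul_assoc, c1 _ (mul_mem ha₀ hw.1), mul_assoc]
  set c := a₀ * b₀ * a₀ * b₀ with hc
  have hcZ : c ∈ Z := by
    refine ⟨?_, ?_⟩
    · have h1 := hTA b₀ (hA'T hb₀') a₀ ha₀
      rw [inv_self (hA'sq b₀ hb₀')] at h1
      have := mul_mem ha₀ h1
      simpa [hc, mul_assoc] using this
    · have h1 := hTA' a₀ (hAT ha₀) b₀ hb₀'
      rw [inv_self (hA a₀ ha₀)] at h1
      exact mul_mem h1 hb₀'
  have hZsq : ∀ z ∈ Z, z * z = 1 := fun z hz => hA z hz.1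
  have hcomm : ∀ a ∈ A, a ∉ Z → ∀ a' ∈ A', a' ∉ Z → a * a' * a * a' = c := by
    intro a ha haZ a' ha' ha'Z
    have hz : a₀ * a ∈ Z := (hdecA ha₀ ha ha₀Z).resolve_left haZ
    have hw : b₀ * a' ∈ Z := (hdecA' hb₀' ha' hb₀Z).resolve_left ha'Z
    have ea : a = a₀ * (a₀ * a) := by rw [← mul_assoc, hA a₀ ha₀, one_mul]
    have eb : a' = b₀ * (b₀ * a') := by rw [← mul_assoc, hA'sq b₀ hb₀', one_mul]
    set z := a₀ * a
    set w := b₀ * a'
    rw [ea, eb, hc]
    have hzb := hZT z hz b₀ (hA'T hb₀')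
    have hza := hZT z hz a₀ (hAT ha₀)
    have hwa := hZT w hw a₀ (hAT ha₀)
    have hwb := hZT w hw b₀ (hA'T hb₀')
    have hwz := hZT w hw z (hAT hz.1)
    calc a₀ * z * (b₀ * w) * (a₀ * z) * (b₀ * w) = a₀ * (z * b₀) * (w * a₀) * (z * b₀) * w := by
          simp only [mul_assoc]
      _ = a₀ * b₀ * (z * a₀) * w * b₀ * z * w := by
          rw [← hzb, ← hwa]; simp only [mul_assoc]
      _ = a₀ * b₀ * a₀ * z * (b₀ * w) * z * w := by rw [← hza, hwb]; simp only [mul_assoc]
      _ = a₀ * b₀ * a₀ * (z * b₀) * (w * z) * w := by simp only [mul_assoc]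
      _ = a₀ * b₀ * a₀ * b₀ * (z * z) * (w * w) := by rw [← hzb, ← hwz]; simp only [mul_assoc]
      _ = a₀ * b₀ * a₀ * b₀ := by rw [hZsq z hz, hZsq w hw, mul_one, mul_one]
  have hc1 : c ≠ 1 := fun e => by
    refine hb₀A (hC b₀ (hTS (hA'T hb₀')) fun x hx => ?_)
    rcases hdecA ha₀ hx ha₀Z with h1 | h1
    · exact hZT x h1 b₀ (hA'T hb₀')
    · have hx' : x ∉ Z := fun h2 => ha₀Z (by
        have := mul_mem h1 (inv_mem h2)
        simpa using this)
      have h3 := hcomm x hx hx' b₀ hb₀' hb₀Z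
      rw [e] at h3
      calc b₀ * x = (x * b₀ * x * b₀) * (b₀ * x) := by rw [h3, one_mul]
        _ = x * b₀ * x * (b₀ * b₀) * x := by simp only [mul_assoc]
        _ = x * b₀ * (x * x) := by rw [hA'sq b₀ hb₀', mul_one, mul_assoc]
        _ = x * b₀ := by rw [hA x hx, mul_one]
  have hsq : ∀ t ∈ T, (t * t = 1 ∧ (t ∈ A ∨ t ∈ A')) ∨ t * t = c := by
    intro t ht
    obtain ⟨z, hz, rfl | rfl | rfl | rfl⟩ := hTdec ha₀ ha₀Z hb₀' hb₀Z t ht
    · exact Or.inl ⟨hA _ hz.1, Or.inl hz.1⟩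
    · exact Or.inl ⟨hA _ (mul_mem ha₀ hz.1), Or.inl (mul_mem ha₀ hz.1)⟩
    · exact Or.inl ⟨hA'sq _ (mul_mem hz.2 hb₀'), Or.inr (mul_mem hz.2 hb₀')⟩
    · refine Or.inr ?_
      have haz : a₀ * z ∉ Z := fun h1 => ha₀Z (by
        have := mul_mem h1 (inv_mem hz)
        simpa using this)
      have := hcomm _ (mul_mem ha₀ hz.1) haz b₀ hb₀' hb₀Z
      simpa [mul_assoc] using this
  have hyZ : ∀ z ∈ Z, y₀ * z * y₀⁻¹ ∈ Z := fun z hz => ⟨hback z hz.2, ⟨z, hz.1, rfl⟩⟩
  have hyA' : ∀ x ∈ A, x ∉ Z → y₀ * x * y₀⁻¹ ∈ A' ∧ y₀ * x * y₀⁻¹ ∉ Z := fun x hx hxZ =>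
    ⟨⟨x, hx, rfl⟩, fun h1 => hxZ (by
      have h2 : y₀ * y₀ * x * (y₀ * y₀)⁻¹ ∈ Z := ⟨hTA _ hy2 x hx, ⟨_, h1.1, by simp [mul_assoc]⟩⟩
      have h3 := hZT _ h2 _ hy2
      rw [inv_mul_cancel_right] at h3
      exact (mul_left_cancel h3).symm ▸ h2)⟩
  have hcy : y₀ * c = c * y₀ := by
    have hb := hback b₀ hb₀'
    have hbZ : y₀ * b₀ * y₀⁻¹ ∉ Z := fun h1 => hb₀A (by
      obtain ⟨w, hw, he⟩ := h1.2
      exact (mul_left_cancel (mul_right_cancel (show y₀ * w * y₀⁻¹ = y₀ * b₀ * y₀⁻¹ from he))) ▸ hw)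
    obtain ⟨h1, h2⟩ := hyA' a₀ ha₀ ha₀Z
    have h3 := hcomm _ hb hbZ _ h1 h2
    have h4 : y₀ * c * y₀⁻¹ = c⁻¹ := by
      conv_rhs => rw [← h3]
      conv_lhs => rw [hc]
      simp only [mul_inv_rev, inv_inv, inv_self (hA a₀ ha₀), inv_self (hA'sq b₀ hb₀')]
      group
    rw [inv_self (hZsq c hcZ)] at h4
    exact mul_inv_eq_iff_eq_mul.1 h4
  have hcS : ∀ s ∈ (S : Subgroup G), s * c = c * s := by
    intro s hs
    by_cases hsT : s ∈ T
    · exact hZT c hcZ s hsT
    · have h1 : s * y₀ ∈ T := (mul_mem_iff_two S hTi hs hy₀S).2 (iff_of_false hsT hy₀T)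
      have h2 := hZT c hcZ _ h1
      refine mul_right_cancel (b := y₀) ?_
      calc s * c * y₀ = s * y₀ * c := by rw [mul_assoc, ← hcy, mul_assoc]
        _ = c * (s * y₀) := h2
        _ = c * s * y₀ := (mul_assoc _ _ _).symm
  -- no element of `Z` other than `c` is fused to `c`
  have hfus : ∀ f ∈ Z, f ≠ c → ∀ g : G, g * f * g⁻¹ ≠ c := by
    intro f hf hfc g hg
    obtain ⟨g', hg', hgS⟩ := exists_conj_central S hcS hg
    set U := T.map (MulAut.conj g').toMonoidHom with hUdef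
    have hUS : U ≤ (S : Subgroup G) := by
      rintro _ ⟨t, ht, rfl⟩
      exact hgS t (hTS ht) (hZT f hf t ht)
    have hUcard : Nat.card U = 16 := by rw [hUdef, card_map_of_injective (MulAut.conj g').injective, hTcard]
    have hUi : (U.subgroupOf (S : Subgroup G)).index = 2 := by
      have := card_mul_index (U.subgroupOf (S : Subgroup G))
      rw [Nat.card_congr (subgroupOfEquivOfLe hUS).toEquiv, hUcard, h32] at this
      omega
    haveI := normal_of_index_eq_two hUi
    have hUT : 8 ≤ Nat.card ↥(U ⊓ T) := by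
      have h1 := relIndex_dvd_index_of_normal (U.subgroupOf (S : Subgroup G)) (T.subgroupOf (S : Subgroup G))
      rw [hUi, relIndex_subgroupOf hTS] at h1
      have h2 := card_mul_index (U.subgroupOf T)
      rw [hTcard, ← inf_subgroupOf_right, Nat.card_congr (subgroupOfEquivOfLe inf_le_right).toEquiv] at h2
      have h3 : (U.subgroupOf T).index ≤ 2 := Nat.le_of_dvd two_pos h1
      rw [← inf_subgroupOf_right] at h3
      nlinarith
    obtain ⟨t, ht, htsq⟩ : ∃ t ∈ U ⊓ T, t * t = c := by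
      by_contra hcon
      push Not at hcon
      have hsub : ∀ t ∈ U ⊓ T, t ∈ A ∨ t ∈ A' := fun t ht =>
        ((hsq t ht.2).resolve_right (hcon t ht)).2
      have hor : U ⊓ T ≤ A ∨ U ⊓ T ≤ A' := by
        by_contra h'
        push Not at h'
        obtain ⟨p, hp, hpA⟩ := SetLike.not_le_iff_exists.1 h'.1
        obtain ⟨q, hq, hqA⟩ := SetLike.not_le_iff_exists.1 h'.2
        have hp' := (hsub p hp).resolve_left hpA
        have hq' := (hsub q hq).resolve_right hqA
        rcases hsub _ (mul_mem hp hq) with h1 | h1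
        · exact hpA (by simpa using mul_mem h1 (inv_mem hq'))
        · exact hqA (by simpa using mul_mem (inv_mem hp') h1)
      have hconjUT : ∀ t ∈ U ⊓ T, y₀ * t * y₀⁻¹ ∈ U ⊓ T := fun t ht => by
        refine ⟨?_, hyconj ht.2⟩
        have hSU := (normal_subgroupOf_iff_le_normalizer hUS).1 inferInstance
        exact (mem_normalizer_iff.1 (hSU hy₀S) t).1 ht.1
      rcases hor with h' | h'
      · have he : U ⊓ T = A := eq_of_le_of_card_ge h' (by rw [h8]; exact hUT)
        obtain ⟨h1, h2⟩ := hyA' a₀ ha₀ ha₀Z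
        exact h2 ⟨he ▸ hconjUT a₀ (he.symm ▸ ha₀), h1⟩
      · have he : U ⊓ T = A' := eq_of_le_of_card_ge h' (by rw [hA'8]; exact hUT)
        have h1 : y₀ * b₀ * y₀⁻¹ ∈ Z := ⟨hback b₀ hb₀', he ▸ hconjUT b₀ (he.symm ▸ hb₀')⟩
        obtain ⟨w, hw, hwe⟩ := h1.2
        exact hb₀A ((mul_left_cancel (mul_right_cancel (show y₀ * w * y₀⁻¹ = y₀ * b₀ * y₀⁻¹ from hwe))) ▸ hw)
    obtain ⟨⟨u, hu, rfl⟩, -⟩ := ht
    rw [← map_mul] at htsq
    rcases hsq u hu with ⟨h1, -⟩ | h1
    · rw [h1, map_one] at htsq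
      exact hc1 htsq.symm
    · rw [h1] at htsq
      simp only [MulEquiv.coe_toMonoidHom, MulAut.conj_apply] at htsq
      exact hfc (mul_left_cancel (mul_right_cancel (hg'.trans htsq.symm)))
  -- a conjugate of `c` in `A` outside `Z`
  obtain ⟨a, ha, haZ, ⟨g₀, hg₀⟩⟩ : ∃ a ∈ A, a ∉ Z ∧ ∃ g : G, g * a * g⁻¹ = c := by
    obtain ⟨n, hn, hnc⟩ : ∃ n ∈ normalizer (A : Set G), n * c * n⁻¹ ≠ c := by
      by_contra hcon
      push Not at hcon
      refine hb₀A (h.mem_of_stab (K := zpowers c) (zpowers_le.2 hcZ.1) ?_ (hTS (hA'T hb₀'))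
        (hA'T hb₀').2 ?_ fun x hx => ?_)
      · intro n hn k hk
        obtain ⟨i, rfl⟩ := mem_zpowers_iff.1 hk
        rw [← conj_zpow, hcon n hn]
        exact zpow_mem (mem_zpowers c) i
      · intro k hk
        obtain ⟨i, rfl⟩ := mem_zpowers_iff.1 hk
        exact (Commute.zpow_right (hZT c hcZ b₀ (hA'T hb₀')) i).eq
      · rw [inv_self (hA'sq b₀ hb₀'), inv_self (hA x hx)]
        rcases hdecA ha₀ hx ha₀Z with h1 | h1
        · rw [hZT x h1 b₀ (hA'T hb₀'), mul_assoc, hA'sq b₀ hb₀', mul_one, hA x hx]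
          exact one_mem _
        · have hx' : x ∉ Z := fun h2 => ha₀Z (by
            have := mul_mem h1 (inv_mem h2)
            simpa using this)
          rw [show x * (b₀ * x * b₀) = x * b₀ * x * b₀ by simp only [mul_assoc],
            hcomm x hx hx' b₀ hb₀' hb₀Z]
          exact mem_zpowers c
    refine ⟨n * c * n⁻¹, (mem_normalizer_iff.1 hn c).1 hcZ.1, fun h1 => hfus _ h1 hnc n⁻¹ (by group), n⁻¹, ?_⟩
    group
  obtain ⟨a', ha'def⟩ : ∃ a', a' = y₀ * a * y₀⁻¹ := ⟨_, rfl⟩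
  obtain ⟨ha', ha'Z⟩ := ha'def ▸ hyA' a ha haZ
  have ha'A : a' ∉ A := fun h1 => ha'Z ⟨h1, ha'⟩
  have ha2 := hA a ha
  have ha'2 := hA'sq a' ha'
  have hca := hcomm a ha haZ a' ha' ha'Z
  -- choose `y` with square in `a a' Z`
  obtain ⟨y, hyS, hyT, hya, e, he, hy2e⟩ : ∃ y ∈ (S : Subgroup G), y ∉ T ∧ y * a * y⁻¹ = a' ∧
      ∃ e ∈ Z, y * y = a * a' * e := by
    have hfix : y₀ * (y₀ * y₀) * y₀⁻¹ = y₀ * y₀ := by group
    obtain ⟨z, hz, e1 | e1 | e1 | e1⟩ := hTdec ha haZ ha' ha'Z _ hy2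
    · refine ⟨y₀ * a, mul_mem hy₀S (hAS ha), fun h1 => hy₀T ?_, ?_, z * c, mul_mem hz hcZ, ?_⟩
      · simpa using mul_mem h1 (inv_mem (hAT ha))
      · rw [ha'def]; group
      · calc y₀ * a * (y₀ * a) = a' * (y₀ * y₀) * a := by rw [ha'def]; group
          _ = a' * a * z := by rw [e1, mul_assoc, ← hZT z hz a (hAT ha), ← mul_assoc]
          _ = a * a' * (a * a' * a * a')⁻¹ * z := by
            rw [mul_inv_rev, mul_inv_rev, mul_inv_rev, inv_self ha2, inv_self ha'2]
            simp only [mul_assoc]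
            rw [← mul_assoc a' a', ha'2, one_mul, ← mul_assoc a a, ha2, one_mul]
          _ = a * a' * (z * c) := by
            rw [hca, inv_self (hZsq c hcZ), mul_assoc, hZT z hz c (hAT hcZ.1)]
    · exfalso
      have h1 : y₀ * y₀ ∈ A := e1 ▸ mul_mem ha hz.1
      have h2 : y₀ * y₀ ∈ A' := ⟨_, h1, hfix⟩
      rw [e1] at h2
      exact haZ (by simpa using mul_mem (show a * z ∈ Z from ⟨mul_mem ha hz.1, h2⟩) (inv_mem hz))
    · exfalso
      have h1 : y₀ * y₀ ∈ A' := e1 ▸ mul_mem hz.2 ha'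
      have h2 := hback _ h1
      rw [hfix, e1] at h2
      exact ha'Z (by simpa using mul_mem (inv_mem hz) (show z * a' ∈ Z from ⟨h2, mul_mem hz.2 ha'⟩))
    · exact ⟨y₀, hy₀S, hy₀T, ha'def.symm, z, hz, by rw [e1, mul_assoc, ← hZT z hz a' (hA'T ha'), ← mul_assoc]⟩
  have hyy : y * y ∈ T := (mul_mem_iff_two S hTi hyS hyS).2 Iff.rfl
  have heT : ∀ t ∈ T, t * e = e * t := hZT e he
  have hya' : y * a' * y⁻¹ = a * c := by
    calc y * a' * y⁻¹ = y * y * a * (y * y)⁻¹ := by rw [← hya]; group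
      _ = a * a' * (e * a) * e⁻¹ * (a * a')⁻¹ := by rw [hy2e]; group
      _ = a * a' * a * (a * a')⁻¹ := by rw [← heT a (hAT ha)]; group
      _ = a * a' * a * a' * a := by rw [mul_inv_rev, inv_self ha2, inv_self ha'2, ← mul_assoc]
      _ = a * c := by rw [hca, ← hcS a (hAS ha)]
  have hra : a' * a = a * a' * c := by
    have h1 : a' * a = a * (a * a' * a * a') * a' := by
      simp only [mul_assoc]
      rw [← mul_assoc a a, ha2, one_mul, ha'2, mul_one]
    rw [h1, hca, mul_assoc, ← hcS a' (hTS (hA'T ha')), mul_assoc]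
  have hyr : y * (a * a') * y⁻¹ = a * a' := by
    rw [show y * (a * a') * y⁻¹ = (y * a * y⁻¹) * (y * a' * y⁻¹) by group, hya, hya', ← mul_assoc, hra,
      mul_assoc (a * a'), hZsq c hcZ, mul_one]
  have hye : y * e * y⁻¹ = e := by
    have h1 : y * (y * y) * y⁻¹ = y * y := by group
    rw [hy2e, show y * (a * a' * e) * y⁻¹ = (y * (a * a') * y⁻¹) * (y * e * y⁻¹) by group, hyr] at h1
    exact mul_left_cancel h1
  obtain ⟨d, hd, hdc⟩ : ∃ d ∈ Z, d ∉ zpowers c := by
    refine SetLike.exists_of_lt (lt_of_le_of_ne (zpowers_le.2 hcZ) fun e1 => ?_)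
    have := congrArg (fun K : Subgroup G => Nat.card K) e1
    rw [Nat.card_zpowers, orderOf_two (hZsq c hcZ) hc1, hZ4] at this
    omega
  have hd1 : d ≠ 1 := fun e1 => hdc (e1 ▸ one_mem _)
  have hdc' : d ≠ c := fun e1 => hdc (e1 ▸ mem_zpowers c)
  have hdcne : d * c ≠ c := fun e1 => hd1 (mul_eq_right.1 e1)
  have hd2 := hZsq d hd
  have hZf : IsFour Z := ⟨hZ4, hZsq⟩
  have hZcases : ∀ z ∈ Z, z = 1 ∨ z = c ∨ z = d ∨ z = c * d := fun z hz =>
    four_cases hZf hcZ hd hc1 hd1 (Ne.symm hdc') hz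
  have hcy' : y * c * y⁻¹ = c := by rw [hcS y hyS, mul_inv_cancel_right]
  have hyd : y * d * y⁻¹ = d ∨ y * d * y⁻¹ = c * d := by
    have hmem : y * d * y⁻¹ ∈ Z := by
      have h1 : y * y₀ ∈ T := (mul_mem_iff_two S hTi hyS hy₀S).2 (iff_of_false hyT hy₀T)
      have h2 : y * d * y⁻¹ = y * y₀ * (y₀⁻¹ * d * y₀) * (y * y₀)⁻¹ := by group
      have h3 : y₀⁻¹ * d * y₀ ∈ Z := by
        have h4 := hyZ d hd
        have h5 : y₀⁻¹ * d * y₀ = (y₀ * y₀)⁻¹ * (y₀ * d * y₀⁻¹) * (y₀ * y₀) := by group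
        rw [h5, hZT _ h4 _ (inv_mem hy2), inv_mul_cancel_right]
        exact h4
      rw [h2, hZT _ h3 _ h1, mul_inv_cancel_right]
      exact h3
    rcases hZcases _ hmem with h1 | h1 | h1 | h1
    · rw [mul_inv_eq_one, mul_eq_left] at h1
      exact absurd h1 hd1
    · exact absurd (mul_left_cancel (mul_right_cancel (h1.trans hcy'.symm))) hdc'
    exacts [Or.inl h1, Or.inr h1]
  have haT := hAT ha
  have ha'T := hA'T ha'
  have hr2 : a * a' * (a * a') = c := by rw [← mul_assoc]; exact hca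
  -- the square of `y` is `a a'`
  have caseOne : ∀ y' ∈ (S : Subgroup G), y' * a * y'⁻¹ = a' → y' * y' = a * a' → False := by
    intro y' hy'S hy'a hy'2
    have h4 : y' ^ 4 = c := by
      rw [show y' ^ 4 = y' * y' * (y' * y') by simp [pow_succ, mul_assoc], hy'2, hr2]
    have h8' : orderOf y' = 8 := by
      refine orderOf_eq_prime_pow (p := 2) (n := 2) ?_ ?_
      · norm_num
        exact fun h1 => hc1 (h4.symm.trans h1)
      · rw [show (2 : ℕ) ^ (2 + 1) = 4 + 4 by norm_num, pow_add, h4, hZsq c hcZ]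
    refine false_of_qd16 hna S h32 hy'S (hAS ha) (hAS hd.1) h8' ha2 ?_ hd2 (comm_of_sq hA hd.1 ha) hd1
      (h4.symm ▸ hdc') (fun e1 => haZ (e1 ▸ hd)) (fun e1 => haZ ?_) (h4.symm ▸ hfus d hd hdc')
      ⟨g₀, by rw [h4]; exact hg₀⟩
    · rw [pow_succ, pow_two, hy'2, mul_assoc, mul_assoc a a', ← hy'a]
      group
    · rw [h4] at e1
      have := mul_mem (inv_mem hcZ) hd
      rwa [e1, inv_mul_cancel_left] at this
  rcases hZcases e he with rfl | e1 | e1
  · exact caseOne y hyS hya (by rw [hy2e, mul_one])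
  · subst e1
    rcases hyd with hd' | hd'
    · -- the Frattini subgroup is generated by `a a'`
      have hrS : a * a' ∈ (S : Subgroup G) := mul_mem (hTS haT) (hTS ha'T)
      set R := (zpowers (a * a')).subgroupOf (S : Subgroup G) with hR
      have hgen : ∀ s ∈ (S : Subgroup G), s ∈ closure ({a, y, d} : Set G) := by
        have hya_ : a ∈ closure ({a, y, d} : Set G) := subset_closure (by simp)
        have hy_ : y ∈ closure ({a, y, d} : Set G) := subset_closure (by simp)
        have hd_ : d ∈ closure ({a, y, d} : Set G) := subset_closure (by simp)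
        have ha'_ : a' ∈ closure ({a, y, d} : Set G) := hya ▸ mul_mem (mul_mem hy_ hya_) (inv_mem hy_)
        have hc_ : c ∈ closure ({a, y, d} : Set G) := hr2 ▸ mul_mem (mul_mem hya_ ha'_) (mul_mem hya_ ha'_)
        have hZ_ : ∀ z ∈ Z, z ∈ closure ({a, y, d} : Set G) := fun z hz => by
          rcases hZcases z hz with rfl | rfl | rfl | rfl
          exacts [one_mem _, hc_, hd_, mul_mem hc_ hd_]
        have hT_ : ∀ t ∈ T, t ∈ closure ({a, y, d} : Set G) := fun t ht => by
          obtain ⟨z, hz, rfl | rfl | rfl | rfl⟩ := hTdec ha haZ ha' ha'Z t ht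
          exacts [hZ_ _ hz, mul_mem hya_ (hZ_ z hz), mul_mem (hZ_ z hz) ha'_,
            mul_mem (mul_mem hya_ (hZ_ z hz)) ha'_]
        intro s hs
        by_cases hsT : s ∈ T
        · exact hT_ s hsT
        · have h1 := hT_ _ ((mul_mem_iff_two S hTi hs hyS).2 (iff_of_false hsT hyT))
          simpa using mul_mem h1 (inv_mem hy_)
      have hda : d * a = a * d := comm_of_sq hA hd.1 ha
      have hyr' : y * (a * a') = a * a' * y := mul_inv_eq_iff_eq_mul.1 hyr
      have hdr : d * (a * a') = a * a' * d := (hZT d hd _ (mul_mem haT ha'T)).symm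
      have hnorm : ∀ s ∈ (S : Subgroup G), s ∈ normalizer ((zpowers (a * a') : Subgroup G) : Set G) := by
        intro s hs
        refine (closure_le (normalizer _)).2 ?_ (hgen s hs)
        rintro x (rfl | rfl | rfl)
        · refine Core.mem_normalizer_iff_map_conj.2 ?_
          rw [MonoidHom.map_zpowers]
          have h1 : (MulAut.conj x).toMonoidHom (x * a') = (x * a')⁻¹ := by
            show x * (x * a') * x⁻¹ = (x * a')⁻¹
            rw [← mul_assoc, ha2, one_mul, mul_inv_rev, inv_self ha2, inv_self ha'2]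
          rw [h1, zpowers_inv]
        · exact le_normalizer_zpowers (H := zpowers x) (fun w hw => by
            obtain ⟨i, rfl⟩ := mem_zpowers_iff.1 hw
            exact (Commute.zpow_left hyr' i).eq) (mem_zpowers x)
        · exact le_normalizer_zpowers (H := zpowers x) (fun w hw => by
            obtain ⟨i, rfl⟩ := mem_zpowers_iff.1 hw
            exact (Commute.zpow_left hdr i).eq) (mem_zpowers x)
      haveI hRn : R.Normal := (normal_subgroupOf_iff_le_normalizer (zpowers_le.2 hrS)).2 hnorm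
      have hcR : c ∈ zpowers (a * a') := hr2 ▸ mul_mem (mem_zpowers _) (mem_zpowers _)
      -- the quotient is elementary abelian
      let π := QuotientGroup.mk' R
      have hπ : ∀ p q : (S : Subgroup G), (p : G)⁻¹ * q ∈ zpowers (a * a') → π p = π q := fun p q hpq =>
        QuotientGroup.eq.2 (mem_subgroupOf.2 hpq)
      have hπ1 : ∀ p : (S : Subgroup G), (p : G) ∈ zpowers (a * a') → π p = 1 := fun p hp =>
        (QuotientGroup.eq_one_iff p).2 (mem_subgroupOf.2 hp)
      let A₁ : (S : Subgroup G) := ⟨a, hAS ha⟩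
      let Y₁ : (S : Subgroup G) := ⟨y, hyS⟩
      let D₁ : (S : Subgroup G) := ⟨d, hAS hd.1⟩
      have cAY : π A₁ * π Y₁ = π Y₁ * π A₁ := by
        rw [← map_mul, ← map_mul]
        refine hπ _ _ ?_
        show (a * y)⁻¹ * (y * a) ∈ zpowers (a * a')
        have h1 : (a * y)⁻¹ * (y * a) = y⁻¹ * (a * a') * y := by
          rw [mul_inv_rev, inv_self ha2, ← hya]
          group
        rw [h1, mul_assoc, ← hyr', inv_mul_cancel_left]
        exact mem_zpowers _
      have cAD : π A₁ * π D₁ = π D₁ * π A₁ := by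
        rw [← map_mul, ← map_mul]; exact congrArg π (Subtype.ext hda.symm)
      have cYD : π Y₁ * π D₁ = π D₁ * π Y₁ := by
        rw [← map_mul, ← map_mul]; exact congrArg π (Subtype.ext (mul_inv_eq_iff_eq_mul.1 hd'))
      set K : Set ((S : Subgroup G) ⧸ R) := {π A₁, π Y₁, π D₁} with hK
      have hKc : ∀ p ∈ K, ∀ q ∈ K, p * q = q * p := by
        intro p hp q hq
        simp only [hK, Set.mem_insert_iff, Set.mem_singleton_iff] at hp hq
        rcases hp with rfl | rfl | rfl <;> rcases hq with rfl | rfl | rfl <;>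
          first | rfl | assumption | exact cAY.symm | exact cAD.symm | exact cYD.symm
      haveI := isMulCommutative_closure hKc
      have htop : ∀ v : (S : Subgroup G), π v ∈ closure K := by
        intro v
        have hmap : (closure ({A₁, Y₁, D₁} : Set (S : Subgroup G))).map π = closure K := by
          rw [MonoidHom.map_closure, hK]
          simp [Set.image_insert_eq]
        rw [← hmap]
        refine ⟨v, ?_, rfl⟩
        have h1 : closure ({a, y, d} : Set G) =
            (closure ({A₁, Y₁, D₁} : Set (S : Subgroup G))).map (S : Subgroup G).subtype := by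
          rw [MonoidHom.map_closure]
          simp [Set.image_insert_eq, A₁, Y₁, D₁]
        obtain ⟨w, hw, hwe⟩ := h1 ▸ hgen v v.2
        exact (Subtype.ext hwe : w = v) ▸ hw
      have hexp : ∀ w ∈ closure K, w * w = 1 := by
        intro w hw
        refine Subgroup.closure_induction (p := fun w _ => w * w = 1) ?_ (one_mul 1) ?_ ?_ hw
        · intro p hp
          simp only [hK, Set.mem_insert_iff, Set.mem_singleton_iff] at hp
          rcases hp with rfl | rfl | rfl <;> rw [← map_mul] <;> refine hπ1 _ ?_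
          · show a * a ∈ zpowers (a * a')
            rw [ha2]; exact one_mem _
          · show y * y ∈ zpowers (a * a')
            rw [hy2e]
            exact mul_mem (mem_zpowers _) hcR
          · show d * d ∈ zpowers (a * a')
            rw [hd2]; exact one_mem _
        · intro p q hp hq hp2 hq2
          have hpq : q * p = p * q :=
            congrArg Subtype.val (mul_comm' (⟨q, hq⟩ : closure K) ⟨p, hp⟩)
          rw [mul_assoc, ← mul_assoc q, hpq, mul_assoc, hq2, mul_one, hp2]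
        · intro p _ hp2
          rw [← mul_inv_rev, hp2, inv_one]
      have hfr : frattini ↥(S : Subgroup G) ≤ R := by
        refine FusionSys.RankThree.frattini_le_of (p := 2) S.2 (N := R) (fun v w => ?_) (fun v => ?_)
        · rw [← QuotientGroup.eq_one_iff, ← QuotientGroup.mk'_apply, map_commutatorElement,
            commutatorElement_eq_one_iff_mul_comm]
          exact congrArg Subtype.val (mul_comm' (⟨π v, htop v⟩ : closure K) ⟨π w, htop w⟩)
        · rw [← QuotientGroup.eq_one_iff, ← QuotientGroup.mk'_apply, map_pow, pow_two]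
          exact hexp _ (htop v)
      have hdcent : ∀ s ∈ (S : Subgroup G), s * d = d * s := fun s hs => by
        by_cases hsT : s ∈ T
        · exact hZT d hd s hsT
        · have h1 := hZT d hd _ ((mul_mem_iff_two S hTi hs hyS).2 (iff_of_false hsT hyT))
          refine mul_right_cancel (b := y) ?_
          calc s * d * y = s * (y * d) := by rw [mul_assoc, mul_inv_eq_iff_eq_mul.1 hd']
            _ = d * (s * y) := by rw [← mul_assoc, h1]
            _ = d * s * y := (mul_assoc _ _ _).symm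
      rcases Agent.S2872.result S with hp | hp | ⟨n, hn, z, hz, hnz⟩
      · exact hp (pResidual_eq_top hna)
      · have h1 : d ∈ Cfsg.omegaOne 2 ((S : Subgroup G) ⊓ centralizer ((S : Subgroup G) : Set G)) :=
          subset_closure ⟨⟨hAS hd.1, mem_centralizer_iff.2 hdcent⟩, by rw [pow_two]; exact hd2⟩
        obtain ⟨v, hv, hve⟩ := hp h1
        have h2 : (v : G) ∈ zpowers (a * a') := hfr hv
        rw [show (v : G) = d from hve] at h2
        obtain ⟨i, hi⟩ := mem_zpowers_iff.1 h2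
        rcases Int.even_or_odd' i with ⟨j, rfl | rfl⟩
        · refine hdc ?_
          rw [← hi, zpow_mul, zpow_two, hr2]
          exact zpow_mem (mem_zpowers c) j
        · rw [zpow_add_one, zpow_mul, zpow_two, hr2] at hi
          have h3 : c ^ j ∈ Z := zpow_mem hcZ j
          refine ha'A ?_
          have h4 := mul_mem (inv_mem ha) (mul_mem (inv_mem h3.1) (hi ▸ hd.1 : c ^ j * (a * a') ∈ A))
          simpa [mul_assoc] using h4
      · have hcent : ∀ w ∈ (S : Subgroup G), (∀ s ∈ (S : Subgroup G), s * w = w * s) → w ∈ Z := by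
          intro w hw hwc
          have hwA : w ∈ A := hC w hw fun x hx => (hwc x (hAS hx)).symm
          by_contra hwZ
          have h1 := hcomm w hwA hwZ a' ha' ha'Z
          rw [← hwc a' (hTS ha'T), mul_assoc a' w w, hA w hwA, mul_one, ha'2] at h1
          exact hc1 h1.symm
        have hnconj : ∀ w ∈ Z, (∀ s ∈ (S : Subgroup G), s * w = w * s) → n * w * n⁻¹ ∈ Z := by
          intro w hw hwc
          refine hcent _ ((mem_normalizer_iff.1 hn w).1 (hAS hw.1)) fun s hs => ?_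
          have h1 := hwc (n⁻¹ * s * n) ((mem_normalizer_iff.1 hn _).2 (by simpa [mul_assoc] using hs))
          calc s * (n * w * n⁻¹) = n * (n⁻¹ * s * n * w) * n⁻¹ := by group
            _ = n * (w * (n⁻¹ * s * n)) * n⁻¹ := by rw [h1]
            _ = n * w * n⁻¹ * s := by group
        have hnc : n * c * n⁻¹ = c := by
          by_contra h1
          exact hfus _ (hnconj c hcZ hcS) h1 n⁻¹ (by group)
        have hzc : ∀ s ∈ (S : Subgroup G), s * z = z * s := by
          have hle' : Cfsg.omegaOne 2 ((S : Subgroup G) ⊓ centralizer ((S : Subgroup G) : Set G)) ≤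
              centralizer ((S : Subgroup G) : Set G) := (closure_le _).2 fun w hw => hw.1.2
          exact fun s hs => mem_centralizer_iff.1 (hle' hz) s hs
        have hzS : z ∈ (S : Subgroup G) := by
          have hle' : Cfsg.omegaOne 2 ((S : Subgroup G) ⊓ centralizer ((S : Subgroup G) : Set G)) ≤
              (S : Subgroup G) := (closure_le _).2 fun w hw => hw.1.1
          exact hle' hz
        have hswap : n * d * n⁻¹ = c * d := by
          rcases hZcases _ (hnconj d hd hdcent) with h1 | h1 | h1 | h1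
          · rw [mul_inv_eq_one, mul_eq_left] at h1
            exact absurd h1 hd1
          · exact absurd (mul_left_cancel (mul_right_cancel (h1.trans hnc.symm))) hdc'
          · refine absurd ?_ hnz
            rcases hZcases z (hcent z hzS hzc) with rfl | rfl | rfl | rfl
            · simp
            · exact hnc
            · exact h1
            · rw [show n * (c * d) * n⁻¹ = n * c * n⁻¹ * (n * d * n⁻¹) by group, hnc, h1]
          · exact h1
        have hdd : d = c * d := eq_of_swap (fun g w => g * w * g⁻¹) (fun w => by simp)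
          (fun g h w => by simp [mul_assoc]) S hn (fun s hs => by rw [hdcent s hs, mul_inv_cancel_right])
          hswap (by
            show n * (c * d) * n⁻¹ = d
            rw [show n * (c * d) * n⁻¹ = n * c * n⁻¹ * (n * d * n⁻¹) by group, hnc, hswap, ← mul_assoc,
              hZsq c hcZ, one_mul])
        exact hc1 (mul_eq_right.1 hdd.symm)
    · -- replace `y` by `y d`
      refine caseOne (y * d) (mul_mem hyS (hAS hd.1)) ?_ ?_
      · rw [show y * d * a * (y * d)⁻¹ = y * (d * a * d⁻¹) * y⁻¹ by group, comm_of_sq hA hd.1 ha,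
          mul_inv_cancel_right, hya]
      · calc y * d * (y * d) = (y * d * y⁻¹) * (y * y) * d := by group
          _ = c * d * (a * a' * c) * d := by rw [hd', hy2e]
          _ = c * (a * a' * c) * (d * d) := by
            rw [mul_assoc c d, ← hZT d hd _ (mul_mem (mul_mem haT ha'T) (hAT hcZ.1)), ← mul_assoc, mul_assoc]
          _ = a * a' := by
            rw [hd2, mul_one, ← hcS _ (mul_mem (mul_mem (hTS haT) (hTS ha'T)) (hAS hcZ.1)), mul_assoc,
              hZsq c hcZ, mul_one]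
  · -- all involutions of `S` lie in `T`
    have hd' : y * d * y⁻¹ = d := hyd.resolve_right fun h1 => by
      rcases e1 with rfl | rfl
      · exact hc1 (mul_eq_right.1 (hye ▸ h1).symm)
      · rw [show y * (c * d) * y⁻¹ = y * c * y⁻¹ * (y * d * y⁻¹) by group, hcy', h1, ← mul_assoc,
          hZsq c hcZ, one_mul] at hye
        exact hc1 (mul_eq_right.1 hye.symm)
    have hefix : e ≠ 1 ∧ e ≠ c := by
      rcases e1 with rfl | rfl
      · exact ⟨hd1, hdc'⟩
      · exact ⟨fun h1 => hdc' (inv_self (hZsq c hcZ) ▸ (eq_inv_of_mul_eq_one_right h1)),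
          fun h1 => hd1 (mul_eq_left.1 h1)⟩
    have hyZfix : ∀ z ∈ Z, y * z * y⁻¹ = z := fun z hz => by
      rcases hZcases z hz with rfl | rfl | rfl | rfl
      · simp
      · exact hcy'
      · exact hd'
      · rw [show y * (c * d) * y⁻¹ = y * c * y⁻¹ * (y * d * y⁻¹) by group, hcy', hd']
    have hout : ∀ t ∈ T, t * y * (t * y) ≠ 1 := by
      intro t ht
      rw [show t * y * (t * y) = t * (y * t * y⁻¹) * (y * y) by group, hy2e]
      obtain ⟨z, hz, rfl | rfl | rfl | rfl⟩ := hTdec ha haZ ha' ha'Z t ht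
      · rw [hyZfix _ hz, hZsq _ hz, one_mul]
        intro h1
        refine ha'A ?_
        rw [← inv_eq_of_mul_eq_one_right h1] at he
        simpa [mul_assoc] using mul_mem (inv_mem ha) (inv_mem he.1)
      · rw [show y * (a * z) * y⁻¹ = y * a * y⁻¹ * (y * z * y⁻¹) by group, hya, hyZfix z hz]
        intro h1
        have h2 : a * z * (a' * z) = a * a' := by
          rw [mul_assoc a z, ← mul_assoc z a', ← hZT z hz a' ha'T, mul_assoc a' z z, hZsq z hz, mul_one]
        rw [h2, ← mul_assoc, hr2, mul_eq_one_iff_eq_inv, inv_self (hZsq e he)] at h1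
        exact hefix.2 h1.symm
      · rw [show y * (z * a') * y⁻¹ = y * z * y⁻¹ * (y * a' * y⁻¹) by group, hya', hyZfix z hz]
        intro h1
        have h2 : z * a' * (z * (a * c)) = a * a' := by
          rw [← mul_assoc (z * a') z, mul_assoc z a' z, hZT z hz a' ha'T, ← mul_assoc z z, hZsq z hz, one_mul,
            ← mul_assoc, hra, mul_assoc (a * a'), hZsq c hcZ, mul_one]
        rw [h2, ← mul_assoc, hr2, mul_eq_one_iff_eq_inv, inv_self (hZsq e he)] at h1
        exact hefix.2 h1.symm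
      · rw [show y * (a * z * a') * y⁻¹ = y * a * y⁻¹ * (y * z * y⁻¹) * (y * a' * y⁻¹) by group, hya, hya',
          hyZfix z hz]
        intro h1
        have h2 : a * z * a' * (a' * z * (a * c)) = c := by
          rw [← mul_assoc (a * z * a'), ← mul_assoc (a * z * a') a', mul_assoc (a * z) a' a', ha'2, mul_one,
            mul_assoc a z z, hZsq z hz, mul_one, ← mul_assoc, ha2, one_mul]
        rw [h2, mul_eq_one_iff_eq_inv', inv_self (hZsq c hcZ)] at h1
        refine ha'A ?_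
        have h3 := mul_mem (inv_mem ha) (mul_mem (h1 ▸ hcZ.1 : a * a' * e ∈ A) (inv_mem he.1))
        simpa [mul_assoc] using h3
    set x := a * y with hx
    have hx2 : x * x = c * e := by
      rw [hx, show a * y * (a * y) = a * (y * a * y⁻¹) * (y * y) by group, hya, hy2e, ← mul_assoc, hr2]
    have hce : c * e ≠ 1 := fun h1 => hefix.2 (inv_self (hZsq c hcZ) ▸ eq_inv_of_mul_eq_one_right h1)
    have hx4 : orderOf x = 4 := by
      refine orderOf_eq_prime_pow (p := 2) (n := 1) ?_ ?_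
      · rw [pow_one, pow_two, hx2]
        exact hce
      · rw [show (2 : ℕ) ^ (1 + 1) = 2 + 2 by norm_num, pow_add, pow_two, hx2]
        exact hZsq _ (mul_mem hcZ he)
    obtain ⟨g, hg, -⟩ := conj_into_min hna S hTi (mul_mem (hAS ha) hyS) fun s hs hlt => by
      by_contra hsT
      rw [hx4] at hlt
      have h3 : s * s = 1 := by
        obtain ⟨k, hk⟩ := S.2 ⟨s, hs⟩
        obtain ⟨j, -, hj⟩ := (Nat.dvd_prime_pow Nat.prime_two).1
          (orderOf_dvd_of_pow_eq_one (show s ^ 2 ^ k = 1 from congrArg Subtype.val hk))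
        have hj2 : j ≤ 1 := by
          by_contra hj2
          push Not at hj2
          have := Nat.pow_le_pow_right two_pos hj2
          rw [← hj] at this
          norm_num at this
          omega
        rw [← pow_two]
        exact orderOf_dvd_iff_pow_eq_one.1 (hj ▸ (pow_dvd_pow 2 hj2))
      have hty : s * y⁻¹ ∈ T :=
        (mul_mem_iff_two S hTi hs (inv_mem hyS)).2 (iff_of_false hsT fun h1 => hyT (by simpa using h1))
      exact hout _ hty (by simpa using h3)
    have hgx : g * x * g⁻¹ * (g * x * g⁻¹) = g * (c * e) * g⁻¹ := by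
      rw [← hx2]; group
    rcases hsq _ hg with ⟨h1, -⟩ | h1
    · rw [hgx, mul_inv_eq_one, mul_eq_left] at h1
      exact hce h1
    · exact hfus (c * e) (mul_mem hcZ he) (fun h2 => hefix.1 (mul_eq_left.1 h2)) g (hgx.symm.trans h1)

end Cfsg.Lib.LenSeven
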