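import Cfsg.Agent.Lib.LenSeven.Essential
import Cfsg.Agent.S5188

/-!
# Essential subgroups of order sixteen

In a Sylow subgroup of order 32 with an elementary abelian subgroup of order eight but none of order sixteen,
the squares of such a subgroup are `1` and one involution, the same for all of them.
-/

set_option autoImplicit false
set_option linter.style.haveILetI false
set_option linter.unusedSectionVars false

namespace Cfsg.Lib.LenSeven

open Subgroup LenEight Cfsg.FusionSystem

universe u

variable {G : Type u} [Group G] [Finite G]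

/-- The nontrivial squares of `P` are all equal to `c`, and a subgroup of exponent two and order eight of `P`
makes it abelian and contains all its involutions. -/
structure SqType (P : Subgroup G) (c : G) : Prop where
  ne_one : c ≠ 1
  sq : ∀ x ∈ P, x * x = 1 ∨ x * x = c
  attained : ∃ x ∈ P, x * x = c
  elem : ∀ K ≤ P, (∀ k ∈ K, k * k = 1) → Nat.card K = 8 →
    (∀ x ∈ P, ∀ y ∈ P, x * y = y * x) ∧ ∀ x ∈ P, x * x = 1 → x ∈ K

theorem SqType.mem {P : Subgroup G} {c : G} (h : SqType P c) : c ∈ P := by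
  obtain ⟨x, hx, rfl⟩ := h.attained
  exact mul_mem hx hx

theorem SqType.sq_one {P : Subgroup G} {c : G} (h : SqType P c) : c * c = 1 :=
  (h.sq c h.mem).resolve_right fun e => h.ne_one (mul_eq_left.1 e)

theorem SqType.map {P : Subgroup G} {c : G} (h : SqType P c) (g : G) :
    SqType (P.map (MulAut.conj g).toMonoidHom) (g * c * g⁻¹) where
  ne_one e := h.ne_one (by rwa [mul_inv_eq_one, mul_eq_left] at e)
  sq := by
    rintro _ ⟨x, hx, rfl⟩
    rw [← map_mul]
    rcases h.sq x hx with e | e <;> rw [e]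
    · exact Or.inl (map_one _)
    · exact Or.inr rfl
  attained := by
    obtain ⟨x, hx, e⟩ := h.attained
    exact ⟨_, ⟨x, hx, rfl⟩, by rw [← map_mul, e]; rfl⟩
  elem K hK hK2 hK8 := by
    set f := (MulAut.conj g).toMonoidHom
    have hf : Function.Injective f := (MulAut.conj g).injective
    have hle : K.comap f ≤ P := fun k hk => by
      obtain ⟨x, hx, e⟩ := hK hk
      exact hf e ▸ hx
    have hmap : (K.comap f).map f = K :=
      map_comap_eq_self (hK.trans (map_le_range f P))
    obtain ⟨hc, hi⟩ := h.elem _ hle (fun k hk => hf (by rw [map_mul, map_one]; exact hK2 _ hk))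
      (by rw [← card_map_of_injective hf, hmap, hK8])
    refine ⟨?_, ?_⟩
    · rintro _ ⟨x, hx, rfl⟩ _ ⟨y, hy, rfl⟩
      rw [← map_mul, ← map_mul, hc x hx y hy]
    · rintro _ ⟨x, hx, rfl⟩ e
      exact mem_comap.1 (hi x hx (hf (by rw [map_mul, map_one]; exact e)))

/-- The type of a subgroup read off from a model. -/
theorem sqType_of_model {M : Type*} [Group M] [Fintype M] [DecidableEq M] {P : Subgroup G} (e : P ≃* M)
    {c₀ : M} (hc : c₀ ≠ 1) (hsq : ∀ m : M, m * m = 1 ∨ m * m = c₀) (hatt : ∃ m : M, m * m = c₀)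
    (helem : ((∀ a b : M, a * b = b * a) ∧ (Finset.univ.filter fun m : M => m * m = 1).card = 8) ∨
      (Finset.univ.filter fun m : M => m * m = 1).card < 8) : SqType P ((e.symm c₀ : P) : G) where
  ne_one h := hc (by
    have : e.symm c₀ = 1 := Subtype.ext h
    simpa using congrArg e this)
  sq x hx := by
    rcases hsq (e ⟨x, hx⟩) with h | h
    · refine Or.inl ?_
      have : (⟨x, hx⟩ : P) * ⟨x, hx⟩ = 1 := e.injective (by rw [map_mul, h, map_one])
      exact congrArg Subtype.val this
    · refine Or.inr ?_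
      have : (⟨x, hx⟩ : P) * ⟨x, hx⟩ = e.symm c₀ := e.injective (by rw [map_mul, h, e.apply_symm_apply])
      exact congrArg Subtype.val this
  attained := by
    obtain ⟨m, hm⟩ := hatt
    exact ⟨(e.symm m : P), (e.symm m).2, by rw [← Subgroup.coe_mul, ← map_mul, hm]⟩
  elem K hK hK2 hK8 := by
    haveI : Fintype K := Fintype.ofFinite _
    let f : K → M := fun k => e ⟨k, hK k.2⟩
    have hf : Function.Injective f := fun a b hab =>
      Subtype.ext (congrArg (fun p : P => (p : G)) (e.injective hab))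
    have hsub : Finset.univ.image f ⊆ Finset.univ.filter fun m : M => m * m = 1 := by
      intro m hm
      obtain ⟨k, -, rfl⟩ := Finset.mem_image.1 hm
      refine Finset.mem_filter.2 ⟨Finset.mem_univ _, ?_⟩
      show e _ * e _ = 1
      rw [← map_mul, show (⟨k, hK k.2⟩ : P) * ⟨k, hK k.2⟩ = 1 from Subtype.ext (hK2 _ k.2), map_one]
    have hcard : (Finset.univ.image f).card = 8 := by
      rw [Finset.card_image_of_injective _ hf, Finset.card_univ, ← Nat.card_eq_fintype_card, hK8]
    rcases helem with ⟨hcomm, h8⟩ | h8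
    · refine ⟨fun x hx y hy => congrArg Subtype.val
        (e.injective (show e (⟨x, hx⟩ * ⟨y, hy⟩) = e (⟨y, hy⟩ * ⟨x, hx⟩) by rw [map_mul, map_mul, hcomm])),
        fun x hx hx2 => ?_⟩
      have heq := Finset.eq_of_subset_of_card_le hsub (by rw [hcard, h8])
      have hm : e ⟨x, hx⟩ ∈ Finset.univ.image f := by
        rw [heq, Finset.mem_filter, ← map_mul,
          show (⟨x, hx⟩ : P) * ⟨x, hx⟩ = 1 from Subtype.ext hx2, map_one]
        exact ⟨Finset.mem_univ _, rfl⟩
      obtain ⟨k, -, hk⟩ := Finset.mem_image.1 hm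
      rw [show x = (k : G) from (congrArg (fun p : P => (p : G)) (e.injective hk)).symm]
      exact k.2
    · have := Finset.card_le_card hsub
      omega

theorem four_two_two_facts :
    (∀ m : Multiplicative (ZMod 4 × ZMod 2 × ZMod 2), m * m = 1 ∨ m * m = .ofAdd (2, 0, 0)) ∧
      (Finset.univ.filter fun m : Multiplicative (ZMod 4 × ZMod 2 × ZMod 2) => m * m = 1).card = 8 := by
  decide

theorem quaternion_two_facts :
    (∀ m : QuaternionGroup 2 × Multiplicative (ZMod 2), m * m = 1 ∨ m * m = (QuaternionGroup.a 2, 1)) ∧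
      (Finset.univ.filter fun m : QuaternionGroup 2 × Multiplicative (ZMod 2) => m * m = 1).card < 8 := by
  decide

theorem four_two_two_ne : (.ofAdd (2, 0, 0) : Multiplicative (ZMod 4 × ZMod 2 × ZMod 2)) ≠ 1 := by decide

theorem four_two_two_att :
    ∃ m : Multiplicative (ZMod 4 × ZMod 2 × ZMod 2), m * m = .ofAdd (2, 0, 0) :=
  ⟨.ofAdd (1, 0, 0), by decide⟩

theorem quaternion_two_ne : ((QuaternionGroup.a 2, 1) : QuaternionGroup 2 × Multiplicative (ZMod 2)) ≠ 1 := by
  decide

theorem quaternion_two_att :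
    ∃ m : QuaternionGroup 2 × Multiplicative (ZMod 2), m * m = (QuaternionGroup.a 2, 1) :=
  ⟨(QuaternionGroup.a 1, 1), by decide⟩

theorem four_four_facts :
    (Finset.univ.filter fun m : Multiplicative (ZMod 4 × ZMod 4) => m * m = 1).card = 4 := by decide

variable {S : Sylow 2 G}

/-- An essential subgroup of order sixteen is of square type. -/
theorem IsEss.exists_sqType {P : Subgroup G} (h : IsEss S P) (h32 : Nat.card (S : Subgroup G) = 32)
    (h16 : Nat.card P = 16) {B : Subgroup G} (hBS : B ≤ (S : Subgroup G)) (hB : ∀ b ∈ B, b * b = 1)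
    (hB8 : Nat.card B = 8)
    (hno16 : ∀ E : Subgroup G, E ≤ (S : Subgroup G) → (∀ x ∈ E, x * x = 1) → Nat.card E ≠ 16) :
    ∃ c, SqType P c := by
  classical
  haveI : Fact (Nat.Prime 2) := ⟨Nat.prime_two⟩
  have hPi : (P.subgroupOf (S : Subgroup G)).index = 2 := by
    have := card_mul_index (P.subgroupOf (S : Subgroup G))
    rw [Nat.card_congr (subgroupOfEquivOfLe h.le).toEquiv, h16, h32] at this
    omega
  rcases Agent.S5188.result 2 S.2 (groupFusionSystem (S : Subgroup G))
      (FusionSys.isSaturated_groupFusionSystem S) P h (by rw [h16]; norm_num) with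
    hE | he | ⟨-, he⟩ | ⟨hodd, -⟩ | ⟨-, he⟩ | ⟨hna, hexp, hcyc, hZ⟩
  · exact absurd h16 (hno16 P h.le fun x hx => by rw [← pow_two]; exact hE.2 x hx)
  · obtain ⟨e⟩ : Nonempty (P ≃* Multiplicative (ZMod 4 × ZMod 2 × ZMod 2)) := he
    exact ⟨_, sqType_of_model e (c₀ := .ofAdd (2, 0, 0)) four_two_two_ne four_two_two_facts.1
      four_two_two_att (Or.inl ⟨fun a b => mul_comm a b, four_two_two_facts.2⟩)⟩
  · -- homocyclic
    exfalso
    obtain ⟨e⟩ : Nonempty (P ≃* Multiplicative (ZMod 4 × ZMod 4)) := he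
    have hPc : ∀ x ∈ P, ∀ y ∈ P, x * y = y * x := fun x hx y hy => congrArg Subtype.val
      (e.injective (show e (⟨x, hx⟩ * ⟨y, hy⟩) = e (⟨y, hy⟩ * ⟨x, hx⟩) by rw [map_mul, map_mul, mul_comm]))
    have hcnt : ∀ K : Subgroup G, K ≤ P → (∀ k ∈ K, k * k = 1) → Nat.card K ≤ 4 ∧
        (Nat.card K = 4 → ∀ x ∈ P, x * x = 1 → x ∈ K) := by
      intro K hK hK2
      haveI : Fintype K := Fintype.ofFinite _
      let f : K → Multiplicative (ZMod 4 × ZMod 4) := fun k => e ⟨k, hK k.2⟩
      have hf : Function.Injective f := fun a b hab =>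
        Subtype.ext (congrArg (fun p : P => (p : G)) (e.injective hab))
      have hsub : Finset.univ.image f ⊆ Finset.univ.filter fun m => m * m = 1 := by
        intro m hm
        obtain ⟨k, -, rfl⟩ := Finset.mem_image.1 hm
        refine Finset.mem_filter.2 ⟨Finset.mem_univ _, ?_⟩
        show e _ * e _ = 1
        rw [← map_mul, show (⟨k, hK k.2⟩ : P) * ⟨k, hK k.2⟩ = 1 from Subtype.ext (hK2 _ k.2), map_one]
      have hcard : (Finset.univ.image f).card = Nat.card K := by
        rw [Finset.card_image_of_injective _ hf, Finset.card_univ, Nat.card_eq_fintype_card]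
      refine ⟨(hcard ▸ Finset.card_le_card hsub).trans four_four_facts.le, fun h4 x hx hx2 => ?_⟩
      have heq := Finset.eq_of_subset_of_card_le hsub (by rw [hcard, h4, four_four_facts])
      have hm : e ⟨x, hx⟩ ∈ Finset.univ.image f := by
        rw [heq, Finset.mem_filter, ← map_mul, show (⟨x, hx⟩ : P) * ⟨x, hx⟩ = 1 from Subtype.ext hx2, map_one]
        exact ⟨Finset.mem_univ _, rfl⟩
      obtain ⟨k, -, hk⟩ := Finset.mem_image.1 hm
      rw [show x = (k : G) from (congrArg (fun p : P => (p : G)) (e.injective hk)).symm]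
      exact k.2
    set K := P ⊓ B with hK
    obtain ⟨hle4, hall⟩ := hcnt K inf_le_left fun k hk => hB k hk.2
    have hK4 : Nat.card K = 4 := by
      haveI := normal_of_index_eq_two hPi
      have h1 := relIndex_dvd_index_of_normal (P.subgroupOf (S : Subgroup G)) (B.subgroupOf (S : Subgroup G))
      rw [hPi, relIndex_subgroupOf hBS] at h1
      have h2 := card_mul_index (P.subgroupOf B)
      have h4 : Nat.card (P.subgroupOf B) = Nat.card K := by
        rw [← inf_subgroupOf_right]
        exact Nat.card_congr (subgroupOfEquivOfLe (inf_le_right : P ⊓ B ≤ B)).toEquiv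
      rw [hB8, h4] at h2
      have h3 : (P.subgroupOf B).index ≤ 2 := Nat.le_of_dvd two_pos h1
      nlinarith
    obtain ⟨u, huB, huP⟩ : ∃ u ∈ B, u ∉ P := SetLike.not_le_iff_exists.1 fun hle => by
      have : Nat.card K = 8 := by rw [hK, inf_eq_right.2 hle, hB8]
      omega
    have huN : u ∈ normalizer (P : Set G) :=
      (normal_subgroupOf_iff_le_normalizer h.le).1 (normal_of_index_eq_two hPi) (hBS huB)
    refine huP (h.mem_of_stab (K := K) inf_le_left (fun n hn k hk => ?_) (hBS huB) huN
      (fun k hk => comm_of_sq' hB huB hk.2) fun x hx => ?_)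
    · exact hall hK4 _ ((mem_normalizer_iff.1 hn k).1 hk.1) (by
        rw [show n * k * n⁻¹ * (n * k * n⁻¹) = n * (k * k) * n⁻¹ by group, hB k hk.2, mul_one, mul_inv_cancel])
    · have hy : u * x * u⁻¹ ∈ P := (mem_normalizer_iff.1 huN x).1 hx
      refine hall hK4 _ (mul_mem (inv_mem hx) hy) ?_
      have h1 := hPc x⁻¹ (inv_mem hx) _ hy
      have hxx : (x * x) * (x * x) = 1 := by
        have : ∀ m : Multiplicative (ZMod 4 × ZMod 4), m * m * (m * m) = 1 := by decide
        have h2 : (⟨x, hx⟩ : P) * ⟨x, hx⟩ * (⟨x, hx⟩ * ⟨x, hx⟩) = 1 :=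
          e.injective (by rw [map_mul, map_mul, this, map_one])
        exact congrArg Subtype.val h2
      have hK' : x * x ∈ K := hall hK4 _ (mul_mem hx hx) hxx
      calc x⁻¹ * (u * x * u⁻¹) * (x⁻¹ * (u * x * u⁻¹))
          = x⁻¹ * (u * x * u⁻¹ * x⁻¹) * (u * x * u⁻¹) := by simp only [mul_assoc]
        _ = (x * x)⁻¹ * (u * (x * x) * u⁻¹) := by rw [← h1]; group
        _ = 1 := by rw [comm_of_sq' hB huB hK'.2, mul_inv_cancel_right, inv_mul_cancel]
  · exact absurd hodd (by decide)
  · obtain ⟨e⟩ := he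
    exact ⟨_, sqType_of_model e (c₀ := (QuaternionGroup.a 2, 1)) quaternion_two_ne quaternion_two_facts.1
      quaternion_two_att (Or.inr quaternion_two_facts.2)⟩
  · -- central product of a dihedral and a cyclic group
    have hZ4 : Nat.card (center P) = 4 := by rw [hZ]; norm_num
    haveI := hcyc
    obtain ⟨⟨z, hz⟩, hzgen⟩ := IsCyclic.exists_generator (α := center P)
    have hzo : orderOf z = 4 := by
      have h1 := orderOf_eq_card_of_forall_mem_zpowers hzgen
      rw [orderOf_mk, hZ4] at h1
      exact h1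
    have hz2 : z * z ≠ 1 := fun e => by
      have := Nat.le_of_dvd two_pos (orderOf_dvd_of_pow_eq_one (show z ^ 2 = 1 by rw [pow_two, e]))
      omega
    have hz4 : z * z * (z * z) = 1 := by
      rw [← pow_two, ← pow_two, ← pow_mul, show 2 * 2 = orderOf z by omega, pow_orderOf_eq_one]
    have hQ : Nat.card (P ⧸ center P) = 4 := by
      have h1 := card_eq_card_quotient_mul_card_subgroup (center P)
      rw [h16, hZ4] at h1
      omega
    have hQ2 : ∀ m : P ⧸ center P, m * m = 1 := by
      intro m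
      by_contra hm
      suffices IsCyclic (P ⧸ center P) from
        hna ⟨⟨commutative_of_cyclic_center_quotient (QuotientGroup.mk' (center P)) (by simp)⟩⟩
      have hd : orderOf m ∣ 2 ^ 2 := by
        have := orderOf_dvd_natCard m
        rw [hQ] at this
        exact this
      obtain ⟨k, hk, hmk⟩ := (Nat.dvd_prime_pow Nat.prime_two).1 hd
      refine isCyclic_of_orderOf_eq_card m ?_
      rw [hmk, hQ]
      interval_cases k
      · exact absurd (by rw [orderOf_eq_one_iff.1 hmk, one_mul]) hm
      · exact absurd (by rw [← pow_two, ← show orderOf m = 2 by simpa using hmk, pow_orderOf_eq_one]) hm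
      · rfl
    have hsq : ∀ x : P, x * x = 1 ∨ x * x = z * z := by
      intro x
      have h1 : x * x ∈ center P := (QuotientGroup.eq_one_iff _).1 (by rw [QuotientGroup.mk_mul, hQ2])
      have h4 : x * x * (x * x) = 1 := Subtype.ext (by
        have := hexp x x.2
        simpa [pow_succ, mul_assoc] using this)
      obtain ⟨i, hi⟩ := mem_zpowers_iff.1 (hzgen ⟨x * x, h1⟩)
      have hi' : z ^ i = x * x := congrArg Subtype.val hi
      rcases Int.even_or_odd' i with ⟨j, rfl | rfl⟩
      · rw [← hi', zpow_mul, zpow_two]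
        rcases Int.even_or_odd' j with ⟨l, rfl | rfl⟩
        · exact Or.inl (by rw [zpow_mul, zpow_two, hz4, one_zpow])
        · exact Or.inr (by rw [zpow_add_one, zpow_mul, zpow_two, hz4, one_zpow, one_mul])
      · exfalso
        rw [← hi', zpow_add_one, zpow_mul, zpow_two] at h4
        have hc : Commute ((z * z) ^ j) z := ((Commute.refl z).mul_left (Commute.refl z)).zpow_left j
        rw [show (z * z) ^ j * z * ((z * z) ^ j * z) = (z * z) ^ j * (z * z) ^ j * (z * z) by
          rw [mul_assoc, ← mul_assoc z, ← hc.eq]; simp only [mul_assoc], ← (Commute.refl (z * z)).mul_zpow,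
          hz4, one_zpow, one_mul] at h4
        exact hz2 h4
    refine ⟨((z * z : P) : G), ⟨fun e => hz2 (Subtype.ext e), fun x hx => ?_, ⟨z, z.2, rfl⟩, ?_⟩⟩
    · rcases hsq ⟨x, hx⟩ with e | e
      exacts [Or.inl (congrArg Subtype.val e), Or.inr (congrArg Subtype.val e)]
    · intro K hK hK2 hK8
      exfalso
      refine hna ⟨⟨fun p q => ?_⟩⟩
      set K' := K.subgroupOf P with hK'
      have hK'8 : Nat.card K' = 8 := by rw [Nat.card_congr (subgroupOfEquivOfLe hK).toEquiv, hK8]
      have hK'c : ∀ a ∈ K', ∀ b ∈ K', a * b = b * a := fun a ha b hb =>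
        Subtype.ext (comm_of_sq' hK2 ha hb)
      have hzK : z ∉ K' := fun h1 => hz2 (Subtype.ext (hK2 _ h1))
      have hK'i : K'.index = 2 := by
        have := card_mul_index K'
        rw [hK'8, h16] at this
        omega
      have hdec : ∀ a : P, a ∈ K' ∨ a * z ∈ K' := fun a => by
        by_cases ha : a ∈ K'
        · exact Or.inl ha
        · exact Or.inr ((mul_mem_iff_of_index_two hK'i).2 (iff_of_false ha hzK))
      have hzc : ∀ a : P, a * z = z * a := mem_center_iff.1 hz
      have hKall : ∀ a ∈ K', ∀ b : P, a * b = b * a := fun a ha b => by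
        rcases hdec b with hb | hb
        · exact hK'c a ha b hb
        · refine mul_right_cancel (b := z) ?_
          rw [mul_assoc, hK'c a ha _ hb, mul_assoc, ← hzc, mul_assoc, hzc a]
      rcases hdec p with hp | hp
      · exact hKall p hp q
      · refine mul_right_cancel (b := z) ?_
        rw [mul_assoc, hzc q, ← mul_assoc, hKall _ hp q, mul_assoc]
where
  comm_of_sq' {H : Subgroup G} (hH : ∀ a ∈ H, a * a = 1) {a b : G} (ha : a ∈ H) (hb : b ∈ H) :
      a * b = b * a := by
    calc a * b = (a * b)⁻¹ := (inv_self (hH _ (mul_mem ha hb))).symm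
      _ = b⁻¹ * a⁻¹ := mul_inv_rev _ _
      _ = b * a := by rw [inv_self (hH a ha), inv_self (hH b hb)]

/-- Two index-two subgroups of square type, one of them essential, have the same square. -/
theorem IsEss.sqType_unique {P Q : Subgroup G} (h : IsEss S P) (h32 : Nat.card (S : Subgroup G) = 32)
    (h16 : Nat.card P = 16) {c d : G} (hc : SqType P c) (hQS : Q ≤ (S : Subgroup G))
    (hQ16 : Nat.card Q = 16) (hd : SqType Q d) : d = c := by
  by_contra hne
  set K := P ⊓ Q with hK
  have hK2 : ∀ k ∈ K, k * k = 1 := fun k hk => (hc.sq k hk.1).resolve_right fun e1 =>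
    (hd.sq k hk.2).elim (fun e2 => hc.ne_one (e1.symm.trans e2)) fun e2 => hne (e2.symm.trans e1)
  have hPi : (P.subgroupOf (S : Subgroup G)).index = 2 := by
    have := card_mul_index (P.subgroupOf (S : Subgroup G))
    rw [Nat.card_congr (subgroupOfEquivOfLe h.le).toEquiv, h16, h32] at this
    omega
  haveI := normal_of_index_eq_two hPi
  have hK8 : Nat.card K = 8 := by
    have h1 := relIndex_dvd_index_of_normal (P.subgroupOf (S : Subgroup G)) (Q.subgroupOf (S : Subgroup G))
    rw [hPi, relIndex_subgroupOf hQS] at h1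
    have h2 := card_mul_index (P.subgroupOf Q)
    have h4 : Nat.card (P.subgroupOf Q) = Nat.card K := by
      rw [← inf_subgroupOf_right]
      exact Nat.card_congr (subgroupOfEquivOfLe (inf_le_right : P ⊓ Q ≤ Q)).toEquiv
    rw [hQ16, h4] at h2
    rcases (Nat.dvd_prime Nat.prime_two).1 h1 with h3 | h3
    · have hle : Q ≤ P := relIndex_eq_one.1 h3
      obtain ⟨x, hx, hx2⟩ := hd.attained
      exact absurd (hx2.symm.trans (hK2 x ⟨hle hx, hx⟩)) hd.ne_one
    · have h3' : (P.subgroupOf Q).index = 2 := h3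
      rw [h3'] at h2
      omega
  obtain ⟨hPc, hKP⟩ := hc.elem K inf_le_left hK2 hK8
  obtain ⟨hQc, -⟩ := hd.elem K inf_le_right hK2 hK8
  obtain ⟨u, huQ, huP⟩ : ∃ u ∈ Q, u ∉ P := SetLike.not_le_iff_exists.1 fun hle => by
    rw [hK, inf_eq_right.2 hle, hQ16] at hK8
    omega
  have huN : u ∈ normalizer (P : Set G) :=
    (normal_subgroupOf_iff_le_normalizer h.le).1 inferInstance (hQS huQ)
  refine huP (h.mem_of_stab (K := K) inf_le_left (fun n hn k hk => ?_) (hQS huQ) huN
    (fun k hk => hQc u huQ k hk.2) fun x hx => ?_)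
  · exact hKP _ ((mem_normalizer_iff.1 hn k).1 hk.1) (by
      rw [show n * k * n⁻¹ * (n * k * n⁻¹) = n * (k * k) * n⁻¹ by group, hK2 k hk, mul_one, mul_inv_cancel])
  · have hy : u * x * u⁻¹ ∈ P := (mem_normalizer_iff.1 huN x).1 hx
    refine hKP _ (mul_mem (inv_mem hx) hy) ?_
    have h1 := hPc x⁻¹ (inv_mem hx) _ hy
    have hK' : x * x ∈ K := hKP _ (mul_mem hx hx) (by
      rcases hc.sq x hx with e | e <;> rw [e]
      · exact one_mul 1
      · exact hc.sq_one)
    calc x⁻¹ * (u * x * u⁻¹) * (x⁻¹ * (u * x * u⁻¹))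
        = x⁻¹ * (u * x * u⁻¹ * x⁻¹) * (u * x * u⁻¹) := by simp only [mul_assoc]
      _ = (x * x)⁻¹ * (u * (x * x) * u⁻¹) := by rw [← h1]; group
      _ = 1 := by rw [hQc u huQ _ hK'.2, mul_inv_cancel_right, inv_mul_cancel]

end Cfsg.Lib.LenSeven
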