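import Cfsg.Agent.Lib.LenSeven.Tools
import Cfsg.Agent.Lib.FusionSys.RankTwoEssential
import Cfsg.Agent.Lib.FusionSys.OfGroup
import Cfsg.Agent.Lib.FusionSys.Alperin
import Cfsg.Agent.Lib.PGroup.CentralizerSq
import Cfsg.Agent.Lib.TwoGroup.MaximalClass
import Cfsg.Agent.S0215

/-!
# Essential subgroups of a Sylow subgroup of order 32 and rank at least three
-/

set_option autoImplicit false
set_option linter.style.haveILetI false
set_option linter.unusedSectionVars false

namespace Cfsg.Lib.LenSeven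

open Subgroup LenEight Cfsg.FusionSystem

universe u

variable {G : Type u} [Group G] [Finite G]

/-- `P` is an essential subgroup of the fusion system of `G` on `S`. -/
def IsEss (S : Sylow 2 G) (P : Subgroup G) : Prop :=
  (groupFusionSystem (S : Subgroup G)).IsEssential 2 P

variable {S : Sylow 2 G} {P : Subgroup G}

theorem IsEss.le (h : IsEss S P) : P ≤ (S : Subgroup G) := h.1.1

theorem IsEss.lt (h : IsEss S P) : P < (S : Subgroup G) := by
  haveI : Fact (Nat.Prime 2) := ⟨Nat.prime_two⟩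
  exact (FusionSys.RankTwo.basic S.2 (FusionSys.isSaturated_groupFusionSystem S) h).1

theorem IsEss.mem_of_commute (h : IsEss S P) {s : G} (hs : s ∈ (S : Subgroup G))
    (hc : ∀ x ∈ P, s * x = x * s) : s ∈ P := by
  refine h.1.2 P ?_ ⟨hs, mem_centralizer_iff.2 fun x hx => (hc x hx).symm⟩
  exact ⟨P.subtype, ⟨h.le, fun x => h.le x.2, 1, fun x => by simp⟩, P.range_subtype⟩

/-- An automorphism of an essential subgroup is conjugation by an element of its normalizer. -/
theorem IsEss.exists_conj (h : IsEss S P) {a : MulAut P}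
    (ha : a ∈ (groupFusionSystem (S : Subgroup G)).autGroup P) :
    ∃ n ∈ normalizer (P : Set G), ∀ x : P, ((a x : P) : G) = n * (x : G) * n⁻¹ := by
  rw [FusionSys.autGroup_groupFusionSystem _ h.le, FusionSys.mem_autInducedBy] at ha
  obtain ⟨n, -, hn⟩ := ha
  refine ⟨n, mem_normalizer_iff.2 fun x => ⟨fun hx => hn ⟨x, hx⟩ ▸ (a ⟨x, hx⟩).2, fun hx => ?_⟩, hn⟩
  have h1 := hn (a.symm ⟨_, hx⟩)
  rw [MulEquiv.apply_symm_apply] at h1
  have h2 : x = ((a.symm ⟨_, hx⟩ : P) : G) := mul_left_cancel (mul_right_cancel h1)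
  exact h2 ▸ (a.symm ⟨_, hx⟩).2

/-- Stability: an element of `S` stabilizing the series `1 ≤ K ≤ P` of an essential subgroup lies in it. -/
theorem IsEss.mem_of_stab (h : IsEss S P) {K : Subgroup G} (hKP : K ≤ P)
    (hKinv : ∀ n ∈ normalizer (P : Set G), ∀ k ∈ K, n * k * n⁻¹ ∈ K) {g : G}
    (hg : g ∈ (S : Subgroup G)) (hgN : g ∈ normalizer (P : Set G))
    (hgK : ∀ k ∈ K, g * k = k * g) (hgP : ∀ x ∈ P, x⁻¹ * (g * x * g⁻¹) ∈ K) : g ∈ P := by
  haveI : Fact (Nat.Prime 2) := ⟨Nat.prime_two⟩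
  set F := groupFusionSystem (S : Subgroup G)
  obtain ⟨-, -, -, hO, -, -⟩ := FusionSys.RankTwo.basic S.2 (FusionSys.isSaturated_groupFusionSystem S) h
  have hinv : ∀ a : F.autGroup P, ∀ x : P, (x : G) ∈ K → (((a : MulAut P) x : P) : G) ∈ K := fun a x hx => by
    obtain ⟨n, hn, hna⟩ := h.exists_conj a.2
    exact hna x ▸ hKinv n hn _ hx
  let N : Subgroup (F.autGroup P) :=
    { carrier := {a | ∀ x : P, ((x : G) ∈ K → (a : MulAut P) x = x) ∧ ((x⁻¹ * (a : MulAut P) x : P) : G) ∈ K}
      one_mem' := fun x => ⟨fun _ => rfl, by simp⟩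
      mul_mem' := fun {a b} ha hb x => by
        refine ⟨fun hx => ?_, ?_⟩
        · rw [Subgroup.coe_mul, MulAut.mul_apply, (hb x).1 hx, (ha x).1 hx]
        · have h1 := (hb x).2
          have h2 := (ha ((b : MulAut P) x)).2
          have h3 := mul_mem h1 h2
          rw [← Subgroup.coe_mul] at h3
          simpa [mul_assoc, MulAut.mul_apply] using h3
      inv_mem' := fun {a} ha x => by
        have h1 : ((x : G) ∈ K → (a⁻¹ : F.autGroup P).1 x = x) := fun hx => by
          conv_lhs => rw [← (ha x).1 hx]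
          exact (a : MulAut P).symm_apply_apply x
        refine ⟨h1, ?_⟩
        have h2 := K.inv_mem (ha ((a : MulAut P)⁻¹ x)).2
        rw [← Subgroup.coe_inv] at h2
        simpa [mul_assoc] using h2 }
  haveI hN : N.Normal := by
    refine ⟨fun a ha b x => ⟨fun hx => ?_, ?_⟩⟩
    · rw [Subgroup.coe_mul, Subgroup.coe_mul, MulAut.mul_apply, MulAut.mul_apply,
        (ha _).1 (hinv b⁻¹ x hx)]
      exact (b : MulAut P).apply_symm_apply x
    · have h1 := hinv b _ (ha ((b⁻¹ : F.autGroup P).1 x)).2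
      rw [map_mul, map_inv] at h1
      simpa [MulAut.mul_apply] using h1
  have hNp : IsPGroup 2 N := by
    intro a
    haveI : Fintype K := Fintype.ofFinite _
    obtain ⟨k, hk⟩ := IsPGroup.iff_card.1 (S.2.to_le (hKP.trans h.le))
    refine ⟨k, Subtype.ext (Subtype.ext (MulEquiv.ext fun x => ?_))⟩
    have hd := (a.2 x).2
    set a' : MulAut P := ((a : F.autGroup P) : MulAut P)
    have hit : ∀ m : ℕ, (a' ^ m) x = x * (x⁻¹ * a' x) ^ m := by
      intro m
      induction m with
      | zero => simp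
      | succ m ih =>
        rw [pow_succ', MulAut.mul_apply, ih, map_mul, map_pow, (a.2 _).1 hd, pow_succ', ← mul_assoc x,
          mul_inv_cancel_left]
    have hone : (x⁻¹ * a' x) ^ 2 ^ k = 1 := by
      apply Subtype.ext
      have h1 : (⟨_, hd⟩ : K) ^ 2 ^ k = 1 := by rw [← hk]; exact pow_card_eq_one'
      rw [SubmonoidClass.coe_pow, OneMemClass.coe_one]
      exact congrArg Subtype.val h1
    simp only [SubmonoidClass.coe_pow, OneMemClass.coe_one, MulAut.one_apply]
    rw [hit, hone, mul_one]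
  obtain ⟨α, hαF, hα⟩ : ∃ α ∈ F.autGroup P, ∀ x : P, ((α x : P) : G) = g * (x : G) * g⁻¹ := by
    refine ⟨P.normalizerMonoidHom ⟨g, hgN⟩, ?_, fun x => rfl⟩
    rw [FusionSys.autGroup_groupFusionSystem _ h.le, FusionSys.mem_autInducedBy]
    exact ⟨g, mem_top g, fun x => rfl⟩
  have hαN : (⟨α, hαF⟩ : F.autGroup P) ∈ N := fun x => ⟨fun hx => Subtype.ext (by
    rw [hα, hgK _ hx, mul_inv_cancel_right]), by simpa [hα] using hgP x x.2⟩
  have hI : α ∈ Inn P := mem_subgroupOf.1 (hO N hN hNp hαN)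
  obtain ⟨u, hu⟩ := hI
  have hmem : (u : G)⁻¹ * g ∈ P := by
    refine h.mem_of_commute (mul_mem (inv_mem (h.le u.2)) hg) fun x hx => ?_
    have h1 : ((MulAut.conj u ⟨x, hx⟩ : P) : G) = g * x * g⁻¹ := by rw [hu]; exact hα ⟨x, hx⟩
    simp only [MulAut.conj_apply, Subgroup.coe_mul, Subgroup.coe_inv] at h1
    calc (u : G)⁻¹ * g * x = (u : G)⁻¹ * (g * x * g⁻¹) * g := by group
      _ = (u : G)⁻¹ * (u * x * (u : G)⁻¹) * g := by rw [h1]
      _ = x * ((u : G)⁻¹ * g) := by group
  have := mul_mem u.2 hmem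
  rwa [mul_inv_cancel_left] at this

/-- With an elementary abelian subgroup of order eight no centralizer in `S` has order at most four. -/
theorem no_small_centric (h32 : Nat.card (S : Subgroup G) = 32) {B : Subgroup G}
    (hBS : B ≤ (S : Subgroup G)) (hB : ∀ b ∈ B, b * b = 1) (hB8 : Nat.card B = 8) {x : G}
    (hx : x ∈ (S : Subgroup G)) :
    4 < Nat.card ↥((S : Subgroup G) ⊓ centralizer ({x} : Set G)) := by
  by_contra hle
  push Not at hle
  haveI : Fact (Nat.Prime 2) := ⟨Nat.prime_two⟩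
  have hc : Nat.card (centralizer ({(⟨x, hx⟩ : (S : Subgroup G))} : Set (S : Subgroup G))) ≤ 2 ^ 2 := by
    refine le_trans (Nat.card_le_card_of_injective (fun y => (⟨((y : (S : Subgroup G)) : G), ⟨y.1.2,
      mem_cent.2 (congrArg Subtype.val (mem_cent.1 y.2))⟩⟩ : ↥((S : Subgroup G) ⊓ centralizer ({x} : Set G))))
      fun a b hab => Subtype.ext (Subtype.ext (congrArg Subtype.val hab :))) hle
  have h32' : Nat.card (S : Subgroup G) = 2 ^ 5 := by rw [h32]; norm_num
  have hidx := PGroup.CentralizerSq.index_commutator_of_centralizer S.2 hc (by rw [h32]; norm_num)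
  have hcl := TwoGroup.MaximalClass.class_of_index_four 5 (by norm_num) _ h32' hidx
  obtain ⟨C, hC, hCi⟩ := TwoGroup.MaximalClass.exists_cyclic_index_two 5 (by norm_num) _ h32' hcl
  set B' := B.subgroupOf (S : Subgroup G)
  have hB'8 : Nat.card B' = 8 := by rw [Nat.card_congr (subgroupOfEquivOfLe hBS).toEquiv, hB8]
  have hd : 4 ≤ Nat.card ↥(C ⊓ B') := by
    haveI := normal_of_index_eq_two hCi
    have h1 := relIndex_dvd_index_of_normal C B'
    rw [hCi] at h1
    have h2 := card_mul_index (C.subgroupOf B')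
    rw [hB'8] at h2
    have h3 : (C.subgroupOf B').index ≤ 2 := Nat.le_of_dvd two_pos h1
    have h4 : Nat.card (C.subgroupOf B') = Nat.card ↥(C ⊓ B') := by
      rw [← inf_subgroupOf_right]
      exact Nat.card_congr (subgroupOfEquivOfLe inf_le_right).toEquiv
    rw [h4] at h2
    nlinarith
  haveI := hC
  haveI : IsCyclic ↥(C ⊓ B') := Subgroup.isCyclic_of_le inf_le_left
  obtain ⟨⟨y, hy⟩, hy'⟩ := IsCyclic.exists_ofOrder_eq_natCard (α := ↥(C ⊓ B'))
  have hy2 : orderOf y ≤ 2 :=
    Nat.le_of_dvd two_pos (orderOf_dvd_of_pow_eq_one (by rw [pow_two]; exact Subtype.ext (hB _ hy.2)))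
  rw [orderOf_mk] at hy'
  omega

/-- Essential subgroups have order eight or sixteen. -/
theorem IsEss.card_cases (h : IsEss S P) (h32 : Nat.card (S : Subgroup G) = 32) {B : Subgroup G}
    (hBS : B ≤ (S : Subgroup G)) (hB : ∀ b ∈ B, b * b = 1) (hB8 : Nat.card B = 8) :
    Nat.card P = 8 ∨ Nat.card P = 16 := by
  haveI : Fact (Nat.Prime 2) := ⟨Nat.prime_two⟩
  have hd : Nat.card P ∣ 2 ^ 5 := by
    have := card_dvd_of_le h.le
    rw [h32] at this
    exact this
  obtain ⟨k, hk, hPk⟩ := (Nat.dvd_prime_pow Nat.prime_two).1 hd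
  have hlt : Nat.card P < 32 := by
    refine lt_of_le_of_ne (h32 ▸ card_le_of_le h.le) fun e => h.lt.ne ?_
    exact eq_of_le_of_card_ge h.le (by rw [h32, e])
  suffices h4 : 4 < Nat.card P by
    rw [hPk] at hlt h4 ⊢
    interval_cases k <;> simp at hlt h4 ⊢
  by_contra hle
  push Not at hle
  set Z := (S : Subgroup G) ⊓ centralizer ((S : Subgroup G) : Set G) with hZ
  have hZP : Z ≤ P := fun z hz => h.mem_of_commute hz.1 fun x hx =>
    (mem_centralizer_iff.1 hz.2 x (h.le hx)).symm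
  obtain ⟨e, heS, -, he1, hec⟩ := exists_fixed_involution S.2 (le_refl (S : Subgroup G))
    (fun e => by rw [e, card_bot] at h32; omega) le_normalizer
  have heZ : e ∈ Z := ⟨heS, mem_centralizer_iff.2 fun s hs => hec s hs⟩
  obtain ⟨u, huP, huZ⟩ : ∃ u ∈ P, u ∉ Z := by
    by_contra hcon
    push Not at hcon
    refine h.lt.ne (le_antisymm h.le fun s hs => h.mem_of_commute hs fun x hx => ?_)
    exact mem_centralizer_iff.1 (hcon x hx).2 s hs
  have hgen : zpowers u ⊔ zpowers e = P := by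
    refine eq_of_le_of_card_ge (sup_le (zpowers_le.2 huP) (zpowers_le.2 (hZP heZ))) (hle.trans ?_)
    have h1 : zpowers e < zpowers u ⊔ zpowers e := lt_of_le_of_ne le_sup_right fun e1 => huZ (by
      exact (zpowers_le.2 heZ) (e1 ▸ mem_sup_left (mem_zpowers u)))
    have h2 := card_dvd_of_le h1.le
    have h3 : Nat.card (zpowers e) ≠ Nat.card ↥(zpowers u ⊔ zpowers e) :=
      fun e1 => h1.ne (eq_of_le_of_card_ge h1.le e1.ge)
    have h4 : 2 ≤ Nat.card (zpowers e) := (one_lt_card_iff_ne_bot _).2 (by simpa using he1)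
    have h5 : 0 < Nat.card ↥(zpowers u ⊔ zpowers e) := Nat.card_pos
    obtain ⟨m, hm⟩ := h2
    rw [hm] at h3 ⊢
    have : 2 ≤ m := by
      rcases m with _ | _ | m
      · rw [hm, mul_zero] at h5
        omega
      · simp at h3
      · omega
    nlinarith
  have hC : (S : Subgroup G) ⊓ centralizer ({u} : Set G) ≤ P := fun s hs => by
    refine h.mem_of_commute hs.1 fun x hx => ?_
    have hle' : zpowers u ⊔ zpowers e ≤ centralizer ({s} : Set G) :=
      sup_le (zpowers_le.2 (mem_cent_symm hs.2)) (zpowers_le.2 (mem_cent.2 (hec s hs.1).symm))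
    exact (mem_cent.1 (hle' (hgen ▸ hx))).symm
  have := no_small_centric h32 hBS hB hB8 (h.le huP)
  have := card_le_of_le hC
  omega

variable [IsSimpleGroup G]

/-- No central involution of `S` is fixed by the normalizers of `S` and of all essential subgroups. -/
theorem false_of_fixed (hna : ¬ IsMulCommutative G) (S : Sylow 2 G) {c : G} (hc : c ∈ (S : Subgroup G))
    (hc2 : orderOf c = 2) (hcS : ∀ s ∈ (S : Subgroup G), s * c = c * s)
    (hN : ∀ n ∈ normalizer ((S : Subgroup G) : Set G), n * c = c * n)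
    (hP : ∀ P, IsEss S P → ∀ n ∈ normalizer (P : Set G), n * c = c * n) : False := by
  haveI : Fact (Nat.Prime 2) := ⟨Nat.prime_two⟩
  have hSC : (S : Subgroup G) ≤ centralizer ({c} : Set G) := le_cent_iff.2 hcS
  have hle : groupFusionSystem (S : Subgroup G) ≤ fusionSystemOfSubgroup (centralizer ({c} : Set G)) _ hSC := by
    refine FusionSys.le_of_autGroup_le S.2 (FusionSys.isSaturated_groupFusionSystem S) _ fun P hPc => ?_
    have hPS : P ≤ (S : Subgroup G) := by
      rcases hPc with rfl | h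
      exacts [le_rfl, h.1.1]
    intro a ha
    rw [FusionSys.autGroup_groupFusionSystem _ hPS, FusionSys.mem_autInducedBy] at ha
    rw [FusionSys.autGroup_ofSubgroup hPS, FusionSys.mem_autInducedBy]
    obtain ⟨n, -, hn⟩ := ha
    have hnN : n ∈ normalizer (P : Set G) := mem_normalizer_iff.2 fun x =>
      ⟨fun hx => hn ⟨x, hx⟩ ▸ (a ⟨x, hx⟩).2, fun hx => by
        have h1 := hn (a.symm ⟨_, hx⟩)
        rw [MulEquiv.apply_symm_apply] at h1
        have h2 : x = ((a.symm ⟨_, hx⟩ : P) : G) := mul_left_cancel (mul_right_cancel h1)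
        exact h2 ▸ (a.symm ⟨_, hx⟩).2⟩
    refine ⟨n, mem_cent.2 ?_, hn⟩
    rcases hPc with rfl | h
    exacts [hN n hnN, hP P h n hnN]
  obtain ⟨N, hNn, hNodd, hNc⟩ := Agent.S0215.result S c hc2 hc fun g hg => by
    have hcP : zpowers c ≤ (S : Subgroup G) := zpowers_le.2 hc
    have hφ : (MulAut.conj g).toMonoidHom.comp (zpowers c).subtype ∈
        (groupFusionSystem (S : Subgroup G)).Hom (zpowers c) :=
      ⟨hcP, fun x => by
        obtain ⟨i, hi⟩ := mem_zpowers_iff.1 x.2
        show g * (x : G) * g⁻¹ ∈ (S : Subgroup G)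
        rw [← hi, ← conj_zpow]
        exact zpow_mem hg i, g, fun x => rfl⟩
    obtain ⟨-, -, h', hh', he⟩ := hle _ hφ
    have := he ⟨c, mem_zpowers c⟩
    simp only [MonoidHom.comp_apply, coe_subtype, MulEquiv.coe_toMonoidHom, MulAut.conj_apply] at this
    rw [this, mem_cent.1 hh', mul_inv_cancel_right]
  rcases hNn.eq_bot_or_eq_top with e | e
  · refine centralizer_ne_top hna (fun e1 => ?_) (eq_top_iff.2 fun g _ => mem_cent.2 ?_ : centralizer ({c} : Set G) = ⊤)
    · rw [e1, orderOf_one] at hc2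
      omega
    · have := hNc g
      rw [e, mem_bot, mul_inv_eq_one, mul_inv_eq_iff_eq_mul] at this
      exact this.symm
  · rw [e, card_top] at hNodd
    have := hc2 ▸ orderOf_dvd_natCard c
    exact (Nat.not_even_iff_odd.2 hNodd) (even_iff_two_dvd.2 this)

end Cfsg.Lib.LenSeven
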