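import Cfsg.Agent.Lib.LenSeven.QDLoc

/-!
# The centralizer of a subgroup of order `q` in the centralizer of an involution
-/

set_option autoImplicit false
set_option linter.style.haveILetI false
set_option linter.unusedSectionVars false

namespace Cfsg.Lib.LenSeven

open Cfsg Subgroup LenEight OrderSDW TwoGroup

universe u

variable {G : Type u} [Group G] [Fintype G] [Fact (Nat.Prime 2)] [IsSimpleGroup G]
variable {S : Sylow 2 G} {z : G} {F : Type} [Field F] [Fintype F]

/-- A free action of a group divides the number of points. -/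
theorem card_dvd_of_free {H α : Type*} [Group H] [Finite H] [Finite α] [MulAction H α]
    (hfree : ∀ (h : H) (a : α), h • a = a → h = 1) : Nat.card H ∣ Nat.card α := by
  classical
  haveI := Fintype.ofFinite (MulAction.orbitRel.Quotient H α)
  rw [Nat.card_congr (MulAction.selfEquivSigmaOrbitsQuotientStabilizer H α), Nat.card_sigma]
  refine Finset.dvd_sum fun ω _ => ?_
  have hbot : MulAction.stabilizer H ω.out = ⊥ :=
    (Subgroup.eq_bot_iff_forall _).mpr fun h hh => hfree h _ hh
  rw [hbot, Nat.card_congr (QuotientGroup.quotientBot (G := H)).toEquiv]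

/-- The centralizer of `P = ⟨u⟩` and its normal `2`-complement. -/
structure KData (z u : G) (q : ℕ) (K : Subgroup G) : Prop where
  le : K ≤ centralizer ((zpowers u : Subgroup G) : Set G)
  card_cp : Nat.card ↥(centralizer ((zpowers u : Subgroup G) : Set G)) = 2 * Nat.card K
  odd : Odd (Nat.card K)
  mem : ∀ g ∈ centralizer ((zpowers u : Subgroup G) : Set G), Odd (orderOf g) → g ∈ K
  inf : K ⊓ Cen z = zpowers u
  card_np : Nat.card ↥(normalizer ((zpowers u : Subgroup G) : Set G)) =
    (q - 1) * Nat.card ↥(centralizer ((zpowers u : Subgroup G) : Set G))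

theorem KData.pow_mem {u : G} {q : ℕ} {K : Subgroup G} (h : KData z u q K) {g : G}
    (hg : g ∈ normalizer ((zpowers u : Subgroup G) : Set G)) {k : G} (hk : k ∈ K) : g * k * g⁻¹ ∈ K := by
  refine h.mem _ ?_ ?_
  · refine mem_centralizer_iff.2 fun x hx => ?_
    have hx' : g⁻¹ * x * g ∈ zpowers u := (mem_normalizer_iff''.1 hg x).1 hx
    have := mem_centralizer_iff.1 (h.le hk) _ hx'
    calc x * (g * k * g⁻¹) = g * (g⁻¹ * x * g * k) * g⁻¹ := by group
      _ = g * (k * (g⁻¹ * x * g)) * g⁻¹ := by rw [this]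
      _ = g * k * g⁻¹ * x := by group
  · rw [show g * k * g⁻¹ = MulAut.conj g k from rfl, MulEquiv.orderOf_eq]
    rw [show k = ((⟨k, hk⟩ : K) : G) from rfl, Subgroup.orderOf_coe]
    exact h.odd.of_dvd_nat (_root_.orderOf_dvd_natCard _)

variable {N : Subgroup G} {q : ℕ} [Fact q.Prime]

theorem exists_kdata (D : QD16 S z F) (L : LocN z F N) (hq : Fintype.card F = q) (hq3 : 3 ≤ q) {c : ℕ}
    (hcen : ∀ i ∈ Cen z, orderOf i = 2 → i ≠ z → Nat.card ↥(Cen z ⊓ Cen i) = c) (hcq : ¬ q ∣ c)
    {u : G} (hu : u ∈ Cen z) (huq : orderOf u = q) : ∃ K, KData z u q K := by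
  classical
  set P : Subgroup G := zpowers u with hPdef
  have hP : P ≤ Cen z := zpowers_le.2 hu
  have hPc : Nat.card P = q := by rw [Nat.card_zpowers, huq]
  set CP := centralizer (P : Set G) with hCP
  obtain ⟨ho, hcz⟩ := L.centralizer_inf hq hq3 D hcen hcq hu huq
  have hzz : z * z = 1 := Cfsg.Lib.Invol.inv_mul_self D.hz
  have hqodd : Odd q := (Fact.out : q.Prime).odd_of_ne_two (by omega)
  have hzCP : z ∈ CP := mem_centralizer_iff.2 fun x hx => mem_centralizer_singleton_iff.1 (hP hx)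
  set z' : ↥CP := ⟨z, hzCP⟩
  have hz'o : orderOf z' = 2 := by rw [Subgroup.orderOf_mk, D.hz]
  -- a Sylow 2-subgroup of order two
  obtain ⟨T, hT⟩ := (IsPGroup.of_card (n := 1) (by rw [Nat.card_zpowers, hz'o, pow_one]) :
    IsPGroup 2 (zpowers z')).exists_le_sylow
  have hTeq : (T : Subgroup ↥CP) = zpowers z' := by
    by_contra hne
    have hlt : (zpowers z').subgroupOf (T : Subgroup ↥CP) < ⊤ := lt_top_iff_ne_top.2 fun e =>
      hne (le_antisymm (subgroupOf_eq_top.1 e) hT)
    haveI := T.2.isNilpotent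
    have hlt' := (Group.normalizerCondition_of_isNilpotent (G := ↥(T : Subgroup ↥CP))) _ hlt
    obtain ⟨t, ht, htz⟩ := SetLike.exists_of_lt hlt'
    have htn : (t : ↥CP) * z' * (t : ↥CP)⁻¹ ∈ zpowers z' :=
      mem_subgroupOf.1 ((mem_normalizer_iff.1 ht ⟨z', hT (mem_zpowers z')⟩).1 (mem_subgroupOf.2 (mem_zpowers z')))
    have hts : ((t : ↥CP) : G) * z * ((t : ↥CP) : G)⁻¹ = z := by
      obtain ⟨k, hk⟩ := mem_zpowers_iff.1 htn
      have hk' : z ^ k = ((t : ↥CP) : G) * z * ((t : ↥CP) : G)⁻¹ := congrArg Subtype.val hk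
      rcases Int.even_or_odd' k with ⟨r, rfl | rfl⟩
      · rw [zpow_mul, zpow_two, hzz, one_zpow] at hk'
        exact absurd (conj_eq_one_iff.1 hk'.symm) (Cfsg.Lib.Invol.ne_one D.hz)
      · rw [zpow_add, zpow_mul, zpow_two, hzz, one_zpow, one_mul, zpow_one] at hk'
        exact hk'.symm
    have hmem : ((t : ↥CP) : G) ∈ zpowers (u * z) := by
      rw [← hcz]
      exact ⟨mem_centralizer_singleton_iff.2 (mul_inv_eq_iff_eq_mul.1 hts), (t : ↥CP).2⟩
    obtain ⟨r, hr⟩ := IsPGroup.iff_orderOf.1 T.2 t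
    rw [← Subgroup.orderOf_coe, ← Subgroup.orderOf_coe] at hr
    have hdvd : orderOf ((t : ↥CP) : G) ∣ 2 * q := by
      rw [← ho, ← Nat.card_zpowers (u * z), ← Subgroup.orderOf_mk _ hmem]
      exact _root_.orderOf_dvd_natCard _
    have h2 : orderOf ((t : ↥CP) : G) ∣ 2 := by
      refine Nat.Coprime.dvd_of_dvd_mul_right ?_ hdvd
      rw [hr]
      exact Nat.Coprime.pow_left _ (Nat.coprime_two_left.2 hqodd)
    obtain ⟨k, hk⟩ := mem_zpowers_iff.1 hmem
    refine htz (mem_subgroupOf.2 ?_)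
    have hsq : ((t : ↥CP) : G) * ((t : ↥CP) : G) = 1 := by
      rw [← pow_two]; exact orderOf_dvd_iff_pow_eq_one.1 h2
    -- powers of `u z` of square one
    have hdk : (2 * q : ℤ) ∣ 2 * k := by
      have : (u * z) ^ (2 * k) = 1 := by rw [two_mul, zpow_add, hk, hsq]
      have := orderOf_dvd_iff_zpow_eq_one.2 this
      rwa [ho, Nat.cast_mul, Nat.cast_two] at this
    obtain ⟨j, hj⟩ := (mul_dvd_mul_iff_left (two_ne_zero (α := ℤ))).1 hdk
    have hpq : (u * z) ^ q = z := by
      have hzq : z ^ q = z := by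
        obtain ⟨l, hl⟩ := hqodd
        rw [hl, pow_succ, pow_mul, pow_two, hzz, one_pow, one_mul]
      rw [(show Commute u z from mem_centralizer_singleton_iff.1 hu).mul_pow, hzq, ← huq, pow_orderOf_eq_one,
        one_mul]
    refine mem_zpowers_iff.2 ⟨j, Subtype.ext ?_⟩
    show z ^ j = ((t : ↥CP) : G)
    rw [← hk, hj, zpow_mul, zpow_natCast, hpq]
  -- the complement
  have hTc : Nat.card (T : Subgroup ↥CP) = 2 := by rw [hTeq, Nat.card_zpowers, hz'o]
  have hNT : normalizer ((T : Subgroup ↥CP) : Set ↥CP) ≤ centralizer ((T : Subgroup ↥CP) : Set ↥CP) := by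
    intro g hg
    rw [hTeq] at hg ⊢
    refine mem_centralizer_iff.2 fun x hx => ?_
    obtain ⟨k, rfl⟩ := mem_zpowers_iff.1 hx
    have h1 : g * z' * g⁻¹ = z' := by
      obtain ⟨j, hj⟩ := mem_zpowers_iff.1 ((mem_normalizer_iff.1 hg z').1 (mem_zpowers z'))
      rcases Int.even_or_odd' j with ⟨r, rfl | rfl⟩
      · rw [zpow_mul, zpow_two, Cfsg.Lib.Invol.inv_mul_self hz'o, one_zpow] at hj
        exact absurd (conj_eq_one_iff.1 hj.symm) (Cfsg.Lib.Invol.ne_one hz'o)
      · rw [zpow_add, zpow_mul, zpow_two, Cfsg.Lib.Invol.inv_mul_self hz'o, one_zpow, one_mul, zpow_one] at hj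
        exact hj.symm
    exact ((show Commute g z' from mul_inv_eq_iff_eq_mul.1 h1).zpow_right k).symm.eq
  have hcomp := MonoidHom.ker_transferSylow_isComplement' T hNT
  set K₁ := (MonoidHom.transferSylow T hNT).ker
  have hK1 : Nat.card K₁ * 2 = Nat.card ↥CP := by rw [← hcomp.card_mul_card, hTc]
  have hodd : Odd (Nat.card K₁) := by
    have hidx : (T : Subgroup ↥CP).index = Nat.card K₁ := by
      have := card_mul_index (T : Subgroup ↥CP)
      rw [hTc, ← hK1, mul_comm (Nat.card K₁)] at this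
      exact Nat.eq_of_mul_eq_mul_left two_pos this
    rw [← hidx, ← Nat.not_even_iff_odd, even_iff_two_dvd]
    exact T.not_dvd_index
  have hmem : ∀ g : ↥CP, Odd (orderOf g) → g ∈ K₁ := by
    intro g hg
    rw [MonoidHom.mem_ker, ← orderOf_eq_one_iff]
    refine Nat.dvd_one.1 ?_
    have h2 : orderOf (MonoidHom.transferSylow T hNT g) ∣ 2 := by
      exact (_root_.orderOf_dvd_natCard _).trans hTc.dvd
    have h3 := orderOf_map_dvd (MonoidHom.transferSylow T hNT) g
    have hcop : Nat.Coprime 2 (orderOf g) := Nat.coprime_two_left.2 hg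
    exact hcop ▸ Nat.dvd_gcd h2 h3
  set K := K₁.map CP.subtype
  have hKcard : Nat.card K = Nat.card K₁ := card_map_of_injective CP.subtype_injective
  have hmemK : ∀ g ∈ CP, Odd (orderOf g) → g ∈ K := fun g hg hgo =>
    ⟨⟨g, hg⟩, hmem _ (by rwa [Subgroup.orderOf_mk]), rfl⟩
  refine ⟨K, map_subtype_le _, by rw [hKcard, ← hK1, mul_comm], hKcard ▸ hodd, hmemK, ?_, ?_⟩
  · apply le_antisymm
    · rintro g ⟨hgK, hgC⟩
      have hmz : g ∈ zpowers (u * z) := hcz ▸ ⟨hgC, map_subtype_le _ hgK⟩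
      obtain ⟨k, rfl⟩ := mem_zpowers_iff.1 hmz
      have ho' : Odd (orderOf ((u * z) ^ k)) := by
        refine (hKcard ▸ hodd).of_dvd_nat ?_
        rw [← Subgroup.orderOf_mk _ hgK]
        exact _root_.orderOf_dvd_natCard _
      have hzk : z ^ k = 1 := by
        have h1 : ((u * z) ^ k) ^ q = 1 := by
          refine orderOf_dvd_iff_pow_eq_one.1 (Nat.Coprime.dvd_of_dvd_mul_left (Nat.coprime_two_right.2 ho')
            (ho ▸ orderOf_dvd_of_pow_eq_one ?_))
          rw [← zpow_natCast, ← zpow_mul, mul_comm, zpow_mul, zpow_natCast, pow_orderOf_eq_one, one_zpow]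
        rw [← zpow_natCast, ← zpow_mul, (show Commute u z from mem_centralizer_singleton_iff.1 hu).mul_zpow,
          mul_comm k, zpow_mul u, zpow_natCast, ← huq, pow_orderOf_eq_one, one_zpow, one_mul, huq] at h1
        rcases Int.even_or_odd' k with ⟨r, rfl | rfl⟩
        · rw [zpow_mul, zpow_two, hzz, one_zpow]
        · exfalso
          obtain ⟨l, hl⟩ := hqodd
          rw [show (q : ℤ) * (2 * r + 1) = 2 * ((2 * l + 1) * r + l) + 1 by rw [hl]; push_cast; ring, zpow_add,
            zpow_mul, zpow_two, hzz, one_zpow, one_mul, zpow_one] at h1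
          exact Cfsg.Lib.Invol.ne_one D.hz h1
      rw [(show Commute u z from mem_centralizer_singleton_iff.1 hu).mul_zpow, hzk, mul_one]
      exact zpow_mem (mem_zpowers u) k
    · refine zpowers_le.2 ⟨hmemK u ?_ (by rw [huq]; exact hqodd), hu⟩
      refine mem_centralizer_iff.2 fun x hx => ?_
      obtain ⟨k, rfl⟩ := mem_zpowers_iff.1 hx
      exact ((Commute.refl u).zpow_left k).eq
  -- the normalizer
  set NP := normalizer (P : Set G) with hNP
  set φ := normalizerMonoidHom P with hφ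
  have hker : φ.ker = CP.subgroupOf NP := normalizerMonoidHom_ker P
  have haut : Nat.card (MulAut P) = q - 1 := by
    haveI : IsCyclic P := isCyclic_of_prime_card hPc
    rw [IsCyclic.card_mulAut, hPc, Nat.totient_prime Fact.out]
  have h1 := card_mul_index φ.ker
  rw [index_ker, hker, Nat.card_congr (subgroupOfEquivOfLe (centralizer_le_normalizer _)).toEquiv] at h1
  set M := (Cen z).subgroupOf NP
  have hM : Nat.card M = 2 * (q * (q - 1)) := by
    rw [← L.card_normalizer hq hq3 hP hPc, show M = (Cen z ⊓ NP).subgroupOf NP from (inf_subgroupOf_right _ _).symm,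
      Nat.card_congr (subgroupOfEquivOfLe inf_le_right).toEquiv]
  have h2 := card_mul_index (φ.comp M.subtype).ker
  rw [index_ker] at h2
  have hkM : Nat.card (φ.comp M.subtype).ker = 2 * q := by
    rw [← ho, ← Nat.card_zpowers (u * z), ← hcz]
    refine Nat.card_congr
      { toFun := fun x => ⟨(((x : ↥M) : ↥NP) : G), (x : ↥M).2, ?_⟩
        invFun := fun x => ⟨⟨⟨x.1, centralizer_le_normalizer _ x.2.2⟩, x.2.1⟩, ?_⟩
        left_inv := fun x => rfl
        right_inv := fun x => rfl }
    · have hx : ((x : ↥M) : ↥NP) ∈ φ.ker := x.2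
      rw [hker] at hx
      exact hx
    · show (⟨x.1, centralizer_le_normalizer _ x.2.2⟩ : ↥NP) ∈ φ.ker
      rw [hker]
      exact x.2.2
  rw [hkM, hM, mul_assoc 2 q, Nat.mul_left_cancel_iff two_pos, Nat.mul_left_cancel_iff (show 0 < q by omega)] at h2
  have hge : q - 1 ≤ Nat.card φ.range := by
    rw [← h2]
    exact card_le_of_le (by rw [MonoidHom.range_comp]; exact map_le_range _ _)
  have hle : Nat.card φ.range ≤ q - 1 := haut ▸ card_le_card_group _
  rw [← h1, le_antisymm hle hge, mul_comm]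

end Cfsg.Lib.LenSeven
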