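import Cfsg.Agent.Lib.LenSeven.QDCent
import Cfsg.Agent.Lib.LenSeven.Split

/-!
# A quasi-dihedral Sylow subgroup of order 16 and `q = 5`: the order is `126000`
-/

set_option autoImplicit false
set_option linter.style.haveILetI false
set_option linter.unusedSectionVars false

namespace Cfsg.Lib.LenSeven

open Cfsg Subgroup LenEight OrderSDW TwoGroup
open scoped Pointwise

universe u

variable {G : Type u} [Group G] [Fintype G] [Fact (Nat.Prime 2)] [IsSimpleGroup G]
variable {S : Sylow 2 G} {z : G} {F : Type} [Field F] [Fintype F]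

theorem five_orders {g X Y : ℤ} (hY : Y * (X + 25) = -(X * (X + 1))) (hYodd : Odd Y) (h4 : (4 : ℤ) ∣ X - 5)
    (hg : g * (X - 5) ^ 2 = 115200 * (X * (X + 1))) (hX : X ≠ 0) (hX1 : X + 1 ≠ 0)
    (h16 : (16 : ℤ) ∣ g) (h32 : ¬ (32 : ℤ) ∣ g) : g = 68400 ∨ g = 85680 ∨ g = 126000 := by
  have hd : X + 25 ∣ 600 := ⟨-Y - (X - 24), by linear_combination hY⟩
  have hne : X + 25 ≠ 0 := fun h => by simp [h] at hd
  have hmem : (X + 25).natAbs ∈ Nat.divisors 600 := Nat.mem_divisors.2
    ⟨by simpa using Int.natAbs_dvd_natAbs.2 hd, by norm_num⟩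
  rw [show Nat.divisors 600 = {1, 2, 3, 4, 5, 6, 8, 10, 12, 15, 20, 24, 25, 30, 40, 50, 60, 75, 100, 120, 150,
    200, 300, 600} by decide +kernel] at hmem
  simp only [Finset.mem_insert, Finset.mem_singleton, Int.natAbs_eq_iff] at hmem
  obtain ⟨k, hk⟩ := hYodd
  rcases hmem with h | h | h | h | h | h | h | h | h | h | h | h | h | h | h | h | h | h | h | h | h | h | h | h
  all_goals
    rcases h with h | h
    all_goals
      first
        | omega
        | (obtain rfl : X = _ := eq_sub_of_add_eq h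
           revert hY hg h4 hX hX1
           norm_num <;> intros <;> omega)

/-- An element of a group with `p + 1` Sylow `p`-subgroups commuting with a nontrivial `p`-element fixes all of
them if its order is prime to `p`. -/
theorem fixes_all {p : ℕ} [Fact p.Prime] (h : Nat.card (Sylow p G) = p + 1) {Y : Sylow p G}
    (hY : Nat.card (Y : Subgroup G) = p) {y u : G} (hy : y ∈ (Y : Subgroup G)) (hy1 : y ≠ 1)
    (hu : Commute u y) (hpu : ¬ p ∣ orderOf u) (R : Sylow p G) : u • R = R := by
  classical
  have hpp := (Fact.out : p.Prime)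
  have huN : u ∈ normalizer ((Y : Subgroup G) : Set G) := by
    have hgen : (Y : Subgroup G) = zpowers y := by
      refine (eq_of_le_of_card_ge (zpowers_le.2 hy) ?_).symm
      rw [hY, Nat.card_zpowers]
      have hd : orderOf y ∣ p := by rw [← hY, ← orderOf_mk y hy]; exact _root_.orderOf_dvd_natCard _
      rcases (Nat.dvd_prime hpp).1 hd with e | e
      · exact absurd (orderOf_eq_one_iff.1 e) hy1
      · exact e.ge
    rw [hgen]
    refine centralizer_le_normalizer _ (mem_centralizer_iff.2 fun x hx => ?_)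
    obtain ⟨k, rfl⟩ := mem_zpowers_iff.1 hx
    exact (hu.zpow_right k).symm.eq
  by_cases hR : R = Y
  · subst hR
    exact Sylow.smul_eq_iff_mem_normalizer.2 huN
  have hord : orderOf y = p := by
    have hd : orderOf y ∣ p := by rw [← hY, ← orderOf_mk y hy]; exact _root_.orderOf_dvd_natCard _
    exact ((Nat.dvd_prime hpp).1 hd).resolve_left fun e => hy1 (orderOf_eq_one_iff.1 e)
  -- powers of `y` fixing another Sylow subgroup are trivial
  have hfree : ∀ Q : Sylow p G, Q ≠ Y → ∀ k : ℕ, y ^ k • Q = Q → p ∣ k := by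
    intro Q hQ k hk
    by_contra hpk
    have hyk : y ^ k ∈ normalizer ((Q : Subgroup G) : Set G) := Sylow.smul_eq_iff_mem_normalizer.1 hk
    have hpg : IsPGroup p (zpowers (y ^ k)) :=
      (Y.2).to_le (zpowers_le.2 (pow_mem hy k))
    have hsup : IsPGroup p (zpowers (y ^ k) ⊔ (Q : Subgroup G) : Subgroup G) :=
      IsPGroup.to_sup_of_normal_right' hpg Q.2 (zpowers_le.2 hyk)
    have hmem : y ^ k ∈ (Q : Subgroup G) := (Q.3 hsup le_sup_right) ▸ mem_sup_left (mem_zpowers _)
    have hQc : Nat.card (Q : Subgroup G) = p := by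
      rw [Q.card_eq_multiplicity, ← Y.card_eq_multiplicity, hY]
    have hne : y ^ k ≠ 1 := fun e => hpk (hord ▸ orderOf_dvd_of_pow_eq_one e)
    have hle : zpowers (y ^ k) = (Q : Subgroup G) := by
      refine eq_of_le_of_card_ge (zpowers_le.2 hmem) ?_
      rw [hQc, Nat.card_zpowers]
      have hd : orderOf (y ^ k) ∣ p := by rw [← hord]; exact orderOf_pow_dvd k
      rcases (Nat.dvd_prime hpp).1 hd with e | e
      · exact absurd (orderOf_eq_one_iff.1 e) hne
      · exact e.ge
    exact hQ (Sylow.ext (eq_of_le_of_card_ge (hle ▸ zpowers_le.2 (pow_mem hy k)) (by rw [hQc, hY])))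
  have hyY : y • Y = Y := Sylow.smul_eq_iff_mem_normalizer.2 (le_normalizer hy)
  have hyYk : ∀ k : ℕ, y ^ k • Y = Y := fun k =>
    Sylow.smul_eq_iff_mem_normalizer.2 (le_normalizer (pow_mem hy k))
  -- the orbit of `R` is everything but `Y`
  let f : Option (Fin p) → Sylow p G := fun o => o.elim Y fun k => y ^ (k : ℕ) • R
  have hf : Function.Injective f := by
    have hne : ∀ k : ℕ, y ^ k • R ≠ Y := fun k e => hR (smul_left_cancel (y ^ k) (e.trans (hyYk k).symm))
    rintro (_ | i) (_ | j) e
    · rfl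
    · exact absurd e.symm (hne j)
    · exact absurd e (hne i)
    · simp only [f, Option.elim_some] at e
      rcases le_total (i : ℕ) (j : ℕ) with hij | hij
      · obtain ⟨d, hd⟩ := Nat.exists_eq_add_of_le hij
        rw [hd, pow_add, mul_smul] at e
        have := hfree R hR d (smul_left_cancel _ e).symm
        rcases Nat.eq_zero_or_pos d with rfl | hpos
        · exact congrArg some (Fin.ext (by omega))
        · have := Nat.le_of_dvd hpos this
          omega
      · obtain ⟨d, hd⟩ := Nat.exists_eq_add_of_le hij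
        rw [hd, pow_add, mul_smul] at e
        have := hfree R hR d (smul_left_cancel _ e)
        rcases Nat.eq_zero_or_pos d with rfl | hpos
        · exact congrArg some (Fin.ext (by omega))
        · have := Nat.le_of_dvd hpos this
          omega
  haveI := Fintype.ofFinite (Sylow p G)
  have hbij : Function.Bijective f := (Fintype.bijective_iff_injective_and_card f).2
    ⟨hf, by rw [Fintype.card_option, Fintype.card_fin, ← Nat.card_eq_fintype_card, h]⟩
  obtain ⟨o, ho⟩ := hbij.2 (u • R)
  rcases o with _ | k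
  · exact absurd (smul_left_cancel u
      (ho.symm.trans (Sylow.smul_eq_iff_mem_normalizer.2 huN).symm)) hR
  simp only [f, Option.elim_some] at ho
  -- `u` raised to its order
  have hpow : ∀ n : ℕ, u ^ n • R = y ^ ((k : ℕ) * n) • R := by
    intro n
    induction n with
    | zero => simp
    | succ n ih =>
      rw [pow_succ', mul_smul, ih, ← mul_smul, (hu.pow_right _).eq, mul_smul, ← ho, ← mul_smul, ← pow_add,
        Nat.mul_succ]
  have h1 := hpow (orderOf u)
  rw [pow_orderOf_eq_one, one_smul] at h1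
  rcases hpp.dvd_mul.1 (hfree R hR _ h1.symm) with hk | hk
  · have hk0 : (k : ℕ) = 0 := by
      rcases Nat.eq_zero_or_pos (k : ℕ) with e | e
      · exact e
      · have := Nat.le_of_dvd e hk
        omega
    rw [← ho, hk0, pow_zero, one_smul]
  · exact absurd hk hpu

theorem qd_five (hna : ¬ IsMulCommutative G) (D : QD16 S z F) (hF : Fintype.card F = 5) : Concl G := by
  classical
  haveI h5 : Fact (Nat.Prime 5) := ⟨Nat.prime_five⟩
  obtain ⟨N, L⟩ := exists_locN hna D hF.ge
  obtain ⟨ε, c, hε, h4, hc, ⟨X, Y, hX, hX1, hY, hYodd, hX4, hEq⟩, hcen⟩ := card_inf_cen D hF.ge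
  obtain ⟨-, hC, -, -⟩ := five_shape D hF.ge
  rw [hF] at h4 hc hY hX4 hEq hC
  obtain rfl : ε = 1 := by
    rcases hε with rfl | rfl
    · rfl
    · norm_num at h4
  obtain rfl : c = 12 := by omega
  norm_num [-Nat.card_eq_fintype_card] at hC hY hX4 hEq
  rw [hC] at hEq
  have hg16 : 2 ^ 4 ∣ Nat.card G ∧ ¬ 2 ^ 5 ∣ Nat.card G := by
    refine ⟨?_, fun h => ?_⟩
    · have := card_subgroup_dvd_card (S : Subgroup G)
      rwa [D.card] at this
    · obtain ⟨R, hR⟩ := Sylow.exists_subgroup_card_pow_prime 2 h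
      obtain ⟨R', hR'⟩ := (IsPGroup.of_card hR).exists_le_sylow
      have := card_dvd_of_le hR'
      rw [hR, R'.card_eq_multiplicity, ← S.card_eq_multiplicity, D.card] at this
      norm_num at this
  have hcases : Nat.card G = 68400 ∨ Nat.card G = 85680 ∨ Nat.card G = 126000 := by
    have h := five_orders (g := (Nat.card G : ℤ)) hY hYodd hX4
      (by push_cast at hEq; linarith) hX hX1 (by exact_mod_cast hg16.1)
      (fun h => hg16.2 (by exact_mod_cast h))
    exact_mod_cast h
  rcases hcases with hg | hg | hg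
  rotate_left 2
  · exact Or.inr (Or.inr (Or.inr (Or.inr (Or.inr hg))))
  all_goals exfalso
  all_goals
    obtain ⟨P₀, hP₀⟩ := Sylow.exists_subgroup_card_pow_prime (G := ↥(Cen z)) 5 (n := 1) (by rw [hC]; norm_num)
    rw [pow_one] at hP₀
    obtain ⟨u₀, hu₀⟩ := (isCyclic_of_prime_card hP₀).exists_generator
    obtain ⟨hu, huq⟩ : ((u₀ : ↥(Cen z)) : G) ∈ Cen z ∧ orderOf ((u₀ : ↥(Cen z)) : G) = 5 :=
      ⟨(u₀ : ↥(Cen z)).2, by rw [Subgroup.orderOf_coe, Subgroup.orderOf_coe,
        orderOf_eq_card_of_forall_mem_zpowers hu₀, hP₀]⟩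
    generalize ((u₀ : ↥(Cen z)) : G) = u at hu huq
    obtain ⟨K, hK⟩ := exists_kdata D L hF (by norm_num) hcen (by norm_num) hu huq
    set P : Subgroup G := zpowers u with hPdef
    have hPc : Nat.card P = 5 := by rw [Nat.card_zpowers, huq]
    have hPK : P ≤ K := hK.inf.ge.trans inf_le_left
    obtain ⟨n, hn⟩ : 5 ∣ Nat.card K := hPc ▸ card_dvd_of_le hPK
    have hnodd : Odd n := (hn ▸ hK.odd).of_dvd_nat (Dvd.intro_left _ rfl)
    have hdvd : 40 * n ∣ Nat.card G := by
      have h := card_subgroup_dvd_card (normalizer (P : Set G))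
      rw [hK.card_np, hK.card_cp, hn] at h
      rwa [show 40 * n = (5 - 1) * (2 * (5 * n)) by ring]
    -- an element of order eight
    obtain ⟨x, hx8, hxN⟩ : ∃ x : G, orderOf x = 8 ∧ x ∈ Cen z ⊓ normalizer (P : Set G) := by
      set M := Cen z ⊓ normalizer (P : Set G) with hMdef
      have hM : Nat.card M = 40 := L.card_normalizer hF (by norm_num) (zpowers_le.2 hu) hPc
      obtain ⟨-, hcz⟩ := L.centralizer_inf hF (by norm_num) D hcen (by norm_num) hu huq
      let φ : M →* MulAut P := (normalizerMonoidHom P).comp (inclusion inf_le_right)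
      haveI : IsCyclic P := isCyclic_of_prime_card hPc
      have haut : Nat.card (MulAut P) = 4 := by
        rw [IsCyclic.card_mulAut, hPc, Nat.totient_prime Nat.prime_five]
      have hker : Nat.card φ.ker = 10 := by
        have e : Nat.card φ.ker = Nat.card ↥(Cen z ⊓ centralizer (P : Set G)) := by
          refine Nat.card_congr
            { toFun := fun y => ⟨((y : ↥M) : G), (y : ↥M).2.1, ?_⟩
              invFun := fun y => ⟨⟨y.1, y.2.1, centralizer_le_normalizer _ y.2.2⟩, ?_⟩
              left_inv := fun y => rfl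
              right_inv := fun y => rfl }
          · have hy : inclusion inf_le_right (y : ↥M) ∈ (normalizerMonoidHom P).ker := y.2
            rw [normalizerMonoidHom_ker] at hy
            exact hy
          · show inclusion inf_le_right _ ∈ (normalizerMonoidHom P).ker
            rw [normalizerMonoidHom_ker]
            exact y.2.2
        rw [e, hcz, Nat.card_zpowers, (L.centralizer_inf hF (by norm_num) D hcen (by norm_num) hu huq).1]
      have hsurj : Function.Surjective φ := by
        rw [← MonoidHom.range_eq_top]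
        refine eq_top_of_card_eq _ ?_
        have h := card_mul_index φ.ker
        rw [index_ker, hker, hM] at h
        rw [haut]; omega
      haveI : IsCyclic (MulAut P) :=
        (IsCyclic.mulAutMulEquiv P).isCyclic.2 (ZMod.isCyclic_units_prime (hPc ▸ Nat.prime_five))
      obtain ⟨a, ha⟩ := IsCyclic.exists_ofOrder_eq_natCard (α := MulAut P)
      obtain ⟨g, hg⟩ := hsurj a
      have hg40 : g ^ 40 = 1 := by rw [← hM]; exact pow_card_eq_one'
      refine ⟨((g ^ 5 : ↥M) : G), ?_, (g ^ 5).2⟩
      rw [Subgroup.orderOf_coe]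
      have h8 : orderOf (g ^ 5) ∣ 2 ^ 3 := orderOf_dvd_of_pow_eq_one (by rw [← pow_mul]; exact hg40)
      have h4 : 4 ∣ orderOf (g ^ 5) := by
        have := orderOf_map_dvd φ (g ^ 5)
        rw [map_pow, hg, Nat.Coprime.orderOf_pow (by rw [ha, haut]; norm_num), ha, haut] at this
        exact this
      obtain ⟨i, hi, hio⟩ := (Nat.dvd_prime_pow Nat.prime_two).1 h8
      by_contra hne
      have hi2 : orderOf ((g ^ 5 : ↥M) : G) = 4 := by
        rw [Subgroup.orderOf_coe]
        interval_cases i <;> simp_all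
      have hsq := (L.four _ (g ^ 5).2.1 hi2).2
      have hmem : (g ^ 5) ^ 2 ∈ φ.ker := by
        show inclusion inf_le_right ((g ^ 5) ^ 2) ∈ (normalizerMonoidHom P).ker
        rw [normalizerMonoidHom_ker]
        show (((g ^ 5) ^ 2 : ↥M) : G) ∈ centralizer (P : Set G)
        rw [SubmonoidClass.coe_pow, pow_two, hsq]
        exact mem_centralizer_iff.2 fun w hw => mem_centralizer_singleton_iff.1 (zpowers_le.2 hu hw)
      rw [MonoidHom.mem_ker, map_pow] at hmem
      have := orderOf_dvd_of_pow_eq_one hmem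
      rw [map_pow, hg, Nat.Coprime.orderOf_pow (by rw [ha, haut]; norm_num), ha, haut] at this
      norm_num at this
    -- it acts freely on `K ∖ P`
    have hfree : 8 ∣ 5 * n - 5 := by
      have hx4 : x ^ 4 = z := by
        have h2 : orderOf (x ^ 2) = 4 := by rw [orderOf_pow, hx8]; norm_num
        have := (L.four _ (pow_mem hxN.1 2) h2).2
        rwa [← pow_add] at this
      let α := {k : G // k ∈ K ∧ k ∉ P}
      letI : MulAction (zpowers x) α :=
        { smul := fun g k => ⟨(g : G) * k.1 * (g : G)⁻¹,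
            hK.pow_mem (zpowers_le.2 hxN.2 g.2) k.2.1,
            fun h => k.2.2 ((mem_normalizer_iff.1 (zpowers_le.2 hxN.2 g.2) k.1).2 h)⟩
          one_smul := fun k => Subtype.ext (by show ((1 : zpowers x) : G) * k.1 * _ = k.1; simp)
          mul_smul := fun g g' k => Subtype.ext (by
            show ((g * g' : zpowers x) : G) * k.1 * _ = (g : G) * ((g' : G) * k.1 * (g' : G)⁻¹) * (g : G)⁻¹
            simp [mul_assoc]) }
      have hd : Nat.card (zpowers x) ∣ Nat.card α := by
        refine card_dvd_of_free fun g k hgk => ?_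
        by_contra hg1
        have hcomm : Commute (g : G) k.1 := mul_inv_eq_iff_eq_mul.1 (congrArg Subtype.val hgk)
        -- `z` is a power of `g`
        obtain ⟨i, hi⟩ := mem_zpowers_iff.1 g.2
        have hi8 : ¬ (8 : ℤ) ∣ i := fun h => hg1 (Subtype.ext (hi ▸ orderOf_dvd_iff_zpow_eq_one.1 (hx8 ▸ h)))
        have hzmem : ∃ j : ℤ, (g : G) ^ j = z := by
          rw [← hi, ← hx4]
          have key : ∃ j : ℤ, (8 : ℤ) ∣ i * j - 4 := by
            rcases (show i % 2 = 1 ∨ i % 4 = 2 ∨ i % 8 = 4 by omega) with h | h | h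
            · exact ⟨4, by omega⟩
            · exact ⟨2, by omega⟩
            · exact ⟨1, by omega⟩
          obtain ⟨j, hj⟩ := key
          refine ⟨j, ?_⟩
          rw [← zpow_mul, ← zpow_natCast x 4, zpow_eq_zpow_iff_modEq, hx8, Int.modEq_iff_dvd]
          exact (dvd_sub_comm).1 (by exact_mod_cast hj)
        obtain ⟨j, hj⟩ := hzmem
        have hkz : k.1 ∈ Cen z := mem_centralizer_singleton_iff.2 (hj ▸ (hcomm.zpow_left j).symm.eq)
        exact k.2.2 (hK.inf.le ⟨k.2.1, hkz⟩)
      have hα : Nat.card α = 5 * n - 5 := by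
        have e : Nat.card α = ((K : Set G) \ (P : Set G)).ncard := (Nat.card_coe_set_eq _).symm ▸ rfl
        rw [e, Set.ncard_sdiff (fun w hw => hPK hw), ← Nat.card_coe_set_eq, ← Nat.card_coe_set_eq]
        show Nat.card K - Nat.card P = _
        rw [hn, hPc]
      rwa [Nat.card_zpowers, hx8, hα] at hd
    rw [hg] at hdvd
  -- `68400`
  · obtain ⟨Q, hQ⟩ : ∃ Q : Sylow 5 G, P ≤ Q := (IsPGroup.of_card (n := 1) (by rw [hPc, pow_one])).exists_le_sylow
    have hQc : Nat.card (Q : Subgroup G) = 5 ^ 2 :=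
      Cfsg.Lib.Small.card_sylow 2 2736 (by rw [hg]; norm_num) (by norm_num) Q
    have hab : IsMulCommutative (Q : Subgroup G) := IsPGroup.isMulCommutative_of_card_eq_prime_sq hQc
    have hQP : (Q : Subgroup G) ≤ centralizer (P : Set G) := fun w hw => mem_centralizer_iff.2 fun v hv =>
      congrArg Subtype.val (hab.1.comm ⟨v, hQ hv⟩ ⟨w, hw⟩)
    have h25 := card_dvd_of_le hQP
    rw [hQc, hK.card_cp, hn] at h25
    obtain ⟨m, rfl⟩ : 5 ∣ n := Nat.Coprime.dvd_of_dvd_mul_left (show Nat.Coprime 5 2 by norm_num)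
      (Nat.dvd_of_mul_dvd_mul_left (show 0 < 5 by norm_num) (by rwa [show 5 * (2 * n) = 2 * (5 * n) by ring]))
    have hm : m ∣ 342 := Nat.dvd_of_mul_dvd_mul_left (show 0 < 200 by norm_num)
      (by rwa [show 200 * m = 40 * (5 * m) by ring])
    have hmem : m ∈ Nat.divisors 342 := Nat.mem_divisors.2 ⟨hm, by norm_num⟩
    rw [show Nat.divisors 342 = {1, 2, 3, 6, 9, 18, 19, 38, 57, 114, 171, 342} by decide +kernel] at hmem
    simp only [Finset.mem_insert, Finset.mem_singleton] at hmem
    obtain ⟨t, ht⟩ := hnodd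
    omega
  -- `85680`
  · obtain ⟨Q, hQ⟩ : ∃ Q : Sylow 5 G, P ≤ Q := (IsPGroup.of_card (n := 1) (by rw [hPc, pow_one])).exists_le_sylow
    have hQc : Nat.card (Q : Subgroup G) = 5 :=
      (Cfsg.Lib.Small.card_sylow 1 17136 (by rw [hg]; norm_num) (by norm_num) Q).trans (pow_one 5)
    have hQP : (Q : Subgroup G) = P := (eq_of_le_of_card_ge hQ (by rw [hQc, hPc])).symm
    have hn5 : Nat.card (Sylow 5 G) * (40 * n) = 85680 := by
      have h := card_mul_index (normalizer ((Q : Subgroup G) : Set G))
      have hi : (normalizer ((Q : Subgroup G) : Set G)).index = Nat.card (Sylow 5 G) :=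
        Q.card_eq_index_normalizer.symm
      rw [hi, hQP, hK.card_np, hK.card_cp, hn, hg] at h
      rw [← h]; ring
    have hmod := card_sylow_modEq_one 5 G
    have hn17 : n = 17 := by
      have hn' : n ∣ 2142 := Nat.dvd_of_mul_dvd_mul_left (show 0 < 40 by norm_num) hdvd
      have hmem : n ∈ Nat.divisors 2142 := Nat.mem_divisors.2 ⟨hn', by norm_num⟩
      rw [show Nat.divisors 2142 = {1, 2, 3, 6, 7, 9, 14, 17, 18, 21, 34, 42, 51, 63, 102, 119, 126, 153, 238,
        306, 357, 714, 1071, 2142} by decide +kernel] at hmem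
      simp only [Finset.mem_insert, Finset.mem_singleton] at hmem
      obtain ⟨t, ht⟩ := hnodd
      unfold Nat.ModEq at hmod
      rcases hmem with rfl | rfl | rfl | rfl | rfl | rfl | rfl | rfl | rfl | rfl | rfl | rfl | rfl | rfl | rfl |
        rfl | rfl | rfl | rfl | rfl | rfl | rfl | rfl | rfl <;> omega
    subst hn17
    haveI : Fact (Nat.Prime 17) := ⟨by norm_num⟩
    obtain ⟨T⟩ : Nonempty (Sylow 17 K) := inferInstance
    have hTc : Nat.card (T : Subgroup K) = 17 :=
      (Cfsg.Lib.Small.card_sylow 1 5 (by rw [hn]; norm_num) (by norm_num) T).trans (pow_one 17)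
    have hT1 : Nat.card (Sylow 17 K) = 1 := by
      have h1 := card_sylow_modEq_one 17 K
      have h2 := T.card_dvd_index
      have h3 : (T : Subgroup K).index = 5 := by
        have h := card_mul_index (T : Subgroup K)
        rw [hTc, hn] at h
        omega
      rw [h3] at h2
      have := Nat.le_of_dvd (by norm_num) h2
      unfold Nat.ModEq at h1
      omega
    haveI : Subsingleton (Sylow 17 K) := (Nat.card_eq_one_iff_unique.1 hT1).1
    obtain ⟨Y₀, hY₀⟩ := (T.2.map K.subtype).exists_le_sylow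
    have hYc : Nat.card (Y₀ : Subgroup G) = 17 :=
      (Cfsg.Lib.Small.card_sylow 1 5040 (by rw [hg]; norm_num) (by norm_num) Y₀).trans (pow_one 17)
    have hYeq : (T : Subgroup K).map K.subtype = (Y₀ : Subgroup G) :=
      eq_of_le_of_card_ge hY₀ (by rw [card_map_of_injective K.subtype_injective, hTc, hYc])
    have hYK : (Y₀ : Subgroup G) ≤ K := hYeq ▸ map_subtype_le _
    have huniq : ∀ v ∈ K, orderOf v = 17 → v ∈ (Y₀ : Subgroup G) := by
      intro v hv hvo
      obtain ⟨R, hR⟩ := (IsPGroup.of_card (n := 1) (by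
        rw [Nat.card_zpowers, Subgroup.orderOf_mk, hvo, pow_one]) : IsPGroup 17 (zpowers (⟨v, hv⟩ : K))).exists_le_sylow
      rw [← hYeq]
      exact ⟨⟨v, hv⟩, Subsingleton.elim R T ▸ hR (mem_zpowers _), rfl⟩
    have hNP : normalizer (P : Set G) ≤ normalizer ((Y₀ : Subgroup G) : Set G) := by
      intro w hw
      refine mem_normalizer_fintype fun v hv => ?_
      by_cases hv1 : v = 1
      · simp [hv1]
      refine huniq _ (hK.pow_mem hw (hYK hv)) ?_
      rw [show w * v * w⁻¹ = MulAut.conj w v from rfl, MulEquiv.orderOf_eq]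
      have hd : orderOf v ∣ 17 := by rw [← hYc, ← orderOf_mk v hv]; exact _root_.orderOf_dvd_natCard _
      exact ((Nat.dvd_prime (by norm_num)).1 hd).resolve_left fun e => hv1 (orderOf_eq_one_iff.1 e)
    have h680 := card_dvd_of_le hNP
    rw [hK.card_np, hK.card_cp, hn] at h680
    have hn17' : Nat.card (Sylow 17 G) * Nat.card ↥(normalizer ((Y₀ : Subgroup G) : Set G)) = 85680 := by
      have hi : Nat.card (Sylow 17 G) = (normalizer ((Y₀ : Subgroup G) : Set G)).index :=
        Y₀.card_eq_index_normalizer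
      rw [hi, mul_comm, card_mul_index, hg]
    have hne1 : Nat.card (Sylow 17 G) ≠ 1 := fun e => by
      rw [e, one_mul] at hn17'
      exact normalizer_ne_top (fun (e' : (Y₀ : Subgroup G) = ⊥) => by rw [e', card_bot] at hYc; norm_num at hYc)
        (fun (e' : (Y₀ : Subgroup G) = ⊤) => by rw [e', card_top, hg] at hYc; norm_num at hYc)
        (eq_top_of_card_eq _ (hn17'.trans hg.symm))
    have hn18 : Nat.card (Sylow 17 G) = 18 := by
      obtain ⟨j, hj⟩ := h680
      rw [hj] at hn17'
      have hd : Nat.card (Sylow 17 G) ∣ 126 := ⟨j, (Nat.eq_of_mul_eq_mul_left (show 0 < 680 by norm_num)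
        (show 680 * (Nat.card (Sylow 17 G) * j) = 680 * 126 by rw [mul_left_comm]; exact hn17')).symm⟩
      have hmem : Nat.card (Sylow 17 G) ∈ Nat.divisors 126 := Nat.mem_divisors.2 ⟨hd, by norm_num⟩
      rw [show Nat.divisors 126 = {1, 2, 3, 6, 7, 9, 14, 18, 21, 42, 63, 126} by decide +kernel] at hmem
      simp only [Finset.mem_insert, Finset.mem_singleton] at hmem
      have hmod17 := card_sylow_modEq_one 17 G
      unfold Nat.ModEq at hmod17
      omega
    obtain ⟨y, hy, hy1⟩ := (Y₀ : Subgroup G).bot_or_exists_ne_one.resolve_left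
      fun e => by rw [e, card_bot] at hYc; norm_num at hYc
    have huy : Commute u y := mem_centralizer_iff.1 (hK.le (hYK hy)) u (mem_zpowers u)
    have hall : ∀ R : Sylow 17 G, u • R = R :=
      fixes_all hn18 hYc hy hy1 huy (by rw [huq]; norm_num)
    set f : G →* Equiv.Perm (Sylow 17 G) := MulAction.toPermHom G (Sylow 17 G)
    rcases IsSimpleGroup.eq_bot_or_eq_top_of_normal f.ker inferInstance with hb | ht
    · have humem : u ∈ f.ker := MonoidHom.mem_ker.2 (Equiv.ext hall)
      rw [hb, mem_bot] at humem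
      rw [humem, orderOf_one] at huq
      norm_num at huq
    · refine normalizer_ne_top (fun (e' : (Y₀ : Subgroup G) = ⊥) => by rw [e', card_bot] at hYc; norm_num at hYc)
        (fun (e' : (Y₀ : Subgroup G) = ⊤) => by rw [e', card_top, hg] at hYc; norm_num at hYc) (eq_top_iff.2 fun w _ => ?_)
      have hw : f w = 1 := MonoidHom.mem_ker.1 (ht ▸ mem_top w)
      exact Sylow.smul_eq_iff_mem_normalizer.1 (Equiv.congr_fun hw Y₀)

end Cfsg.Lib.LenSeven
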