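import Cfsg.Agent.Lib.Linear.DicksonTwo
import Cfsg.Agent.Lib.OrderSDW.Model
import Cfsg.Agent.Lib.Small.SimpleOrder
import Mathlib.LinearAlgebra.Matrix.CharP

/-!
# Facts about `SL(2, q)` used for centralizers of involutions
-/

set_option autoImplicit false
set_option linter.style.haveILetI false
set_option linter.unusedSectionVars false

namespace Cfsg.Lib.LenSeven.SLTwo

open Matrix Subgroup
open scoped MatrixGroups

variable {F : Type} [Field F] [Fintype F] [DecidableEq F]

theorem ext2 {A B : Matrix (Fin 2) (Fin 2) F} (h00 : A 0 0 = B 0 0) (h01 : A 0 1 = B 0 1) (h10 : A 1 0 = B 1 0)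
    (h11 : A 1 1 = B 1 1) : A = B := by
  ext i j
  fin_cases i <;> fin_cases j <;> assumption

theorem det_entries (x : SL(2, F)) : x.1 0 0 * x.1 1 1 - x.1 0 1 * x.1 1 0 = 1 := by
  rw [← Matrix.det_fin_two]
  exact x.2

theorem comm_entries {x y : Matrix (Fin 2) (Fin 2) F} (h : x * y = y * x) :
    x 0 1 * y 1 0 = y 0 1 * x 1 0 ∧ x 0 1 * (y 1 1 - y 0 0) = y 0 1 * (x 1 1 - x 0 0) ∧
      x 1 0 * (y 1 1 - y 0 0) = y 1 0 * (x 1 1 - x 0 0) := by
  have h00 := congrFun (congrFun h 0) 0
  have h01 := congrFun (congrFun h 0) 1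
  have h10 := congrFun (congrFun h 1) 0
  simp only [Matrix.mul_apply, Fin.sum_univ_two] at h00 h01 h10
  exact ⟨by linear_combination h00, by linear_combination h01, by linear_combination -h10⟩

/-- An element of square one is `± 1`. -/
theorem eq_or_eq_neg (h2 : (2 : F) ≠ 0) {x : SL(2, F)} (h : x * x = 1) :
    x = 1 ∨ x.1 = -1 := by
  have hc := Cfsg.Lib.Linear.Dickson.mem_center_of_sq_eq_one h2 h
  rw [Matrix.SpecialLinearGroup.mem_center_iff] at hc
  obtain ⟨r, hr, hrx⟩ := hc
  rw [Fintype.card_fin] at hr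
  rcases mul_eq_zero.1 (show (r - 1) * (r + 1) = 0 by linear_combination hr) with e | e
  · left
    refine Subtype.ext ?_
    rw [← hrx, sub_eq_zero.1 e, map_one]
    rfl
  · right
    rw [← hrx, eq_neg_of_add_eq_zero_left e, map_neg, map_one]

/-- Elements commuting with a non-scalar element commute. -/
theorem commute_comm {a x y : SL(2, F)} (ha : ∀ r : F, a.1 ≠ r • (1 : Matrix (Fin 2) (Fin 2) F))
    (hx : Commute a x) (hy : Commute a y) : Commute x y := by
  obtain ⟨p1, p2, p3⟩ := comm_entries (congrArg Subtype.val hx.eq : a.1 * x.1 = x.1 * a.1)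
  obtain ⟨r1, r2, r3⟩ := comm_entries (congrArg Subtype.val hy.eq : a.1 * y.1 = y.1 * a.1)
  set u := a.1 0 1
  set v := a.1 1 0
  set w := a.1 1 1 - a.1 0 0
  have hne : u ≠ 0 ∨ v ≠ 0 ∨ w ≠ 0 := by
    by_contra h
    push Not at h
    obtain ⟨hu, hv, hw⟩ := h
    exact ha (a.1 0 0) (ext2 (by simp) (by simpa using hu) (by simpa using hv) (by simpa using sub_eq_zero.1 hw))
  set x1 := x.1 0 1
  set x2 := x.1 1 0
  set x3 := x.1 1 1 - x.1 0 0
  set y1 := y.1 0 1
  set y2 := y.1 1 0
  set y3 := y.1 1 1 - y.1 0 0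
  have key : x1 * y2 = y1 * x2 ∧ x1 * y3 = y1 * x3 ∧ x2 * y3 = y2 * x3 := by
    rcases hne with h | h | h
    · have k1 : x1 * y2 = y1 * x2 := mul_left_cancel₀ h (by linear_combination x1 * r1 - y1 * p1)
      exact ⟨k1, mul_left_cancel₀ h (by linear_combination x1 * r2 - y1 * p2),
        mul_left_cancel₀ h (by linear_combination x2 * r2 - y2 * p2 - w * k1)⟩
    · have k1 : x1 * y2 = y1 * x2 := mul_left_cancel₀ h (by linear_combination x2 * r1 - y2 * p1)
      exact ⟨k1, mul_left_cancel₀ h (by linear_combination x1 * r3 - y1 * p3 + w * k1),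
        mul_left_cancel₀ h (by linear_combination x2 * r3 - y2 * p3)⟩
    · have k2 : x1 * y3 = y1 * x3 := mul_left_cancel₀ h (by linear_combination x3 * r2 - y3 * p2)
      have k3 : x2 * y3 = y2 * x3 := mul_left_cancel₀ h (by linear_combination x3 * r3 - y3 * p3)
      exact ⟨mul_left_cancel₀ h (by linear_combination x2 * r2 - y2 * p2 - u * k3), k2, k3⟩
  obtain ⟨k1, k2, k3⟩ := key
  refine Subtype.ext ?_
  show x.1 * y.1 = y.1 * x.1
  refine ext2 ?_ ?_ ?_ ?_ <;> simp only [Matrix.mul_apply, Fin.sum_univ_two]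
  · linear_combination k1
  · linear_combination k2
  · linear_combination -k3
  · linear_combination -k1

theorem commute_unipotent {p : ℕ} [Fact p.Prime] [CharP F p] (hp : p ≠ 2) {u v : SL(2, F)} (hu : u ^ p = 1)
    (hu1 : u ≠ 1) (huv : Commute u v) : v ^ (2 * p) = 1 := by
  have h2 : (2 : F) ≠ 0 := Ring.two_ne_zero (by
    rw [ringChar.eq F p]; exact hp)
  haveI : CharP (Matrix (Fin 2) (Fin 2) F) p := inferInstance
  set n : Matrix (Fin 2) (Fin 2) F := u.1 - 1 with hn
  have hnp : n ^ p = 0 := by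
    rw [hn, sub_pow_char_of_commute p (Commute.one_right _), one_pow,
      ← Matrix.SpecialLinearGroup.coe_pow, hu, Matrix.SpecialLinearGroup.coe_one, sub_self]
  have hn0 : n ≠ 0 := fun e => hu1 (Subtype.ext (sub_eq_zero.1 e))
  have hdet : n 0 0 * n 1 1 - n 0 1 * n 1 0 = 0 := by
    rw [← Matrix.det_fin_two]
    refine pow_eq_zero_iff (Fact.out : p.Prime).ne_zero |>.1 ?_
    rw [← Matrix.det_pow, hnp, Matrix.det_zero]
  set t := n 0 0 + n 1 1 with ht
  have hsq : n * n = t • n := by
    refine ext2 ?_ ?_ ?_ ?_ <;> simp only [Matrix.mul_apply, Fin.sum_univ_two, Matrix.smul_apply, smul_eq_mul, ht]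
    · linear_combination -hdet
    · ring
    · ring
    · linear_combination -hdet
  have ht0 : t = 0 := by
    have hpow : ∀ k : ℕ, n ^ (k + 1) = t ^ k • n := by
      intro k
      induction k with
      | zero => rw [pow_one, pow_zero, one_smul]
      | succ k ih => rw [pow_succ, ih, smul_mul_assoc, hsq, smul_smul, pow_succ]
    obtain ⟨k, hk⟩ : ∃ k, p = k + 1 := ⟨p - 1, (Nat.sub_add_cancel (Fact.out : p.Prime).one_le).symm⟩
    rw [hk, hpow] at hnp
    rcases smul_eq_zero.1 hnp with h | h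
    · exact eq_zero_of_pow_eq_zero h
    · exact absurd h hn0
  have hc : n * v.1 = v.1 * n := by
    rw [hn, sub_mul, mul_sub, one_mul, mul_one]
    rw [show u.1 * v.1 = v.1 * u.1 from congrArg Subtype.val huv.eq]
  obtain ⟨c1, c2, c3⟩ := comm_entries hc
  have hn11 : n 1 1 = -n 0 0 := eq_neg_of_add_eq_zero_right (ht ▸ ht0)
  rw [hn11] at c2 c3 hdet
  set α := (v.1 0 0 + v.1 1 1) / 2 with hα
  set a := (v.1 0 0 - v.1 1 1) / 2 with ha
  have hva : v.1 0 0 = α + a ∧ v.1 1 1 = α - a := ⟨by rw [hα, ha]; field_simp; ring, by rw [hα, ha]; field_simp; ring⟩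
  set b := v.1 0 1
  set c := v.1 1 0
  set d := n 0 0
  set r := n 0 1
  set s := n 1 0
  rw [hva.1, hva.2] at c2 c3
  have e2 : a * r = d * b := mul_left_cancel₀ h2 (by linear_combination -c2)
  have e3 : a * s = d * c := mul_left_cancel₀ h2 (by linear_combination -c3)
  have hD : a * a + b * c = 0 := by
    by_contra hD
    have hd0 : d = 0 := by
      have : d * d * (a * a + b * c) = 0 := by
        linear_combination (-(a * a)) * hdet - d * c * e2 - a * r * e3
      rcases mul_eq_zero.1 this with h | h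
      · exact mul_self_eq_zero.1 h
      · exact absurd h hD
    have hr0 : r = 0 := by
      have : r * r * (a * a + b * c) = 0 := by
        linear_combination (a * r + d * b) * e2 + b * r * c1 - b * b * hdet
      rcases mul_eq_zero.1 this with h | h
      · exact mul_self_eq_zero.1 h
      · exact absurd h hD
    have hs0 : s = 0 := by
      have : s * s * (a * a + b * c) = 0 := by
        linear_combination (a * s + d * c) * e3 - c * s * c1 - c * c * hdet
      rcases mul_eq_zero.1 this with h | h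
      · exact mul_self_eq_zero.1 h
      · exact absurd h hD
    refine hn0 (ext2 ?_ ?_ ?_ ?_)
    · simpa using hd0
    · simpa using hr0
    · simpa using hs0
    · rw [hn11]; simpa using hd0
  have hα2 : α ^ 2 = 1 := by
    have hd1 := det_entries v
    rw [hva.1, hva.2] at hd1
    linear_combination hd1 + hD
  set m : Matrix (Fin 2) (Fin 2) F := v.1 - α • 1 with hm
  have hm2 : m * m = 0 := by
    refine ext2 ?_ ?_ ?_ ?_ <;>
      simp [hm, Matrix.mul_apply, Fin.sum_univ_two, hva.1, hva.2] <;>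
      first
        | linear_combination hD
        | ring
  refine Subtype.ext ?_
  rw [Matrix.SpecialLinearGroup.coe_pow, Matrix.SpecialLinearGroup.coe_one,
    show v.1 = α • 1 + m by rw [hm]; abel, mul_comm, pow_mul,
    add_pow_char_of_commute p ((Commute.one_left m).smul_left α)]
  have hmp : m ^ p = 0 := by
    obtain ⟨k, hk⟩ : ∃ k, p = k + 2 := ⟨p - 2, (Nat.sub_add_cancel (Fact.out : p.Prime).two_le).symm⟩
    rw [hk, pow_add, pow_two, hm2, mul_zero]
  rw [hmp, add_zero, ← pow_mul, mul_comm, pow_mul, smul_pow, one_pow, hα2, one_smul, one_pow]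

/-- An element of order four. -/
theorem exists_four (h2 : (2 : F) ≠ 0) : ∃ j : SL(2, F), orderOf j = 4 := by
  haveI : Fact (Nat.Prime 2) := ⟨Nat.prime_two⟩
  have hdet : (!![0, 1; -1, 0] : Matrix (Fin 2) (Fin 2) F).det = 1 := by simp [Matrix.det_fin_two]
  obtain ⟨j, hj⟩ : ∃ j : SL(2, F), j.1 = !![0, 1; -1, 0] := ⟨⟨_, hdet⟩, rfl⟩
  refine ⟨j, orderOf_eq_prime_pow (p := 2) (n := 1) ?_ ?_⟩
  · intro h
    have e := congrFun (congrFun (congrArg Subtype.val h) 0) 0
    rw [pow_one, Matrix.SpecialLinearGroup.coe_pow, pow_two, hj, Matrix.SpecialLinearGroup.coe_one] at e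
    simp [Matrix.mul_apply, Fin.sum_univ_two] at e
    exact h2 (by linear_combination -e)
  · refine Subtype.ext ?_
    rw [Matrix.SpecialLinearGroup.coe_pow, Matrix.SpecialLinearGroup.coe_one,
      show (2 : ℕ) ^ (1 + 1) = 2 + 2 from rfl, pow_add, pow_two, hj]
    refine ext2 ?_ ?_ ?_ ?_ <;> simp [Matrix.mul_apply, Fin.sum_univ_two]

/-- The trace of an element of order four is zero. -/
theorem trace_four (h2 : (2 : F) ≠ 0) {j : SL(2, F)} (hj : orderOf j = 4) :
    j.1 1 1 = -j.1 0 0 ∧ j.1 0 0 * j.1 0 0 + j.1 0 1 * j.1 1 0 = -1 := by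
  have hjj : (j * j) * (j * j) = 1 := by
    rw [← pow_two, ← pow_two, ← pow_mul, show 2 * 2 = orderOf j from hj.symm, pow_orderOf_eq_one]
  rcases eq_or_eq_neg h2 hjj with h | h
  · have := orderOf_dvd_of_pow_eq_one (x := j) (n := 2) (by rw [pow_two]; exact h)
    rw [hj] at this
    norm_num at this
  have hd := det_entries j
  have h00 := congrFun (congrFun h 0) 0
  have h01 := congrFun (congrFun h 0) 1
  have h10 := congrFun (congrFun h 1) 0
  simp [Matrix.mul_apply, Fin.sum_univ_two] at h00 h01 h10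
  have hs : j.1 0 0 + j.1 1 1 = 0 := by
    by_contra hs
    have e1 : j.1 0 1 = 0 := (mul_eq_zero.1 (show j.1 0 1 * (j.1 0 0 + j.1 1 1) = 0 by
      linear_combination h01)).resolve_right hs
    have e2 : j.1 0 0 * (j.1 0 0 + j.1 1 1) = 0 := by linear_combination h00 + hd
    rcases mul_eq_zero.1 e2 with e | e
    · rw [e, e1] at hd
      simp at hd
    · exact hs e
  exact ⟨eq_neg_of_add_eq_zero_right hs, by linear_combination h00⟩

/-- The centralizer of an element of order four. -/
theorem card_centralizer_four (h2 : ringChar F ≠ 2) {j : SL(2, F)} (hj : orderOf j = 4) :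
    (Nat.card (centralizer ({j} : Set SL(2, F))) : ℤ) = (Fintype.card F : ℤ) - quadraticChar F (-1) := by
  have h2' : (2 : F) ≠ 0 := Ring.two_ne_zero h2
  obtain ⟨h11, hq⟩ := trace_four h2' hj
  set a := j.1 0 0 with ha
  set b := j.1 0 1 with hb
  set c := j.1 1 0 with hc
  set A := Finset.univ.filter fun p : F × F => p.1 * p.1 - (-1) * (p.2 * p.2) = 1 with hA
  have hcard : (A.card : ℤ) = (Fintype.card F : ℤ) - quadraticChar F (-1) := by
    rw [hA, Cfsg.Lib.OrderSDW.Model.card_norm h2 (by norm_num) (1 : F), if_neg one_ne_zero, add_zero]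
  let f : {p // p ∈ A} → centralizer ({j} : Set SL(2, F)) := fun p =>
    ⟨(⟨!![p.1.1 + p.1.2 * a, p.1.2 * b; p.1.2 * c, p.1.1 - p.1.2 * a], by
      have hp := (Finset.mem_filter.1 p.2).2
      rw [Matrix.det_fin_two]
      simp
      linear_combination hp - p.1.2 * p.1.2 * hq⟩ : SL(2, F)), mem_centralizer_singleton_iff.2 (Subtype.ext (by
        show _ * j.1 = j.1 * _
        refine ext2 ?_ ?_ ?_ ?_ <;>
          simp [Matrix.mul_apply, Fin.sum_univ_two, h11, ← ha, ← hb, ← hc] <;> ring))⟩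
  have hinj : Function.Injective f := by
    rintro ⟨⟨x, y⟩, hp⟩ ⟨⟨x', y'⟩, hp'⟩ e
    have e' := congrArg (fun g : centralizer ({j} : Set SL(2, F)) => (g : SL(2, F)).1) e
    have e00 := congrFun (congrFun e' 0) 0
    have e01 := congrFun (congrFun e' 0) 1
    have e10 := congrFun (congrFun e' 1) 0
    have e11 := congrFun (congrFun e' 1) 1
    simp [f] at e00 e01 e10 e11
    have hx : x = x' := mul_left_cancel₀ h2' (by linear_combination e00 + e11)
    subst hx
    have hy : y = y' := by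
      have hb0 : a * (y - y') = 0 := by linear_combination e00
      rcases e01 with e01 | e01
      · exact e01
      rcases e10 with e10 | e10
      · exact e10
      rcases mul_eq_zero.1 hb0 with h | h
      · rw [h, e01] at hq
        simp at hq
      · exact sub_eq_zero.1 h
    subst hy
    rfl
  have hsurj : Function.Surjective f := by
    rintro ⟨g, hg⟩
    obtain ⟨c1, c2, c3⟩ := comm_entries
      (congrArg (fun z : SL(2, F) => z.1) (mem_centralizer_singleton_iff.1 hg) : g.1 * j.1 = j.1 * g.1)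
    simp only [h11, ← ha, ← hb, ← hc] at c1 c2 c3
    set x := (g.1 0 0 + g.1 1 1) / 2 with hx
    set d := (g.1 0 0 - g.1 1 1) / 2 with hd
    have hg' : g.1 0 0 = x + d ∧ g.1 1 1 = x - d :=
      ⟨by rw [hx, hd]; field_simp; ring, by rw [hx, hd]; field_simp; ring⟩
    rw [hg'.1, hg'.2] at c2 c3
    have f2 : g.1 0 1 * a = d * b := mul_left_cancel₀ h2' (by linear_combination -c2)
    have f3 : g.1 1 0 * a = d * c := mul_left_cancel₀ h2' (by linear_combination -c3)
    set y := -(2 * d * a + g.1 0 1 * c + g.1 1 0 * b) / 2 with hy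
    have hya : y * a = d := by
      rw [hy]; field_simp
      linear_combination (-c) * f2 + (-b) * f3 + (-2 * d) * hq
    have hyb : y * b = g.1 0 1 := by
      rw [hy]; field_simp
      linear_combination (2 * a) * f2 + b * c1 + (-2 * g.1 0 1) * hq
    have hyc : y * c = g.1 1 0 := by
      rw [hy]; field_simp
      linear_combination (2 * a) * f3 + (-c) * c1 + (-2 * g.1 1 0) * hq
    have hmem : (x, y) ∈ A := by
      refine Finset.mem_filter.2 ⟨Finset.mem_univ _, ?_⟩
      have hdg := det_entries g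
      rw [hg'.1, hg'.2, ← hya, ← hyb, ← hyc] at hdg
      linear_combination hdg + y * y * hq
    refine ⟨⟨(x, y), hmem⟩, Subtype.ext (Subtype.ext (ext2 ?_ ?_ ?_ ?_))⟩ <;>
      simp [f, hya, hyb, hyc, hg'.1, hg'.2]
  rw [← hcard, ← Nat.card_congr (Equiv.ofBijective f ⟨hinj, hsurj⟩), Nat.card_eq_finsetCard]

theorem factor_pair {q k m : ℕ} (hq : 3 ≤ q) (h : (k * q + 1) * m = q ^ 2 - 1) (hk : k ≠ 0)
    (hk2 : k * q + 1 ≠ q + 1) : False := by
  have hq2 : 1 ≤ q ^ 2 := Nat.one_le_pow _ _ (by omega)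
  have hz : ((k : ℤ) * q + 1) * m = (q : ℤ) ^ 2 - 1 := by
    have := congrArg (Nat.cast (R := ℤ)) h
    push_cast [Nat.cast_sub hq2] at this
    exact this
  obtain ⟨j, hj⟩ : (q : ℤ) ∣ (m : ℤ) + 1 := ⟨q - k * m, by linear_combination hz⟩
  have hk1 : (1 : ℤ) ≤ k := by exact_mod_cast Nat.one_le_iff_ne_zero.2 hk
  have hm0 : (1 : ℤ) ≤ m := by
    rcases Nat.eq_zero_or_pos m with hm | hm
    · exfalso
      rw [hm, mul_zero] at h
      have : 9 ≤ q ^ 2 := by nlinarith
      omega
    · exact_mod_cast hm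
  have hq0 : (q : ℤ) ≠ 0 := by omega
  have hmj : (m : ℤ) = q * j - 1 := by linarith
  rw [hmj] at hz hm0
  have e : (k : ℤ) * j * q + j - k = q := mul_left_cancel₀ hq0 (by linear_combination hz)
  have hj1 : 1 ≤ j := by
    by_contra hj'
    push Not at hj'
    nlinarith
  have hdvd : (q : ℤ) ∣ j - k := ⟨1 - k * j, by linarith⟩
  obtain ⟨t, ht⟩ := hdvd
  have e2 : (k : ℤ) * j = 1 - t := mul_left_cancel₀ hq0 (by linear_combination e - ht)
  rcases lt_trichotomy t 0 with h0 | h0 | h0
  · nlinarith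
  · subst h0
    have hk' : (k : ℤ) = 1 := by nlinarith
    have : k = 1 := by exact_mod_cast hk'
    subst this
    simp at hk2
  · nlinarith

/-- The number of Sylow subgroups of a group with the order of `SL(2, q)`. -/
theorem card_sylow_char {q : ℕ} [Fact q.Prime] (hq : 3 ≤ q) {X : Type*} [Group X] [Finite X]
    (hX : Nat.card X = q * (q ^ 2 - 1)) {u u' : X} (hu : u ^ q = 1) (hu' : u' ^ q = 1) (hne : u * u' ≠ u' * u) :
    Nat.card (Sylow q X) = q + 1 ∧ ∀ P : Sylow q X, Nat.card (P : Subgroup X) = q := by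
  have hq0 : 0 < q := by omega
  have hq2 : 1 ≤ q ^ 2 := Nat.one_le_pow _ _ hq0
  have hnd : ¬ q ∣ q ^ 2 - 1 := by
    intro hd
    have h2 : q ∣ q ^ 2 := dvd_pow_self q two_ne_zero
    have := Nat.dvd_sub h2 hd
    rw [Nat.sub_sub_self hq2, Nat.dvd_one] at this
    omega
  have hP : ∀ P : Sylow q X, Nat.card (P : Subgroup X) = q := fun P => by
    simpa using Cfsg.Lib.Small.card_sylow 1 (q ^ 2 - 1) (hX.trans (by rw [pow_one])) hnd P
  refine ⟨?_, hP⟩
  obtain ⟨P⟩ : Nonempty (Sylow q X) := inferInstance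
  have hd : Nat.card (Sylow q X) ∣ q ^ 2 - 1 := by
    have h1 := P.card_dvd_index
    have h2 := card_mul_index (P : Subgroup X)
    rw [hP, hX] at h2
    rwa [Nat.eq_of_mul_eq_mul_left hq0 h2] at h1
  have hne1 : Nat.card (Sylow q X) ≠ 1 := fun h => by
    haveI := (Nat.card_eq_one_iff_unique.1 h).1
    have hin : ∀ x : X, x ^ q = 1 → x ∈ (P : Subgroup X) := fun x hx => by
      have hp : IsPGroup q (zpowers x) := by
        obtain ⟨i, -, hi⟩ := (Nat.dvd_prime_pow (Fact.out : q.Prime)).1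
          (show orderOf x ∣ q ^ 1 by rw [pow_one]; exact orderOf_dvd_of_pow_eq_one hx)
        exact IsPGroup.of_card (n := i) (by rw [Nat.card_zpowers, hi])
      obtain ⟨R, hR⟩ := hp.exists_le_sylow
      rw [Subsingleton.elim P R]
      exact hR (mem_zpowers x)
    haveI : IsCyclic (P : Subgroup X) := isCyclic_of_prime_card (hP P)
    letI : CommGroup (P : Subgroup X) := IsCyclic.commGroup
    exact hne (congrArg Subtype.val (mul_comm (⟨u, hin u hu⟩ : (P : Subgroup X)) ⟨u', hin u' hu'⟩))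
  have hm := card_sylow_modEq_one q X
  obtain ⟨m, hm'⟩ := hd
  rw [Nat.ModEq, Nat.mod_eq_of_lt (show 1 < q by omega)] at hm
  set N := Nat.card (Sylow q X)
  obtain ⟨k, hk⟩ : ∃ k, N = k * q + 1 := ⟨N / q, by
    have := Nat.div_add_mod N q
    rw [hm, mul_comm] at this
    exact this.symm⟩
  by_contra hne2
  refine factor_pair hq (k := k) (m := m) (by rw [← hk, hm']) ?_ (by rw [← hk]; exact hne2)
  rintro rfl
  exact hne1 (by rw [hk]; ring)

end Cfsg.Lib.LenSeven.SLTwo
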