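import Cfsg.Agent.Lib.LenSeven.QDSetup
import Cfsg.Agent.Lib.LenSeven.SLTwo
import Cfsg.Agent.Lib.LenSeven.PSLChain

/-!
# A quasi-dihedral Sylow subgroup of order 16 and `q ≥ 5`: the centralizer of the involution
-/

set_option autoImplicit false
set_option linter.style.haveILetI false
set_option linter.unusedSectionVars false

namespace Cfsg.Lib.LenSeven

open Cfsg Subgroup LenEight OrderSDW TwoGroup
open scoped MatrixGroups

universe u

variable {G : Type u} [Group G] [Fintype G] [Fact (Nat.Prime 2)] [IsSimpleGroup G]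
variable {S : Sylow 2 G} {z : G} {F : Type} [Field F] [Fintype F]

/-- The order of a Sylow subgroup counted by subgroups of the group. -/
theorem card_sylow_eq_subgroups {q : ℕ} [Fact q.Prime] (H : Subgroup G)
    (h : ∀ P : Sylow q H, Nat.card (P : Subgroup H) = q) :
    Nat.card (Sylow q H) = Nat.card {Q : Subgroup G // Q ≤ H ∧ Nat.card Q = q} := by
  classical
  refine Nat.card_congr (Equiv.ofBijective
    (fun P : Sylow q H => (⟨(P : Subgroup H).map H.subtype, map_subtype_le _,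
      by rw [card_map_of_injective H.subtype_injective, h P]⟩ : {Q : Subgroup G // Q ≤ H ∧ Nat.card Q = q})) ⟨?_, ?_⟩)
  · intro P P' e
    exact Sylow.ext (map_injective H.subtype_injective (congrArg Subtype.val e))
  · rintro ⟨Q, hQ, hQc⟩
    have hc : Nat.card (Q.subgroupOf H) = q := by
      rw [Nat.card_congr (subgroupOfEquivOfLe hQ).toEquiv, hQc]
    obtain ⟨R, hR⟩ := (IsPGroup.of_card (n := 1) (by rw [hc, pow_one]) : IsPGroup q (Q.subgroupOf H)).exists_le_sylow
    refine ⟨R, Subtype.ext ?_⟩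
    show (R : Subgroup H).map H.subtype = Q
    rw [← eq_of_le_of_card_ge hR (by rw [h R, hc]), map_subgroupOf_eq_of_le hQ]

/-- A normal subgroup of index two isomorphic to `SL(2, q)` containing the elements of order four. -/
structure LocN (z : G) (F : Type) [Field F] [Fintype F] (N : Subgroup G) : Prop where
  le : N ≤ Cen z
  normal : ∀ g ∈ Cen z, ∀ n ∈ N, g * n * g⁻¹ ∈ N
  card : 2 * Nat.card N = Nat.card (Cen z)
  sl : Nonempty (N ≃* SL(2, F))
  mem : z ∈ N
  four : ∀ i ∈ Cen z, orderOf i = 4 → i ∈ N ∧ i * i = z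

theorem mem_cen_self (z : G) : z ∈ Cen z := mem_centralizer_singleton_iff.2 rfl

theorem five_shape (D : QD16 S z F) (h5 : 5 ≤ Fintype.card F) :
    oddCore ↥(Cen z) = ⊥ ∧ Nat.card (Cen z) = 2 * (Fintype.card F * (Fintype.card F ^ 2 - 1)) ∧
      IsCoatom (Cen z) ∧
      LenLe (⊤ : Subgroup (Matrix.ProjectiveSpecialLinearGroup (Fin 2) F)) 4 := by
  rcases D.shape with ⟨h3, -⟩ | ⟨-, hO, hC, hco, hl⟩
  · omega
  · exact ⟨card_eq_one.1 hO, hC, hco, hl⟩

theorem prime_five (D : QD16 S z F) (h5 : 5 ≤ Fintype.card F) : (Fintype.card F).Prime := by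
  classical
  rcases h5.lt_or_eq with h | h
  · exact (psl_len_four D.odd h (five_shape D h5).2.2.2).1
  · rw [← h]; norm_num

theorem charP_five (D : QD16 S z F) (h5 : 5 ≤ Fintype.card F) : CharP F (Fintype.card F) :=
  haveI := Fact.mk (prime_five D h5); charP_of_card_eq_prime rfl

theorem exists_locN (hna : ¬ IsMulCommutative G) (D : QD16 S z F) (h5 : 5 ≤ Fintype.card F) :
    ∃ N, LocN z F N := by
  classical
  obtain ⟨hO, hC, -, -⟩ := five_shape D h5
  obtain ⟨N₀, hN₀, ⟨e₀⟩⟩ := D.sl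
  haveI := hN₀
  set π := QuotientGroup.mk' (oddCore ↥(Cen z)) with hπ
  have hinj : Function.Injective π := by
    rw [← MonoidHom.ker_eq_bot_iff, hπ, QuotientGroup.ker_mk', hO]
  let eπ := MulEquiv.ofBijective π ⟨hinj, QuotientGroup.mk'_surjective _⟩
  set N₁ : Subgroup ↥(Cen z) := N₀.map eπ.symm.toMonoidHom
  haveI : N₁.Normal := hN₀.map _ eπ.symm.surjective
  let e₁ : N₁ ≃* SL(2, F) :=
    (N₀.equivMapOfInjective eπ.symm.toMonoidHom eπ.symm.injective).symm.trans e₀
  set N := N₁.map (Cen z).subtype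
  let e : N ≃* SL(2, F) := (N₁.equivMapOfInjective _ (Cen z).subtype_injective).symm.trans e₁
  have hle : N ≤ Cen z := map_subtype_le _
  have hnorm : ∀ g ∈ Cen z, ∀ n ∈ N, g * n * g⁻¹ ∈ N := by
    rintro g hg _ ⟨n, hn, rfl⟩
    exact ⟨_, Normal.conj_mem inferInstance n hn ⟨g, hg⟩, rfl⟩
  have hcard : Nat.card N = Fintype.card F * (Fintype.card F ^ 2 - 1) := by
    rw [Nat.card_congr e.toEquiv, Cfsg.Lib.Linear.Two.card_SL_two]
  obtain ⟨m, ⟨d⟩⟩ := exists_sd D.quasi
  have hzd : z = (d.z : G) := by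
    have hzc : (⟨z, D.hzS⟩ : (S : Subgroup G)) ∈ center ↥(S : Subgroup G) :=
      mem_center_iff.2 fun s => Subtype.ext (D.hzc s s.2)
    rw [d.center_eq, mem_zpowers_iff] at hzc
    obtain ⟨k, hk⟩ := hzc
    have hk' := congrArg Subtype.val hk
    rcases Int.even_or_odd' k with ⟨r, rfl | rfl⟩
    · rw [zpow_mul, zpow_two, Cfsg.Lib.Invol.inv_mul_self d.orderOf_z, one_zpow] at hk'
      exact absurd hk'.symm (Cfsg.Lib.Invol.ne_one D.hz)
    · rw [zpow_add, zpow_mul, zpow_two, Cfsg.Lib.Invol.inv_mul_self d.orderOf_z, one_zpow, one_mul,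
        zpow_one] at hk'
      exact hk'.symm
  -- squares of elements of order four
  have hsq : ∀ i ∈ Cen z, orderOf i = 4 → i * i = z := by
    intro i hi h4
    obtain ⟨v, hv, hv4⟩ := QDFusion.conj_into_sylow (sylC S D.hzc) (k := 2)
      (u := (⟨i, hi⟩ : ↥(Cen z))) (by rw [Subgroup.orderOf_mk]; exact h4)
    obtain ⟨c, hc⟩ := isConj_iff.1 hv
    have hvS : ((v : ↥(Cen z)) : G) ∈ (S : Subgroup G) := mem_subgroupOf.1 v.2
    set w : (S : Subgroup G) := ⟨_, hvS⟩
    have hw : orderOf w = 4 := by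
      rw [Subgroup.orderOf_mk, Subgroup.orderOf_coe, Subgroup.orderOf_coe, hv4]
      norm_num
    have hww : w * w = d.z := by
      rcases d.order_four_cases hw with h | h | ⟨r, h⟩ <;> rw [h]
      · rw [← zpow_add, SD.z]
        exact congrArg _ (by ring)
      · rw [← zpow_add, SD.z, d.zx]
        exact ⟨-1, by ring⟩
      · exact d.sq_odd r
    have hc' : (c : G) * i * (c : G)⁻¹ = w := congrArg Subtype.val hc
    have hcz : (c : G) * z = z * c := mem_centralizer_singleton_iff.1 c.2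
    have h2 : ((w : G) * w) = z := by rw [hzd]; exact congrArg Subtype.val hww
    rw [← hc'] at h2
    calc i * i = (c : G)⁻¹ * ((c : G) * i * (c : G)⁻¹ * ((c : G) * i * (c : G)⁻¹)) * c := by group
      _ = (c : G)⁻¹ * (z * c) := by rw [h2]; group
      _ = z := by rw [← hcz]; group
  have h2ne : (2 : F) ≠ 0 := two_ne_zero_of_odd D.odd
  obtain ⟨j₀, hj₀⟩ := SLTwo.exists_four h2ne
  set j : G := ((e.symm j₀ : N) : G)
  have hj : orderOf j = 4 := by rw [Subgroup.orderOf_coe, MulEquiv.orderOf_eq, hj₀]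
  have hjj : j * j = z := hsq j (hle (e.symm j₀).2) hj
  have hzN : z ∈ N := hjj ▸ mul_mem (e.symm j₀).2 (e.symm j₀).2
  have hone : ∀ u : G, orderOf u = 4 → IsConj u ((d.x * d.y : ↥(S : Subgroup G)) : G) := fun u hu =>
    (QDFusion.four_classes S d u hu).elim (fun h => h.trans (sd_isConj_four hna S d)) id
  refine ⟨N, hle, hnorm, ?_, ⟨e⟩, hzN, fun i hi h4 => ⟨?_, hsq i hi h4⟩⟩
  · rw [hcard, hC]
  obtain ⟨g, hg⟩ := isConj_iff.1 ((hone i h4).trans (hone j hj).symm)
  have hgz : g * z * g⁻¹ = z := by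
    calc g * z * g⁻¹ = g * (i * i) * g⁻¹ := by rw [hsq i hi h4]
      _ = (g * i * g⁻¹) * (g * i * g⁻¹) := by group
      _ = z := by rw [hg, hjj]
  have hgC : g⁻¹ ∈ Cen z := inv_mem (mem_centralizer_singleton_iff.2 (mul_inv_eq_iff_eq_mul.1 hgz))
  have := hnorm _ hgC j (e.symm j₀).2
  rwa [← hg, show g⁻¹ * (g * i * g⁻¹) * g⁻¹⁻¹ = i by group] at this

/-- The centralizer of a further involution. -/
theorem card_inf_cen (D : QD16 S z F) (h5 : 5 ≤ Fintype.card F) :
    ∃ (ε : ℤ) (c : ℕ), (ε = 1 ∨ ε = -1) ∧ (4 : ℤ) ∣ (Fintype.card F : ℤ) - ε ∧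
      (c : ℤ) = 2 * ((Fintype.card F : ℤ) + ε) ∧
      Eqs ε (Fintype.card F) (Nat.card G) (Nat.card (Cen z)) c ∧
      ∀ i ∈ Cen z, orderOf i = 2 → i ≠ z → Nat.card ↥(Cen z ⊓ Cen i) = c := by
  obtain ⟨ε, c, kc, hε, h4, hcen, hE, hkc, hsize, -⟩ := D.equations
  obtain ⟨hO, hC, -, -⟩ := five_shape D h5
  refine ⟨ε, c, hε, h4, ?_, hE, hcen⟩
  rw [hO, card_bot, Nat.dvd_one] at hkc
  have hq2 : 1 ≤ Fintype.card F ^ 2 := Nat.one_le_pow _ _ (by omega)
  rw [hC, hO, card_bot, hkc] at hsize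
  push_cast [Nat.cast_sub hq2] at hsize
  have hne : (Fintype.card F : ℤ) * ((Fintype.card F : ℤ) - ε) ≠ 0 :=
    mul_ne_zero (by omega) (by rcases hε with rfl | rfl <;> omega)
  refine mul_right_cancel₀ hne ?_
  rcases hε with rfl | rfl <;> linear_combination -hsize

section Local

variable {N : Subgroup G} (L : LocN z F N) {q : ℕ} [Fact q.Prime] (hq : Fintype.card F = q) (hq3 : 3 ≤ q)

include L hq in
theorem LocN.card_eq : Nat.card N = q * (q ^ 2 - 1) := by
  classical
  obtain ⟨e⟩ := L.sl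
  rw [Nat.card_congr e.toEquiv, Cfsg.Lib.Linear.Two.card_SL_two, hq]

include L hq in
theorem LocN.card_cen : Nat.card (Cen z) = 2 * (q * (q ^ 2 - 1)) := by
  rw [← L.card, L.card_eq hq]

include L in
theorem LocN.sq_mem {g : G} (hg : g ∈ Cen z) : g * g ∈ N := by
  have hN : (N.subgroupOf (Cen z)).index = 2 := by
    have h := card_mul_index (N.subgroupOf (Cen z))
    rw [Nat.card_congr (subgroupOfEquivOfLe L.le).toEquiv, ← L.card, mul_comm 2] at h
    exact Nat.eq_of_mul_eq_mul_left Nat.card_pos h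
  exact mem_subgroupOf.1 (mul_self_mem_of_index_two hN (⟨g, hg⟩ : ↥(Cen z)))

include L in
theorem LocN.mem_of_odd_pow {g : G} (hg : g ∈ Cen z) {n : ℕ} (hn : Odd n) (h : g ^ n ∈ N) : g ∈ N := by
  obtain ⟨k, rfl⟩ := hn
  have h2 : g ^ (2 * k) ∈ N := by rw [pow_mul, pow_two]; exact pow_mem (L.sq_mem hg) k
  rwa [pow_succ, mul_mem_cancel_left h2] at h

include hq hq3 in
/-- The subgroups of order `q` lie in `N`. -/
theorem LocN.le_of_card (L : LocN z F N) {P : Subgroup G} (hP : P ≤ Cen z) (hPc : Nat.card P = q) : P ≤ N := by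
  intro x hx
  refine L.mem_of_odd_pow (hP hx) ((Fact.out : q.Prime).odd_of_ne_two (by omega)) ?_
  have : x ^ q = 1 := by
    rw [← hPc]
    exact congrArg Subtype.val (pow_card_eq_one' (x := (⟨x, hx⟩ : P)))
  rw [this]
  exact one_mem _

include L hq hq3 in
theorem LocN.sylow_N : Nat.card (Sylow q N) = q + 1 ∧ ∀ P : Sylow q N, Nat.card (P : Subgroup N) = q := by
  classical
  obtain ⟨e⟩ := L.sl
  haveI : CharP F q := charP_of_card_eq_prime hq
  refine SLTwo.card_sylow_char hq3 (L.card_eq hq) (u := e.symm (Cfsg.Lib.Linear.Dickson.tU 1))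
    (u' := e.symm (Cfsg.Lib.Linear.Dickson.tL 1)) ?_ ?_ ?_
  · rw [← map_pow, Cfsg.Lib.Linear.Dickson.tU_pow, CharP.cast_eq_zero, zero_mul,
      Cfsg.Lib.Linear.Dickson.tU_zero, map_one]
  · rw [← map_pow, Cfsg.Lib.Linear.Dickson.tL_pow, CharP.cast_eq_zero, zero_mul,
      Cfsg.Lib.Linear.Dickson.tL_zero, map_one]
  · intro h
    rw [← map_mul, ← map_mul] at h
    have h' := congrArg (fun m : SL(2, F) => m 0 0) (e.symm.injective h)
    simp [Cfsg.Lib.Linear.Dickson.mul_apply', Cfsg.Lib.Linear.Dickson.tU_coe,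
      Cfsg.Lib.Linear.Dickson.tL_coe] at h'

include hq3 in
theorem not_sq_dvd {m : ℕ} (hm : m = 2 * (q ^ 2 - 1) ∨ m = q ^ 2 - 1) : ¬ q ∣ m := by
  intro h
  have hq2 : 1 ≤ q ^ 2 := Nat.one_le_pow _ _ (by omega)
  have h' : q ∣ q ^ 2 - 1 := by
    rcases hm with rfl | rfl
    · refine (Nat.Coprime.dvd_mul_left ?_).1 h
      exact (Nat.coprime_primes (Fact.out : q.Prime) Nat.prime_two).2 (by omega)
    · exact h
  have := Nat.dvd_sub (dvd_pow_self q two_ne_zero) h'
  rw [Nat.sub_sub_self hq2, Nat.dvd_one] at this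
  omega

include L hq hq3 in
theorem LocN.card_sylow_cen (P : Sylow q ↥(Cen z)) : Nat.card (P : Subgroup ↥(Cen z)) = q := by
  simpa using Cfsg.Lib.Small.card_sylow 1 (2 * (q ^ 2 - 1))
    (by rw [L.card_cen hq, pow_one]; ring) (not_sq_dvd hq3 (Or.inl rfl)) P

include L hq hq3 in
theorem LocN.sylow_cen : Nat.card (Sylow q ↥(Cen z)) = q + 1 := by
  obtain ⟨h1, h2⟩ := L.sylow_N hq hq3
  rw [card_sylow_eq_subgroups _ (L.card_sylow_cen hq hq3), ← h1, card_sylow_eq_subgroups N h2]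
  refine Nat.card_congr (Equiv.subtypeEquivRight fun Q => ⟨fun h => ⟨L.le_of_card hq hq3 h.1 h.2, h.2⟩,
    fun h => ⟨h.1.trans L.le, h.2⟩⟩)

include L hq hq3 in
/-- The normalizer in the centralizer of a subgroup of order `q`. -/
theorem LocN.card_normalizer {P : Subgroup G} (hP : P ≤ Cen z) (hPc : Nat.card P = q) :
    Nat.card ↥(Cen z ⊓ normalizer (P : Set G)) = 2 * (q * (q - 1)) := by
  have hc : Nat.card (P.subgroupOf (Cen z)) = q := by
    rw [Nat.card_congr (subgroupOfEquivOfLe hP).toEquiv, hPc]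
  obtain ⟨R, hR⟩ := (IsPGroup.of_card (n := 1) (by rw [hc, pow_one]) :
    IsPGroup q (P.subgroupOf (Cen z))).exists_le_sylow
  have hRe : (R : Subgroup ↥(Cen z)) = P.subgroupOf (Cen z) :=
    (eq_of_le_of_card_ge hR (by rw [L.card_sylow_cen hq hq3, hc])).symm
  have h := card_mul_index (normalizer ((R : Subgroup ↥(Cen z)) : Set ↥(Cen z)))
  have hn : (normalizer ((R : Subgroup ↥(Cen z)) : Set ↥(Cen z))).index = Nat.card (Sylow q ↥(Cen z)) :=
    R.card_eq_index_normalizer.symm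
  rw [hn, L.sylow_cen hq hq3, L.card_cen hq, hRe,
    ← subgroupOf_normalizer_eq hP] at h
  have e : (normalizer (P : Set G)).subgroupOf (Cen z) = (Cen z ⊓ normalizer (P : Set G)).subgroupOf (Cen z) := by
    rw [inf_subgroupOf_left]
  rw [e, Nat.card_congr (subgroupOfEquivOfLe inf_le_left).toEquiv] at h
  refine Nat.eq_of_mul_eq_mul_right (show 0 < q + 1 by omega) (h.trans ?_)
  obtain ⟨k, rfl⟩ : ∃ k, q = k + 1 := ⟨q - 1, by omega⟩
  rw [Nat.add_sub_cancel, show (k + 1) ^ 2 - 1 = k * (k + 2) from Nat.sub_eq_of_eq_add (by ring)]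
  ring

include L hq hq3 in
/-- A `q`-element of the centralizer centralizing a subgroup of order `q` lies in it. -/
theorem LocN.mem_of_pow {P : Subgroup G} (hP : P ≤ Cen z) (hPc : Nat.card P = q) {x : G} (hx : x ∈ Cen z)
    (hxP : x ∈ centralizer (P : Set G)) (hxq : x ^ q = 1) : x ∈ P := by
  set P' := P.subgroupOf (Cen z)
  set x' : ↥(Cen z) := ⟨x, hx⟩
  have hc : Nat.card P' = q := by
    rw [Nat.card_congr (subgroupOfEquivOfLe hP).toEquiv, hPc]
  have hx' : x' ∈ normalizer (P' : Set ↥(Cen z)) := by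
    have : x' ∈ centralizer (P' : Set ↥(Cen z)) := mem_centralizer_iff.2 fun y hy =>
      Subtype.ext (mem_centralizer_iff.1 hxP y hy)
    exact centralizer_le_normalizer _ this
  have hX : IsPGroup q (zpowers x') := fun ⟨w, hw⟩ => ⟨1, by
    obtain ⟨k, rfl⟩ := mem_zpowers_iff.1 hw
    refine Subtype.ext ?_
    show (x' ^ k) ^ q ^ 1 = 1
    rw [pow_one, ← zpow_natCast, ← zpow_mul, mul_comm, zpow_mul, zpow_natCast,
      show x' ^ q = 1 from Subtype.ext hxq, one_zpow]⟩
  obtain ⟨R, hR⟩ := (hX.to_sup_of_normal_right'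
    (IsPGroup.of_card (n := 1) (by rw [hc, pow_one]) : IsPGroup q P') (zpowers_le.2 hx')).exists_le_sylow
  have hRe : P' = (R : Subgroup ↥(Cen z)) :=
    eq_of_le_of_card_ge (le_sup_right.trans hR) (by rw [L.card_sylow_cen hq hq3, hc])
  have : x' ∈ P' := hRe ▸ hR (mem_sup_left (mem_zpowers x'))
  exact mem_subgroupOf.1 this

include L hq hq3 in
/-- The centralizer in the centralizer of a generator of order `q`. -/
theorem LocN.centralizer_inf (D : QD16 S z F) {c : ℕ}
    (hcen : ∀ i ∈ Cen z, orderOf i = 2 → i ≠ z → Nat.card ↥(Cen z ⊓ Cen i) = c) (hcq : ¬ q ∣ c)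
    {u : G} (hu : u ∈ Cen z) (huq : orderOf u = q) :
    orderOf (u * z) = 2 * q ∧ Cen z ⊓ centralizer ((zpowers u : Subgroup G) : Set G) = zpowers (u * z) := by
  classical
  have hqodd : Odd q := (Fact.out : q.Prime).odd_of_ne_two (by omega)
  have hcomm : Commute u z := mem_centralizer_singleton_iff.1 hu
  have hP : zpowers u ≤ Cen z := zpowers_le.2 hu
  have hPc : Nat.card (zpowers u) = q := by rw [Nat.card_zpowers, huq]
  have hzz : z * z = 1 := Cfsg.Lib.Invol.inv_mul_self D.hz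
  have ho : orderOf (u * z) = 2 * q := by
    rw [hcomm.orderOf_mul_eq_mul_orderOf_of_coprime (by rw [huq, D.hz]; exact Nat.coprime_two_right.2 hqodd),
      huq, D.hz, mul_comm]
  refine ⟨ho, ?_⟩
  have hzq : z ^ q = z := by
    obtain ⟨k, hk⟩ := hqodd
    rw [hk, pow_succ, pow_mul, pow_two, hzz, one_pow, one_mul]
  have hu1 : u ∈ zpowers (u * z) := by
    have h1 : (u * z) ^ (q + 1) = u := by
      rw [hcomm.mul_pow, pow_succ u, pow_succ z, hzq, hzz, ← huq, pow_orderOf_eq_one, one_mul, mul_one]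
    have h2 : (u * z) ^ (q + 1) ∈ zpowers (u * z) := pow_mem (mem_zpowers (u * z)) _
    exact (congrArg (fun w => w ∈ zpowers (u * z)) h1).mp h2
  have hz1 : z ∈ zpowers (u * z) := by
    have h1 : (u * z) ^ q = z := by rw [hcomm.mul_pow, hzq, ← huq, pow_orderOf_eq_one, one_mul]
    have h2 : (u * z) ^ q ∈ zpowers (u * z) := pow_mem (mem_zpowers (u * z)) _
    exact (congrArg (fun w => w ∈ zpowers (u * z)) h1).mp h2
  apply le_antisymm
  swap
  · rw [zpowers_le]
    refine ⟨mul_mem hu (mem_cen_self z), mem_centralizer_iff.2 fun y hy => ?_⟩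
    obtain ⟨k, rfl⟩ := mem_zpowers_iff.1 hy
    exact (((Commute.refl u).mul_right hcomm).zpow_left k).eq
  rintro g ⟨hgC, hgP⟩
  have hgu : Commute u g := mem_centralizer_iff.1 hgP u (mem_zpowers u)
  -- the elements of `N`
  have hinN : ∀ x ∈ N, Commute u x → x ^ (2 * q) = 1 := by
    intro x hx hxu
    obtain ⟨e⟩ := L.sl
    haveI : CharP F q := charP_of_card_eq_prime hq
    have huN : u ∈ N := L.le_of_card hq hq3 hP hPc (mem_zpowers u)
    have hu' : (⟨u, huN⟩ : N) ^ q = 1 := Subtype.ext (by rw [← huq]; exact pow_orderOf_eq_one u)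
    have := SLTwo.commute_unipotent (p := q) (by omega) (u := e ⟨u, huN⟩) (v := e ⟨x, hx⟩)
      (by rw [← map_pow, hu', map_one])
      (fun h => by
        have h1 : u = 1 := congrArg Subtype.val (e.map_eq_one_iff.1 h)
        rw [h1, orderOf_one] at huq
        omega)
      (Commute.map (show Commute (⟨u, huN⟩ : N) ⟨x, hx⟩ from Subtype.ext hxu) e)
    rw [← map_pow, e.map_eq_one_iff] at this
    exact congrArg Subtype.val this
  have hgN : g ∈ N := by
    by_contra hgN
    set y := g ^ q with hy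
    have hyN : y ∉ N := fun h => hgN (L.mem_of_odd_pow hgC hqodd h)
    have hy4 : y ^ 4 = 1 := by
      rw [hy, ← pow_mul, show q * 4 = 2 * (2 * q) by ring, pow_mul]
      exact hinN _ (by rw [pow_two]; exact L.sq_mem hgC) (hgu.pow_right 2)
    have hyC : y ∈ Cen z := pow_mem hgC _
    have hyu : Commute u y := hgu.pow_right q
    obtain ⟨i, hi, hio⟩ := (Nat.dvd_prime_pow Nat.prime_two).1
      (show orderOf y ∣ 2 ^ 2 from orderOf_dvd_of_pow_eq_one hy4)
    interval_cases i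
    · exact hyN (by rw [show y = 1 from orderOf_eq_one_iff.1 (by simpa using hio)]; exact one_mem _)
    · have hyz : y ≠ z := fun h => hyN (h ▸ L.mem)
      have h2 := hcen y hyC (by simpa using hio) hyz
      refine hcq (h2 ▸ huq ▸ ?_)
      rw [← Subgroup.orderOf_mk u (show u ∈ Cen z ⊓ Cen y from ⟨hu, mem_centralizer_singleton_iff.2 hyu⟩)]
      exact orderOf_dvd_natCard _
    · exact hyN (L.four y hyC (by rw [hio]; norm_num)).1
  -- the involutions of `N`
  have hg2 := hinN g hgN hgu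
  have hgq : g ^ q = 1 ∨ g ^ q = z := by
    obtain ⟨e⟩ := L.sl
    have h2 : (2 : F) ≠ 0 := two_ne_zero_of_odd D.odd
    have hinv : ∀ (x : G) (hx : x ∈ N), x * x = 1 → x = 1 ∨ e ⟨x, hx⟩ = e ⟨z, L.mem⟩ := by
      intro x hx hxx
      have hz' : (e ⟨z, L.mem⟩).1 = -1 := by
        rcases SLTwo.eq_or_eq_neg h2 (x := e ⟨z, L.mem⟩)
          (by rw [← map_mul, ← map_one e]; exact congrArg e (Subtype.ext hzz)) with h | h
        · exact absurd (congrArg Subtype.val (e.map_eq_one_iff.1 h)) (Cfsg.Lib.Invol.ne_one D.hz)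
        · exact h
      rcases SLTwo.eq_or_eq_neg h2 (x := e ⟨x, hx⟩)
          (by rw [← map_mul, ← map_one e]; exact congrArg e (Subtype.ext hxx)) with h | h
      · exact Or.inl (congrArg Subtype.val (e.map_eq_one_iff.1 h))
      · exact Or.inr (Subtype.ext (h.trans hz'.symm))
    rcases hinv (g ^ q) (pow_mem hgN q) (by rw [← pow_two, ← pow_mul, mul_comm]; exact hg2) with h | h
    · exact Or.inl h
    · exact Or.inr (congrArg Subtype.val (e.injective h))
  have hgz : Commute g z := mem_centralizer_singleton_iff.1 hgC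
  rcases hgq with h | h
  · exact zpowers_le.2 hu1 (L.mem_of_pow hq hq3 hP hPc hgC hgP h)
  · have h1 : g * z ∈ zpowers u := by
      refine L.mem_of_pow hq hq3 hP hPc (mul_mem hgC (mem_cen_self z)) (mul_mem hgP ?_)
        (by rw [hgz.mul_pow, h, hzq, hzz])
      refine mem_centralizer_iff.2 fun y hy => ?_
      obtain ⟨k, rfl⟩ := mem_zpowers_iff.1 hy
      exact (hcomm.zpow_left k).eq
    have h2 := mul_mem (zpowers_le.2 hu1 h1) hz1
    rwa [mul_assoc, hzz, mul_one] at h2

end Local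

end Cfsg.Lib.LenSeven
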