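import Cfsg.Agent.Lib.LenSeven.QDSquareQ

/-!
# A quasi-dihedral Sylow subgroup: `s ^ 2` does not divide the order, `q - ε = 4 s`
-/

set_option autoImplicit false
set_option linter.style.haveILetI false
set_option linter.unusedSectionVars false

namespace Cfsg.Lib.LenSeven

open Cfsg Subgroup LenEight OrderSDW TwoGroup ArithmeticFunction
open scoped MatrixGroups

universe u

variable {G : Type u} [Group G] [Fintype G] [Fact (Nat.Prime 2)] [IsSimpleGroup G]
variable {S : Sylow 2 G} {z : G} {F : Type} [Field F] [Fintype F] {N : Subgroup G}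

/-- Conjugation by a fixed element preserves a subgroup defined by commuting with a conjugated element. -/
theorem commute_conj {w i x : G} (h : Commute i x) : Commute (w * i * w⁻¹) (w * x * w⁻¹) := by
  show w * i * w⁻¹ * (w * x * w⁻¹) = w * x * w⁻¹ * (w * i * w⁻¹)
  calc w * i * w⁻¹ * (w * x * w⁻¹) = w * (i * x) * w⁻¹ := by group
    _ = w * (x * i) * w⁻¹ := by rw [h.eq]
    _ = _ := by group

theorem sq_not_dvd_s (hna : ¬ IsMulCommutative G) (hlen : LenLe (⊤ : Subgroup G) 7) (D : QD16 S z F)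
    (L : LocN z F N) {q s : ℕ} [Fact q.Prime] [hs : Fact s.Prime] (hq : Fintype.card F = q) (hq3 : 3 ≤ q)
    {ε : ℤ} (hε : ε = 1 ∨ ε = -1) (h4 : (4 : ℤ) ∣ (q : ℤ) - ε) (hqs : (q : ℤ) - ε = 4 * s) (hs2 : s ≠ 2)
    {c : ℕ} (hc : (c : ℤ) = 2 * ((q : ℤ) + ε))
    (hcen : ∀ i ∈ Cen z, orderOf i = 2 → i ≠ z → Nat.card ↥(Cen z ⊓ Cen i) = c) :
    ¬ s ^ 2 ∣ Nat.card G := by
  classical
  intro h2
  have hsp := hs.out
  have hsodd : Odd s := hsp.odd_of_ne_two hs2
  have hzz : z * z = 1 := Cfsg.Lib.Invol.inv_mul_self D.hz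
  have hqodd : Odd q := hq ▸ D.odd
  -- `s` and the numbers
  have hsq : ¬ s ∣ q := fun h => by
    have e := (Nat.prime_dvd_prime_iff_eq hsp (Fact.out : q.Prime)).1 h
    subst e
    rcases hε with rfl | rfl <;> omega
  have hse : ¬ (s : ℤ) ∣ 2 * ((q : ℤ) + ε) := fun h => by
    have h1 : (s : ℤ) ∣ 2 * ((q : ℤ) - ε) := ⟨8, by rw [hqs]; ring⟩
    have h2 := dvd_sub h h1
    rw [show 2 * ((q : ℤ) + ε) - 2 * ((q : ℤ) - ε) = 4 * ε by ring] at h2
    have h3 : (s : ℤ) ∣ 4 := by
      have := h2.mul_right ε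
      rcases hε with rfl | rfl <;> simpa using this
    have h4 : s ∣ 2 ^ 2 := by exact_mod_cast h3
    exact hs2 ((Nat.prime_dvd_prime_iff_eq hsp Nat.prime_two).1 (hsp.dvd_of_dvd_pow h4))
  have hsc : ¬ s ∣ c := fun h => hse (hc ▸ Int.natCast_dvd_natCast.2 h)
  have hsC : ¬ s ^ 2 ∣ Nat.card (Cen z) := by
    intro h
    rw [L.card_cen hq] at h
    have h' : ((s : ℤ) ^ 2) ∣ (q : ℤ) * ((q : ℤ) + ε) * 2 * (4 * s) := by
      have hq2 : 1 ≤ q ^ 2 := Nat.one_le_pow _ _ (by omega)
      have := Int.natCast_dvd_natCast.2 h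
      push_cast [Nat.cast_sub hq2] at this
      rw [← hqs]
      convert this using 1
      rcases hε with rfl | rfl <;> ring
    rw [show (q : ℤ) * ((q : ℤ) + ε) * 2 * (4 * s) = (s : ℤ) * (4 * ((q : ℤ) * (2 * ((q : ℤ) + ε)))) by ring,
      pow_two, mul_dvd_mul_iff_left (by exact_mod_cast hsp.ne_zero)] at h'
    have hsZ : Prime (s : ℤ) := Nat.prime_iff_prime_int.1 hsp
    rcases hsZ.dvd_or_dvd h' with h1 | h1
    · have h4 : s ∣ 2 ^ 2 := by exact_mod_cast h1
      exact hs2 ((Nat.prime_dvd_prime_iff_eq hsp Nat.prime_two).1 (hsp.dvd_of_dvd_pow h4))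
    rcases hsZ.dvd_or_dvd h1 with h1 | h1
    · exact hsq (Int.natCast_dvd_natCast.1 h1)
    · exact hse h1
  -- the element of order four in the Sylow subgroup
  obtain ⟨m, ⟨d⟩⟩ := exists_sd D.quasi
  obtain rfl : m = 3 := by
    have := d.card
    rw [D.card, show (16 : ℕ) = 2 ^ 4 by norm_num] at this
    have := Nat.pow_right_injective le_rfl this
    omega
  have hSC : (S : Subgroup G) ≤ Cen z := sylow_le_cen S D.hzc
  set i' : (S : Subgroup G) := d.x ^ (2 : ℤ) with hi'
  set i : G := (i' : G)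
  have hi4 : orderOf i = 4 := by
    rw [Subgroup.orderOf_coe, hi', d.orderOf_sq_x]
    norm_num
  have hiC : i ∈ Cen z := hSC i'.2
  obtain ⟨hiN, hii⟩ := L.four i hiC hi4
  have hP2 : SD.P 3 = 2 := rfl
  set y : G := (d.y : G)
  have hyi : y * i * y⁻¹ = i⁻¹ := by
    have h := d.conj_zpow 2
    rw [hP2] at h
    have h' : d.x ^ ((2 * 2 - 1) * 2 : ℤ) = (d.x ^ (2 : ℤ))⁻¹ := by
      rw [← zpow_neg, d.zx, hP2]; norm_num
    exact congrArg Subtype.val (h.trans h')
  have hconj : ∀ w ∈ (S : Subgroup G), w * i * w⁻¹ = i ∨ w * i * w⁻¹ = i⁻¹ := by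
    intro w hw
    obtain ⟨k, hk | hk⟩ := d.normal_form ⟨w, hw⟩
    · left
      have hcm : Commute (d.x ^ k) (d.x ^ (2 : ℤ)) := Commute.zpow_zpow_self d.x k 2
      rw [show w = ((d.x ^ k : (S : Subgroup G)) : G) from congrArg Subtype.val hk]
      exact congrArg Subtype.val (mul_inv_eq_iff_eq_mul.2 hcm.eq)
    · right
      have hcm : Commute (d.x ^ k) (d.x ^ (2 : ℤ)) := Commute.zpow_zpow_self d.x k 2
      rw [show w = ((d.x ^ k : (S : Subgroup G)) : G) * y from congrArg Subtype.val hk,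
        show ((d.x ^ k : (S : Subgroup G)) : G) * y * i * (((d.x ^ k : (S : Subgroup G)) : G) * y)⁻¹ =
          ((d.x ^ k : (S : Subgroup G)) : G) * (y * i * y⁻¹) * ((d.x ^ k : (S : Subgroup G)) : G)⁻¹ by group,
        hyi]
      exact congrArg Subtype.val (mul_inv_eq_iff_eq_mul.2 hcm.inv_right.eq)
  -- its centralizer in `N`
  set T₀ := N ⊓ centralizer ({i} : Set G) with hT₀
  obtain ⟨e⟩ := L.sl
  set j := e ⟨i, hiN⟩ with hj
  have hjo : orderOf j = 4 := by rw [hj, MulEquiv.orderOf_eq, Subgroup.orderOf_mk, hi4]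
  have hT₀c : Nat.card T₀ = 4 * s := by
    have h := SLTwo.card_centralizer_four (F := F) (j := j) (by
      intro hr
      have := FiniteField.even_card_of_char_two hr
      obtain ⟨k, hk⟩ := hqodd
      omega) hjo
    have hE : Nat.card T₀ = Nat.card (centralizer ({j} : Set SL(2, F))) := Nat.card_congr
      { toFun := fun x => ⟨e ⟨x.1, x.2.1⟩, mem_centralizer_singleton_iff.2 (by
          rw [hj, ← map_mul, ← map_mul]
          exact congrArg e (Subtype.ext (mem_centralizer_singleton_iff.1 x.2.2)))⟩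
        invFun := fun g => ⟨((e.symm g.1 : N) : G), (e.symm g.1).2, mem_centralizer_singleton_iff.2 (by
          have h1 := mem_centralizer_singleton_iff.1 g.2
          have h2 := congrArg (fun v : SL(2, F) => ((e.symm v : N) : G)) h1
          simpa [hj] using h2)⟩
        left_inv := fun x => Subtype.ext (by simp)
        right_inv := fun g => Subtype.ext (by simp) }
    rw [← hE, hq, quadraticChar_neg_one (by
      intro hr
      have := FiniteField.even_card_of_char_two hr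
      obtain ⟨k, hk⟩ := hqodd
      omega), hq] at h
    rcases hε with rfl | rfl
    · rw [ZMod.χ₄_nat_one_mod_four (by omega)] at h; omega
    · rw [ZMod.χ₄_nat_three_mod_four (by omega)] at h; omega
  -- `i` is not scalar
  have hnscal : ∀ x : SL(2, F), x ^ 2 ≠ 1 → ∀ r : F, x.1 ≠ r • (1 : Matrix (Fin 2) (Fin 2) F) := by
    intro x hx r hr
    have hd := SLTwo.det_entries x
    rw [hr] at hd
    simp at hd
    refine hx (Subtype.ext ?_)
    rw [Matrix.SpecialLinearGroup.coe_pow, hr, smul_pow, one_pow, pow_two, hd, one_smul,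
      Matrix.SpecialLinearGroup.coe_one]
  have hjns : j ^ 2 ≠ 1 := fun h => by
    have := orderOf_dvd_of_pow_eq_one h
    rw [hjo] at this
    norm_num at this
  have hT₀ab : ∀ x ∈ T₀, ∀ x' ∈ T₀, x * x' = x' * x := by
    intro x hx x' hx'
    have key : ∀ w (hw : w ∈ T₀), Commute j (e ⟨w, hw.1⟩) := fun w hw =>
      Commute.map (show Commute (⟨i, hiN⟩ : N) ⟨w, hw.1⟩ from
        Subtype.ext (mem_centralizer_singleton_iff.1 hw.2).symm) e
    have := SLTwo.commute_comm (hnscal j hjns) (key x hx) (key x' hx')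
    exact congrArg Subtype.val (e.injective (by rw [map_mul, map_mul]; exact this.eq) :
      (⟨x, hx.1⟩ : N) * ⟨x', hx'.1⟩ = ⟨x', hx'.1⟩ * ⟨x, hx.1⟩)
  letI : CommGroup T₀ :=
    { (inferInstance : Group T₀) with mul_comm := fun a b => Subtype.ext (hT₀ab a a.2 b b.2) }
  obtain ⟨A₀⟩ : Nonempty (Sylow s T₀) := inferInstance
  have hA₀c : Nat.card (A₀ : Subgroup T₀) = s :=
    (Cfsg.Lib.Small.card_sylow 1 4 (by rw [hT₀c, pow_one, mul_comm]) (fun h => hs2
      ((Nat.prime_dvd_prime_iff_eq hsp Nat.prime_two).1 (hsp.dvd_of_dvd_pow (show s ∣ 2 ^ 2 from h)))) A₀).trans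
      (pow_one s)
  haveI : (A₀ : Subgroup T₀).Normal := Subgroup.normal_of_comm _
  haveI := Sylow.unique_of_normal A₀ inferInstance
  set A : Subgroup G := (A₀ : Subgroup T₀).map T₀.subtype with hAdef
  have hAc : Nat.card A = s := by rw [card_map_of_injective T₀.subtype_injective, hA₀c]
  have hAT : A ≤ T₀ := map_subtype_le _
  have hAN : A ≤ N := hAT.trans inf_le_left
  have hAC : A ≤ Cen z := hAN.trans L.le
  have hAuniq : ∀ w ∈ T₀, w ^ s = 1 → w ∈ A := by
    intro w hw hws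
    obtain ⟨k, -, hk⟩ := (Nat.dvd_prime_pow hsp).1
      (show orderOf (⟨w, hw⟩ : T₀) ∣ s ^ 1 from
        orderOf_dvd_of_pow_eq_one (Subtype.ext (by rw [pow_one]; exact hws)))
    obtain ⟨R, hR⟩ := (IsPGroup.of_card (n := k) (by rw [Nat.card_zpowers, hk]) :
      IsPGroup s (zpowers (⟨w, hw⟩ : T₀))).exists_le_sylow
    exact ⟨⟨w, hw⟩, Subsingleton.elim R A₀ ▸ hR (mem_zpowers _), rfl⟩
  have hAs : ∀ a ∈ A, a ^ s = 1 := fun a ha => by
    rw [← hAc]
    exact congrArg Subtype.val (pow_card_eq_one' (x := (⟨a, ha⟩ : A)))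
  -- the Sylow subgroup normalizes `A`
  have hSA : (S : Subgroup G) ≤ normalizer (A : Set G) := fun w hw => mem_normalizer_fintype fun a ha => by
    refine hAuniq _ ⟨L.normal w (hSC hw) a (hAN ha), mem_centralizer_singleton_iff.2 ?_⟩ ?_
    · have hc : Commute i a := (mem_centralizer_singleton_iff.1 (hAT ha).2).symm
      have h1 := commute_conj (w := w) hc
      rcases hconj w hw with h | h <;> rw [h] at h1
      · exact h1.symm.eq
      · exact (Commute.inv_left_iff.1 h1).symm.eq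
    · rw [conj_pow, hAs a ha, mul_one, mul_inv_cancel]
  obtain ⟨a, haA, ha1⟩ := A.bot_or_exists_ne_one.resolve_left fun e1 => by
    rw [e1, card_bot] at hAc; exact hsp.one_lt.ne' hAc.symm
  have hao : orderOf a = s := ((Nat.dvd_prime hsp).1 (orderOf_dvd_of_pow_eq_one (hAs a haA))).resolve_left
    fun e1 => ha1 (orderOf_eq_one_iff.1 e1)
  set CA := centralizer (A : Set G) with hCA
  -- elements of `N` centralizing `A` centralize `i`
  have hNA : ∀ x ∈ N, x ∈ CA → Commute i x := by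
    intro x hx hxA
    have hans : (e ⟨a, hAN haA⟩) ^ 2 ≠ 1 := fun h => by
      rw [← map_pow, e.map_eq_one_iff] at h
      have := orderOf_dvd_of_pow_eq_one (congrArg Subtype.val h : a ^ 2 = 1)
      rw [hao] at this
      exact hs2 ((Nat.prime_dvd_prime_iff_eq hsp Nat.prime_two).1 this)
    have k1 : Commute (e ⟨a, hAN haA⟩) (e ⟨x, hx⟩) :=
      Commute.map (show Commute (⟨a, hAN haA⟩ : N) ⟨x, hx⟩ from
        Subtype.ext (mem_centralizer_iff.1 hxA a haA)) e
    have k2 : Commute (e ⟨a, hAN haA⟩) (e ⟨i, hiN⟩) :=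
      Commute.map (show Commute (⟨a, hAN haA⟩ : N) ⟨i, hiN⟩ from
        Subtype.ext (mem_centralizer_singleton_iff.1 (hAT haA).2)) e
    exact congrArg Subtype.val (e.injective (by
      rw [map_mul, map_mul]; exact (SLTwo.commute_comm (hnscal _ hans) k2 k1).eq) :
      (⟨i, hiN⟩ : N) * ⟨x, hx⟩ = ⟨x, hx⟩ * ⟨i, hiN⟩)
  -- the part of the Sylow subgroup centralizing `A` lies in `⟨x⟩`
  have hScyc : ∀ w : (S : Subgroup G), (w : G) ∈ CA → w ∈ zpowers d.x := by
    intro w hwA
    obtain ⟨k, hk | hk⟩ := d.normal_form w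
    · rw [hk]; exact zpow_mem (mem_zpowers _) k
    exfalso
    rcases Int.even_or_odd' k with ⟨r, rfl | rfl⟩
    · have ho : orderOf (w : G) = 2 := by rw [Subgroup.orderOf_coe, hk]; exact d.orderOf_even r
      have hwz : (w : G) ≠ z := fun e1 => by
        have hcw : Commute (w : G) y := by rw [e1]; exact (D.hzc y d.y.2).symm
        have hzi : (w : G) * i * (w : G)⁻¹ = i := by
          rw [e1, show z * i * z⁻¹ = i by rw [← D.hzc i i'.2, mul_inv_cancel_right]]
        have h' : (w : G) * i * (w : G)⁻¹ = i⁻¹ := by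
          rw [show (w : G) = ((d.x ^ (2 * r) : (S : Subgroup G)) : G) * y from congrArg Subtype.val hk,
            show ((d.x ^ (2 * r) : (S : Subgroup G)) : G) * y * i * (((d.x ^ (2 * r) : (S : Subgroup G)) : G) * y)⁻¹ =
              ((d.x ^ (2 * r) : (S : Subgroup G)) : G) * (y * i * y⁻¹) *
                ((d.x ^ (2 * r) : (S : Subgroup G)) : G)⁻¹ by group, hyi]
          exact congrArg Subtype.val (mul_inv_eq_iff_eq_mul.2
            (Commute.zpow_zpow_self d.x (2 * r) 2).inv_right.eq)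
        have h2 : orderOf i ∣ 2 := orderOf_dvd_of_pow_eq_one (by
          rw [pow_two]; exact eq_inv_iff_mul_eq_one.1 (hzi.symm.trans h'))
        rw [hi4] at h2
        norm_num at h2
      refine hsc ?_
      rw [← hcen _ (hSC w.2) ho hwz, ← hao, ← Subgroup.orderOf_mk a
        (show a ∈ Cen z ⊓ Cen (w : G) from ⟨hAC haA,
          mem_centralizer_singleton_iff.2 (mem_centralizer_iff.1 hwA a haA)⟩)]
      exact _root_.orderOf_dvd_natCard _
    · have ho : orderOf (w : G) = 4 := by rw [Subgroup.orderOf_coe, hk]; exact d.orderOf_odd r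
      have hcm := hNA _ (L.four _ (hSC w.2) ho).1 hwA
      have h' : (w : G) * i * (w : G)⁻¹ = i⁻¹ := by
        rw [show (w : G) = ((d.x ^ (2 * r + 1) : (S : Subgroup G)) : G) * y from congrArg Subtype.val hk,
          show ((d.x ^ (2 * r + 1) : (S : Subgroup G)) : G) * y * i *
              (((d.x ^ (2 * r + 1) : (S : Subgroup G)) : G) * y)⁻¹ =
            ((d.x ^ (2 * r + 1) : (S : Subgroup G)) : G) * (y * i * y⁻¹) *
              ((d.x ^ (2 * r + 1) : (S : Subgroup G)) : G)⁻¹ by group, hyi]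
        exact congrArg Subtype.val (mul_inv_eq_iff_eq_mul.2
          (Commute.zpow_zpow_self d.x (2 * r + 1) 2).inv_right.eq)
      rw [← hcm.eq, mul_inv_cancel_right] at h'
      have h2 : orderOf i ∣ 2 := orderOf_dvd_of_pow_eq_one (by
        rw [pow_two]; exact eq_inv_iff_mul_eq_one.1 h')
      rw [hi4] at h2
      norm_num at h2
  -- the normal complement of `C(A)`
  set NA := normalizer (A : Set G) with hNAdef
  have hCN : CA ≤ NA := centralizer_le_normalizer _
  haveI : (CA.subgroupOf NA).Normal := by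
    rw [hCA, ← normalizerMonoidHom_ker]
    infer_instance
  have hzCA : z ∈ CA := mem_centralizer_iff.2 fun x hx => mem_centralizer_singleton_iff.1 (hAC hx)
  obtain ⟨T, hT⟩ := Cfsg.Lib.Local.exists_sylow_inf (S.subtype hSA) (CA.subgroupOf NA)
  obtain ⟨T', hT'⟩ : ∃ T' : Sylow 2 CA, ∀ w : CA, w ∈ (T' : Subgroup CA) → (w : G) ∈ (S : Subgroup G) := by
    set eCA := subgroupOfEquivOfLe hCN
    have hsur : Function.Surjective eCA.toMonoidHom := eCA.surjective
    refine ⟨T.mapSurjective hsur, ?_⟩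
    intro w hw
    rw [Sylow.coe_mapSurjective] at hw
    obtain ⟨t, ht, rfl⟩ := hw
    rw [SetLike.mem_coe, hT, mem_subgroupOf, Sylow.coe_subtype, mem_subgroupOf] at ht
    exact ht
  have hcyc : IsCyclic (T' : Subgroup CA) := by
    let f : (T' : Subgroup CA) →* zpowers d.x :=
      { toFun := fun w => ⟨⟨((w : CA) : G), hT' _ w.2⟩, hScyc _ (w : CA).2⟩
        map_one' := rfl
        map_mul' := fun _ _ => rfl }
    exact isCyclic_of_injective f fun w w' h =>
      Subtype.ext (Subtype.ext (congrArg (fun v : zpowers d.x => ((v : (S : Subgroup G)) : G)) h))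
  have h2CA : 2 ∣ Nat.card CA := by
    rw [← D.hz, ← Subgroup.orderOf_mk z hzCA]
    exact _root_.orderOf_dvd_natCard _
  obtain ⟨K, hKle, hKodd, hKc, hKmem⟩ := exists_complement T' hcyc h2CA
  have hKconj : ∀ t ∈ NA, ∀ k ∈ K, t * k * t⁻¹ ∈ K := by
    intro t ht k hk
    refine hKmem _ ?_ ?_
    · refine mem_centralizer_iff.2 fun x hx => ?_
      have hx' : t⁻¹ * x * t ∈ A := (mem_normalizer_iff''.1 ht x).1 hx
      have := mem_centralizer_iff.1 (hKle hk) _ hx'
      calc x * (t * k * t⁻¹) = t * (t⁻¹ * x * t * k) * t⁻¹ := by group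
        _ = t * (k * (t⁻¹ * x * t)) * t⁻¹ := by rw [this]
        _ = t * k * t⁻¹ * x := by group
    · rw [show t * k * t⁻¹ = MulAut.conj t k from rfl, MulEquiv.orderOf_eq, ← Subgroup.orderOf_mk k hk]
      exact hKodd.of_dvd_nat (_root_.orderOf_dvd_natCard _)
  obtain ⟨W, hWK, hSW, hWc⟩ := exists_invariant (r := s) hKodd S.2 (fun t ht => hKconj t (hSA ht))
  set w := (Nat.card K).factorization s
  have hw2 : 2 ≤ w := by
    have h := sq_dvd_centralizer hAc h2
    rw [← hCA, hKc] at h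
    refine (hsp.pow_dvd_iff_le_factorization Nat.card_pos.ne').1 (Nat.Coprime.dvd_of_dvd_mul_left ?_ h)
    obtain ⟨k, hk⟩ := IsPGroup.iff_card.1 T'.2
    rw [hk]
    exact Nat.Coprime.pow _ _ ((Nat.coprime_primes hsp Nat.prime_two).2 hs2)
  have hAK : A ≤ K := fun x hx => by
    refine hKmem x ?_ ?_
    · haveI := isCyclic_of_prime_card hAc
      letI : CommGroup A := IsCyclic.commGroup
      exact mem_centralizer_iff.2 fun y hy => congrArg Subtype.val (mul_comm (⟨y, hy⟩ : A) ⟨x, hx⟩)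
    · exact hsodd.of_dvd_nat (orderOf_dvd_of_pow_eq_one (hAs x hx))
  have hsgroup : IsPGroup s W := IsPGroup.of_card hWc
  have hAW : A ≤ W := by
    have hsup := hsgroup.to_sup_of_normal_right'
      (IsPGroup.of_card (n := 1) (by rw [hAc, pow_one]) : IsPGroup s A) ((hWK.trans hKle).trans hCN)
    obtain ⟨j', hj'⟩ := IsPGroup.iff_card.1 hsup
    have hd := card_dvd_of_le (sup_le hWK hAK)
    rw [hj'] at hd
    have := (hsp.pow_dvd_iff_le_factorization Nat.card_pos.ne').1 hd
    have e1 := eq_of_le_of_card_ge (le_sup_left : W ≤ W ⊔ A) (by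
      rw [hj', hWc]; exact Nat.pow_le_pow_right hsp.pos this)
    exact e1 ▸ le_sup_right
  -- the chain
  have hinf : W ⊓ (S : Subgroup G) = ⊥ := by
    rw [← card_eq_one]
    refine Nat.eq_one_of_dvd_coprimes (a := s ^ w) (b := 16) ?_
      (hWc ▸ card_dvd_of_le inf_le_left) (D.card ▸ card_dvd_of_le inf_le_right)
    rw [show (16 : ℕ) = 2 ^ 4 by norm_num]
    exact Nat.Coprime.pow _ _ ((Nat.coprime_primes hsp Nat.prime_two).2 hs2)
  have hchain := chain_cross hSW hinf (chain_of_card_eq_pow hWc)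
    (chain_of_card_eq_pow (show Nat.card (S : Subgroup G) = 2 ^ 4 from D.card))
  have hNAtop : NA ≠ ⊤ := normalizer_ne_top (fun e1 => by rw [e1, card_bot] at hAc; exact hsp.one_lt.ne' hAc.symm)
    (fun e1 => cen_ne_top hna D.hz (top_le_iff.1 (e1 ▸ hAC)))
  have h6 := chain_proper_le hlen hNAtop
    (hchain.mono (sup_le ((hWK.trans hKle).trans hCN) hSA))
  have hwe : w = 2 := by omega
  rw [hwe] at hWc
  -- the inverted part
  have hzW : ∀ x ∈ W, z * x * z⁻¹ ∈ W := hSW z D.hzS
  have hfix : Nat.card ↥(W ⊓ centralizer ({z} : Set G)) = s := by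
    obtain ⟨k, hk, hk'⟩ := (Nat.dvd_prime_pow hsp).1 (hWc ▸ card_dvd_of_le (inf_le_left : W ⊓ Cen z ≤ W))
    have hA1 : A ≤ W ⊓ Cen z := le_inf hAW hAC
    have hd := card_dvd_of_le hA1
    rw [hAc, hk'] at hd
    have hk2 : k ≠ 2 := by
      rintro rfl
      exact hsC (hk' ▸ card_dvd_of_le inf_le_right)
    have hk0 : k ≠ 0 := by
      rintro rfl
      rw [pow_zero, Nat.dvd_one] at hd
      exact hsp.one_lt.ne' hd
    rw [show k = 1 by omega, pow_one] at hk'
    exact hk'
  obtain ⟨v, hvW, hvo, hzv, hvI⟩ := exists_inverted (r := s) hs2 hWc hzz hzW hfix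
  set I : Subgroup G := zpowers v with hIdef
  have hSI : (S : Subgroup G) ≤ normalizer (I : Set G) := fun t ht => mem_normalizer_fintype fun x hx => by
    obtain ⟨k, rfl⟩ := mem_zpowers_iff.1 hx
    rw [← conj_zpow]
    refine zpow_mem (hvI _ (hSW t ht v hvW) ?_) k
    calc z * (t * v * t⁻¹) * z⁻¹ = (z * t) * v * (z * t)⁻¹ := by group
      _ = (t * z) * v * (t * z)⁻¹ := by rw [D.hzc t ht]
      _ = t * (z * v * z⁻¹) * t⁻¹ := by group
      _ = (t * v * t⁻¹)⁻¹ := by rw [hzv]; group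
  haveI : IsCyclic I := isCyclic_of_prime_card (p := s) (by rw [Nat.card_zpowers, hvo])
  let ρ : (S : Subgroup G) →* MulAut I := (normalizerMonoidHom I).comp (inclusion hSI)
  have hcommAut : ∀ a b : MulAut I, a * b = b * a := fun a b =>
    (IsCyclic.mulAutMulEquiv I).injective (by rw [map_mul, map_mul, mul_comm])
  -- `z` is a commutator
  have hzcom : (⟨z, D.hzS⟩ : (S : Subgroup G)) = d.y * i' * d.y⁻¹ * i'⁻¹ := by
    refine Subtype.ext ?_
    show z = y * i * y⁻¹ * i⁻¹
    rw [hyi, ← mul_inv_rev, hii, Cfsg.Lib.Invol.inv_eq_self D.hz]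
  have hρ : ρ ⟨z, D.hzS⟩ = 1 := by
    rw [hzcom, map_mul, map_mul, map_mul, map_inv, map_inv, hcommAut (ρ d.y) (ρ i'), mul_inv_cancel_right,
      mul_inv_cancel]
  have hzI : z ∈ centralizer (I : Set G) := by
    have : inclusion hSI ⟨z, D.hzS⟩ ∈ (normalizerMonoidHom I).ker := hρ
    rw [normalizerMonoidHom_ker] at this
    exact this
  have h3 := mem_centralizer_iff.1 hzI v (mem_zpowers v)
  have hvv : v = v⁻¹ := by
    calc v = z * v * z⁻¹ := by rw [← h3, mul_inv_cancel_right]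
      _ = v⁻¹ := hzv
  have h2' : orderOf v ∣ 2 := orderOf_dvd_of_pow_eq_one (by rw [pow_two]; exact eq_inv_iff_mul_eq_one.1 hvv)
  rw [hvo] at h2'
  exact hs2 ((Nat.prime_dvd_prime_iff_eq hsp Nat.prime_two).1 h2')

end Cfsg.Lib.LenSeven
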