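import Cfsg.Agent.Lib.LenSeven.QDThree
import Cfsg.Agent.Lib.LenSeven.QDFive
import Cfsg.Agent.Lib.LenSeven.QDSquareS
import Cfsg.Agent.Lib.LenSeven.Arith

/-!
# A quasi-dihedral Sylow subgroup
-/

set_option autoImplicit false
set_option linter.style.haveILetI false
set_option linter.unusedSectionVars false

namespace Cfsg.Lib.LenSeven

open Cfsg Subgroup LenEight OrderSDW TwoGroup ArithmeticFunction

universe u

variable {G : Type u} [Group G] [Fintype G] [Fact (Nat.Prime 2)] [IsSimpleGroup G]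
variable {S : Sylow 2 G} {z : G} {F : Type} [Field F] [Fintype F]

/-- The prime `s` with `q - ε = 4 s` and the number of factors of `q - 1`. -/
theorem exists_s {q : ℕ} (hq : q.Prime) (h5 : 5 < q) {ε : ℤ} (hε : ε = 1 ∨ ε = -1)
    (h4 : (4 : ℤ) ∣ (q : ℤ) - ε) (h8 : q % 8 = 3 ∨ q % 8 = 5) (hm5 : q % 5 = 2 ∨ q % 5 = 3)
    (hp : cardFactors (q + 1) ≤ 3) (hm : cardFactors (q - 1) ≤ 3) :
    ∃ s : ℕ, s.Prime ∧ Odd s ∧ (q : ℤ) - ε = 4 * s ∧ 3 ≤ cardFactors (q - 1) := by
  have hΩ : ∀ t : ℕ, 0 < t → cardFactors (4 * t) = 2 + cardFactors t := fun t ht => by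
    rw [cardFactors_mul (by norm_num) ht.ne', show 4 = 2 ^ 2 by norm_num,
      cardFactors_apply_prime_pow Nat.prime_two]
  have hprime : ∀ t : ℕ, 1 < t → cardFactors (4 * t) ≤ 3 → t.Prime := fun t ht h => by
    rw [hΩ t (by omega)] at h
    have := cardFactors_pos_iff_one_lt.2 ht
    exact cardFactors_eq_one_iff_prime.1 (by omega)
  obtain ⟨t, ht⟩ := h4
  rcases hε with rfl | rfl
  · obtain ⟨s, rfl⟩ : ∃ s : ℕ, t = s := ⟨t.toNat, by omega⟩
    have hs : q - 1 = 4 * s := by omega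
    have hsp : s.Prime := hprime s (by omega) (hs ▸ hm)
    refine ⟨s, hsp, hsp.odd_of_ne_two (by omega), by omega, ?_⟩
    rw [hs, hΩ s hsp.pos, cardFactors_apply_prime hsp]
  · obtain ⟨s, rfl⟩ : ∃ s : ℕ, t = s := ⟨t.toNat, by omega⟩
    have hs : q + 1 = 4 * s := by omega
    have hsp : s.Prime := hprime s (by omega) (hs ▸ hp)
    have hsodd : Odd s := hsp.odd_of_ne_two (by omega)
    refine ⟨s, hsp, hsodd, by omega, ?_⟩
    obtain ⟨m, hqm⟩ : ∃ m, q - 1 = 2 * m := ⟨2 * s - 1, by omega⟩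
    rw [hqm, cardFactors_mul two_ne_zero (by omega), cardFactors_apply_prime Nat.prime_two]
    by_contra h
    have hm1 : 1 < m := by omega
    have hmp : m.Prime := cardFactors_eq_one_iff_prime.1 (by
      have := cardFactors_pos_iff_one_lt.2 hm1
      omega)
    have hms : m + 1 = 2 * s := by omega
    have hcase : s % 3 = 0 ∨ q % 3 = 0 ∨ m % 3 = 0 := by
      rcases (show s % 3 = 0 ∨ s % 3 = 1 ∨ s % 3 = 2 by omega) with r | r | r
      · exact Or.inl r
      · refine Or.inr (Or.inl ?_)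
        clear * - hs r
        omega
      · refine Or.inr (Or.inr ?_)
        clear * - hms r
        omega
    rcases hcase with h3 | h3 | h3
    · have := (Nat.prime_dvd_prime_iff_eq Nat.prime_three hsp).1 (Nat.dvd_of_mod_eq_zero h3)
      omega
    · have := (Nat.prime_dvd_prime_iff_eq Nat.prime_three hq).1 (Nat.dvd_of_mod_eq_zero h3)
      omega
    · have := (Nat.prime_dvd_prime_iff_eq Nat.prime_three hmp).1 (Nat.dvd_of_mod_eq_zero h3)
      omega

theorem qd_large (hna : ¬ IsMulCommutative G) (hlen : LenLe (⊤ : Subgroup G) 7) (D : QD16 S z F)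
    (h5 : 5 < Fintype.card F) : False := by
  classical
  obtain ⟨-, hC, -, hl⟩ := five_shape D h5.le
  obtain ⟨hqp, h8, hm5, -, hp, hm⟩ := psl_len_four D.odd h5 hl
  obtain ⟨N, L⟩ := exists_locN hna D h5.le
  obtain ⟨ε, c, hε, h4, hc, ⟨X, Y, hX, hX1, hY, hYodd, hX4, hEq⟩, hcen⟩ := card_inf_cen D h5.le
  obtain ⟨q, hq⟩ : ∃ q, Fintype.card F = q := ⟨_, rfl⟩
  rw [hq] at h5 hC hqp h8 hm5 hp hm h4 hc hY hX4 hEq
  obtain ⟨s, hsp, hsodd, hqs, hΩ⟩ := exists_s hqp h5 hε h4 h8 hm5 hp hm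
  have h7 : 7 < q := by omega
  haveI := Fact.mk hqp
  haveI := Fact.mk hsp
  have hcq : ¬ q ∣ c := fun h => by
    have h' : (q : ℤ) ∣ 2 * ((q : ℤ) + ε) := hc ▸ Int.natCast_dvd_natCast.2 h
    have h'' := dvd_sub h' (dvd_mul_left (q : ℤ) 2)
    rw [show 2 * ((q : ℤ) + ε) - 2 * (q : ℤ) = 2 * ε by ring] at h''
    have h2 : (q : ℤ) ≤ 2 := by
      rcases hε with rfl | rfl
      · exact Int.le_of_dvd two_pos (by simpa using h'')
      · exact Int.le_of_dvd two_pos (by simpa using h'')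
    omega
  have hq2 := sq_not_dvd hna hlen D L hq h7 hΩ hcen hcq
  have hs2 := sq_not_dvd_s hna hlen D L hq (by omega) hε h4 hqs
    (by obtain ⟨k, hk⟩ := hsodd; omega) hc hcen
  have hsq : 1 ≤ q ^ 2 := Nat.one_le_pow _ _ (by omega)
  rw [hC, hc] at hEq
  push_cast [Nat.cast_sub hsq] at hEq
  have h16 : 2 ^ 4 ∣ Nat.card G := by
    have := card_subgroup_dvd_card (S : Subgroup G)
    rwa [D.card] at this
  have h32 : ¬ 2 ^ 5 ∣ Nat.card G := fun h => by
    obtain ⟨R, hR⟩ := Sylow.exists_subgroup_card_pow_prime 2 h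
    obtain ⟨R', hR'⟩ := (IsPGroup.of_card hR).exists_le_sylow
    have := card_dvd_of_le hR'
    rw [hR, R'.card_eq_multiplicity, ← S.card_eq_multiplicity, D.card] at this
    norm_num at this
  refine arith_qd (g := (Nat.card G : ℤ)) hqp h7 hsp hε hqs hsodd hX hX1 hY hX4 ?_ (by exact_mod_cast h16)
    (fun h => h32 (by exact_mod_cast h)) (fun h => hq2 (by exact_mod_cast h)) (fun h => hs2 (by exact_mod_cast h))
  have hne : 4 * (q : ℤ) * ((q : ℤ) + ε) ^ 2 ≠ 0 :=
    mul_ne_zero (by omega) (pow_ne_zero _ (by rcases hε with rfl | rfl <;> omega))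
  refine mul_left_cancel₀ hne ?_
  rcases hε with rfl | rfl <;> linear_combination hEq

/-- A quasi-dihedral Sylow subgroup of order at most `32`. -/
theorem qd_all (hna : ¬ IsMulCommutative G) (hlen : LenLe (⊤ : Subgroup G) 7) (S : Sylow 2 G)
    (hQD : IsQuasiDihedral (S : Subgroup G)) (h32 : Nat.card (S : Subgroup G) ≤ 32) : Concl G := by
  obtain ⟨z, F, iF, iF', D⟩ := exists_qd16 hna hlen S hQD h32
  rcases D.shape with ⟨h3, -⟩ | ⟨h5, -⟩
  · exact qd_three hna hlen D h3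
  rcases h5.lt_or_eq with h | h
  · exact absurd (qd_large hna hlen D h) id
  · exact qd_five hna D h.symm

end Cfsg.Lib.LenSeven
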