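import Cfsg.Agent.Lib.LenSeven.Cent

/-!
# The data for a quasi-dihedral Sylow subgroup
-/

set_option autoImplicit false
set_option linter.style.haveILetI false
set_option linter.unusedSectionVars false

namespace Cfsg.Lib.LenSeven

open Cfsg Subgroup LenEight OrderSDW TwoGroup
open scoped MatrixGroups

universe u

variable {G : Type u} [Group G] [Fintype G] [Fact (Nat.Prime 2)] [IsSimpleGroup G]

/-- The data at a central involution of a quasi-dihedral Sylow subgroup of order `16`. -/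
structure QD16 (S : Sylow 2 G) (z : G) (F : Type) [Field F] [Fintype F] : Prop where
  hz : orderOf z = 2
  hzS : z ∈ S
  hzc : ∀ s ∈ (S : Subgroup G), s * z = z * s
  quasi : IsQuasiDihedral (S : Subgroup G)
  card : Nat.card (S : Subgroup G) = 16
  odd : Odd (Fintype.card F)
  sl : ∃ N : Subgroup (CQ z), N.Normal ∧ Nonempty (N ≃* SL(2, F))
  other : ∃ b ∈ Cen z, orderOf b = 2 ∧ b ≠ z
  shape : (Fintype.card F = 3 ∧ Nat.card (Cen z) = 48 * Nat.card (oddCore ↥(Cen z)) ∧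
        (Nat.card (oddCore ↥(Cen z)) = 1 ∨
          (Nat.card (oddCore ↥(Cen z))).Prime ∧ IsCoatom (Cen z))) ∨
      (5 ≤ Fintype.card F ∧ Nat.card (oddCore ↥(Cen z)) = 1 ∧
        Nat.card (Cen z) = 2 * (Fintype.card F * (Fintype.card F ^ 2 - 1)) ∧ IsCoatom (Cen z) ∧
        LenLe (⊤ : Subgroup (Matrix.ProjectiveSpecialLinearGroup (Fin 2) F)) 4)
  equations : ∃ (ε : ℤ) (c kc : ℕ), (ε = 1 ∨ ε = -1) ∧ (4 : ℤ) ∣ (Fintype.card F : ℤ) - ε ∧
    (∀ i ∈ Cen z, orderOf i = 2 → i ≠ z → Nat.card ↥(Cen z ⊓ Cen i) = c) ∧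
    Eqs ε (Fintype.card F) (Nat.card G) (Nat.card (Cen z)) c ∧
    kc ∣ Nat.card (oddCore ↥(Cen z)) ∧
    (Nat.card (Cen z) : ℤ) * kc = (Nat.card (oddCore ↥(Cen z)) : ℤ) * (c : ℤ) *
      ((Fintype.card F : ℤ) * ((Fintype.card F : ℤ) - ε)) ∧
    ∃ b ∈ Cen z, orderOf b = 2 ∧ b ≠ z ∧
      kc = Nat.card ↥((oddCore ↥(Cen z)).map (Cen z).subtype ⊓ Cen b)

theorem exists_qd16 (hna : ¬ IsMulCommutative G) (hlen : LenLe (⊤ : Subgroup G) 7) (S : Sylow 2 G)
    (hQD : IsQuasiDihedral (S : Subgroup G)) (h32 : Nat.card (S : Subgroup G) ≤ 32) :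
    ∃ (z : G) (F : Type) (_ : Field F) (_ : Fintype F), QD16 S z F := by
  classical
  obtain ⟨m, ⟨d⟩⟩ := exists_sd hQD
  set z : G := (d.z : G) with hzdef
  set b : G := (d.y : G) with hbdef
  have hz : orderOf z = 2 := by rw [hzdef, Subgroup.orderOf_coe, d.orderOf_z]
  have hb : orderOf b = 2 := by rw [hbdef, Subgroup.orderOf_coe, d.hy]
  have hzS : z ∈ S := d.z.2
  have hzc : ∀ s ∈ (S : Subgroup G), s * z = z * s := fun s hs =>
    congrArg Subtype.val (d.z_central ⟨s, hs⟩).eq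
  have hbz : b ≠ z := fun h => d.y_notMem (by
    rw [show d.y = d.z from Subtype.ext h]
    exact zpow_mem (mem_zpowers _) _)
  have hbz' : b ∉ zpowers z := fun h => by
    rcases mem_zpowers_iff.1 h with ⟨k, hk⟩
    rcases Int.even_or_odd' k with ⟨r, rfl | rfl⟩
    · rw [zpow_mul, zpow_two, Cfsg.Lib.Invol.inv_mul_self hz, one_zpow] at hk
      exact Cfsg.Lib.Invol.ne_one hb hk.symm
    · rw [zpow_add, zpow_mul, zpow_two, Cfsg.Lib.Invol.inv_mul_self hz, one_zpow, one_mul, zpow_one] at hk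
      exact hbz hk.symm
  set U : Subgroup G := closure {z, b} with hUdef
  have hU : IsKleinFour U :=
    isKleinFour_closure hz (Cfsg.Lib.Invol.inv_mul_self hb) (hzc b d.y.2) hbz'
  have hUS : U ≤ (S : Subgroup G) :=
    (closure_le _).mpr (Set.insert_subset hzS (Set.singleton_subset_iff.mpr d.y.2))
  obtain ⟨p, F, iF, iF', iC, n, hp, hp2, hq, hodd, hL⟩ := exists_sl hna S (Or.inl hQD) hz
  haveI := Fact.mk hp
  have hodd' : Fintype.card F % 2 = 1 := Nat.odd_iff.1 hodd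
  obtain ⟨h16, hshape⟩ := qd_shape hna hlen S hQD h32 hz hzS hzc hp2 hodd' hL
  obtain ⟨ε, hε, h4, hE, kc, hkc, hsize, b', hb'U, hb'1, hb'z, hkb⟩ := data_sd hna S d hz hzS hzc hUS hU hp2 hq hodd' hL
  have hbC : b ∈ Cen z := mem_centralizer_singleton_iff.2 (hzc b d.y.2)
  have hUc : Subgroup.centralizer (U : Set G) = Cen z ⊓ Cen b :=
    four_centralizer hU (subset_closure (Set.mem_insert _ _))
      (subset_closure (Set.mem_insert_of_mem _ (Set.mem_singleton b))) (Cfsg.Lib.Invol.ne_one hz)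
      (Cfsg.Lib.Invol.ne_one hb) hbz
  rw [hUc] at hE hsize
  refine ⟨z, F, iF, iF', hz, hzS, hzc, hQD, h16, hodd, hL, ⟨b, hbC, hb, hbz⟩, hshape,
    ε, Nat.card ↥(Cen z ⊓ Cen b), kc, hε, h4, fun i hiC hi hiz => ?_, hE, hkc, hsize,
    b', mem_centralizer_singleton_iff.2 (hzc b' (hUS hb'U)),
    orderOf_eq_prime (by rw [pow_two, four_mul_self hU hb'U]) hb'1, hb'z, hkb⟩
  obtain ⟨c, hc, hci⟩ := sd_one_class S d hz hzS hzc hb hi hbz hiz hbC hiC
  have hcz : c * z * c⁻¹ = z := mul_inv_eq_iff_eq_mul.2 (mem_centralizer_singleton_iff.1 hc)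
  have hmap : ((Cen z ⊓ Cen b).map (MulAut.conj c).toMonoidHom) = Cen z ⊓ Cen i := by
    rw [Subgroup.map_inf _ _ _ (MulAut.conj c).injective]
    have key : ∀ a : G, (Cen a).map (MulAut.conj c).toMonoidHom = Cen (c * a * c⁻¹) := by
      intro a
      ext w
      rw [mem_map_equiv, Cen, Cen, mem_centralizer_singleton_iff, mem_centralizer_singleton_iff,
        MulAut.conj_symm_apply]
      constructor
      · intro h
        calc w * (c * a * c⁻¹) = c * (c⁻¹ * w * c * a) * c⁻¹ := by group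
          _ = c * (a * (c⁻¹ * w * c)) * c⁻¹ := by rw [h]
          _ = _ := by group
      · intro h
        calc c⁻¹ * w * c * a = c⁻¹ * (w * (c * a * c⁻¹)) * c := by group
          _ = c⁻¹ * (c * a * c⁻¹ * w) * c := by rw [h]
          _ = _ := by group
    rw [key, key, hci, hcz]
  rw [← hmap, card_map_of_injective (MulAut.conj c).injective]

end Cfsg.Lib.LenSeven
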