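import Cfsg.Agent.Lib.LenSeven.QDTools
import Cfsg.Agent.Lib.LenSeven.Split

/-!
# A quasi-dihedral Sylow subgroup: `q ^ 2` does not divide the order
-/

set_option autoImplicit false
set_option linter.style.haveILetI false
set_option linter.unusedSectionVars false

namespace Cfsg.Lib.LenSeven

open Cfsg Subgroup LenEight OrderSDW TwoGroup ArithmeticFunction

universe u

variable {G : Type u} [Group G] [Fintype G] [Fact (Nat.Prime 2)] [IsSimpleGroup G]
variable {S : Sylow 2 G} {z : G} {F : Type} [Field F] [Fintype F] {N : Subgroup G} {q : ℕ} [Fact q.Prime]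

/-- The centralizer of `P` in a Sylow subgroup containing it has order `q ^ 2` at least. -/
theorem sq_dvd_centralizer {r : ℕ} [hr : Fact r.Prime] {P : Subgroup G} (hP : Nat.card P = r)
    (h2 : r ^ 2 ∣ Nat.card G) : r ^ 2 ∣ Nat.card ↥(centralizer (P : Set G)) := by
  classical
  obtain ⟨Q, hQ⟩ := (IsPGroup.of_card (n := 1) (by rw [hP, pow_one]) : IsPGroup r P).exists_le_sylow
  obtain ⟨k, hk⟩ := IsPGroup.iff_card.1 Q.2
  have hk2 : 2 ≤ k := by
    have := Q.card_eq_multiplicity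
    rw [hk] at this
    have := Nat.pow_right_injective hr.out.two_le this
    rw [this]
    exact (hr.out.pow_dvd_iff_le_factorization Nat.card_pos.ne').1 h2
  set Z := (center ↥(Q : Subgroup G)).map (Q : Subgroup G).subtype
  have hQQ : ∀ x ∈ Z, ∀ y ∈ (Q : Subgroup G), x * y = y * x := by
    rintro _ ⟨x, hx, rfl⟩ y hy
    exact (congrArg Subtype.val (mem_center_iff.1 hx ⟨y, hy⟩)).symm
  by_cases hPZ : P ≤ Z
  · have hle : (Q : Subgroup G) ≤ centralizer (P : Set G) := fun y hy =>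
      mem_centralizer_iff.2 fun x hx => hQQ x (hPZ hx) y hy
    refine (pow_dvd_pow r hk2).trans ?_
    rw [← hk]
    exact card_dvd_of_le hle
  have hZle : Z ≤ centralizer (P : Set G) := fun x hx =>
    mem_centralizer_iff.2 fun y hy => (hQQ x hx y (hQ hy)).symm
  haveI : Nontrivial ↥(Q : Subgroup G) := (Subgroup.nontrivial_iff_ne_bot _).2 fun e => by
    rw [e, card_bot] at hk
    have := Nat.one_lt_pow (show k ≠ 0 by omega) hr.out.one_lt
    omega
  have hZne : Z ≠ ⊥ := fun e => by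
    have hnt := IsPGroup.center_nontrivial Q.2
    rw [map_eq_bot_iff_of_injective _ (Q : Subgroup G).subtype_injective] at e
    rw [e] at hnt
    exact not_nontrivial _ hnt
  have hPc : P ≤ centralizer (P : Set G) := by
    haveI := isCyclic_of_prime_card hP
    letI : CommGroup P := IsCyclic.commGroup
    exact fun x hx => mem_centralizer_iff.2 fun y hy => congrArg Subtype.val (mul_comm (⟨y, hy⟩ : P) ⟨x, hx⟩)
  set R := P ⊔ Z
  have hRQ : R ≤ (Q : Subgroup G) := sup_le hQ (map_subtype_le _)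
  obtain ⟨i, hi⟩ := IsPGroup.iff_card.1 (Q.2.to_le hRQ)
  have hi2 : 2 ≤ i := by
    by_contra h
    have hRP : P = R := eq_of_le_of_card_ge le_sup_left (by
      rw [hi, hP]
      calc r ^ i ≤ r ^ 1 := Nat.pow_le_pow_right hr.out.pos (by omega)
        _ = r := pow_one r)
    exact hPZ (by
      have hZP : Z ≤ P := hRP ▸ le_sup_right
      have hd := card_dvd_of_le hZP
      rw [hP] at hd
      rcases (Nat.dvd_prime hr.out).1 hd with e | e
      · exact absurd (card_eq_one.1 e) hZne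
      · exact (eq_of_le_of_card_ge hZP (by rw [e, hP])).ge)
  refine (pow_dvd_pow r hi2).trans ?_
  rw [← hi]
  exact card_dvd_of_le (sup_le hPc hZle)

theorem sq_not_dvd (hna : ¬ IsMulCommutative G) (hlen : LenLe (⊤ : Subgroup G) 7) (D : QD16 S z F)
    (L : LocN z F N) (hq : Fintype.card F = q) (h7 : 7 < q) (hΩ : 3 ≤ cardFactors (q - 1)) {c : ℕ}
    (hcen : ∀ i ∈ Cen z, orderOf i = 2 → i ≠ z → Nat.card ↥(Cen z ⊓ Cen i) = c) (hcq : ¬ q ∣ c) :
    ¬ q ^ 2 ∣ Nat.card G := by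
  classical
  intro h2
  have hqp := (Fact.out : q.Prime)
  have hqodd : Odd q := hqp.odd_of_ne_two (by omega)
  have hq3 : 3 ≤ q := by omega
  obtain ⟨P₀, hP₀⟩ := Sylow.exists_subgroup_card_pow_prime (G := ↥(Cen z)) q (n := 1)
    (by rw [L.card_cen hq, pow_one]; exact Dvd.dvd.mul_left (dvd_mul_right _ _) 2)
  rw [pow_one] at hP₀
  obtain ⟨u₀, hu₀⟩ := (isCyclic_of_prime_card hP₀).exists_generator
  obtain ⟨hu, huq⟩ : ((u₀ : ↥(Cen z)) : G) ∈ Cen z ∧ orderOf ((u₀ : ↥(Cen z)) : G) = q :=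
    ⟨(u₀ : ↥(Cen z)).2, by rw [Subgroup.orderOf_coe, Subgroup.orderOf_coe,
      orderOf_eq_card_of_forall_mem_zpowers hu₀, hP₀]⟩
  generalize ((u₀ : ↥(Cen z)) : G) = u at hu huq
  obtain ⟨K, hK⟩ := exists_kdata D L hq hq3 hcen hcq hu huq
  obtain ⟨hoz, hcz⟩ := L.centralizer_inf hq hq3 D hcen hcq hu huq
  set P : Subgroup G := zpowers u with hPdef
  have hPC : P ≤ Cen z := zpowers_le.2 hu
  have hPc : Nat.card P = q := by rw [Nat.card_zpowers, huq]
  have hzz : z * z = 1 := Cfsg.Lib.Invol.inv_mul_self D.hz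
  have hzCP : z ∈ centralizer (P : Set G) :=
    mem_centralizer_iff.2 fun x hx => mem_centralizer_singleton_iff.1 (hPC hx)
  have hCPN : centralizer (P : Set G) ≤ normalizer (P : Set G) := centralizer_le_normalizer _
  -- a Sylow subgroup of `K` normalized by `z`
  have hz2 : IsPGroup 2 (zpowers z) := IsPGroup.of_card (n := 1) (by rw [Nat.card_zpowers, D.hz, pow_one])
  obtain ⟨W, hWK, hzW, hWc⟩ := exists_invariant (r := q) hK.odd hz2
    (fun t ht k hk => hK.pow_mem (hCPN (zpowers_le.2 hzCP ht)) hk)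
  set w := (Nat.card K).factorization q
  have hw2 : 2 ≤ w := by
    have h := sq_dvd_centralizer hPc h2
    rw [hK.card_cp] at h
    refine (hqp.pow_dvd_iff_le_factorization Nat.card_pos.ne').1 (Nat.Coprime.dvd_of_dvd_mul_left ?_ h)
    exact Nat.Coprime.pow_left _ ((Nat.coprime_primes hqp Nat.prime_two).2 (by omega))
  have hqgroup : IsPGroup q W := IsPGroup.of_card hWc
  have hWmax : ∀ R ≤ K, IsPGroup q R → W ≤ R → R = W := by
    intro R hR hRp hWR
    obtain ⟨j, hj⟩ := IsPGroup.iff_card.1 hRp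
    have hd := card_dvd_of_le hR
    rw [hj] at hd
    have := (hqp.pow_dvd_iff_le_factorization Nat.card_pos.ne').1 hd
    exact (eq_of_le_of_card_ge hWR (by rw [hj, hWc]; exact Nat.pow_le_pow_right hqp.pos this)).symm
  have hPK : P ≤ K := hK.inf.ge.trans inf_le_left
  have hPW : P ≤ W := by
    have hn : W ≤ normalizer (P : Set G) := (hWK.trans hK.le).trans hCPN
    have hPp : IsPGroup q P := IsPGroup.of_card (n := 1) (by rw [hPc, pow_one])
    have := hWmax (W ⊔ P) (sup_le hWK hPK) (hqgroup.to_sup_of_normal_right' hPp hn) le_sup_left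
    exact this ▸ le_sup_right
  -- elements of `C ∩ N(P)` normalize `W`
  set M := Cen z ⊓ normalizer (P : Set G) with hMdef
  have hzW' : ∀ x ∈ W, z * x * z⁻¹ ∈ W := hzW z (mem_zpowers z)
  have hMW : ∀ h ∈ M, h ∈ normalizer (W : Set G) := by
    rintro h ⟨hhC, hhP⟩
    have hhz : Commute h z := mem_centralizer_singleton_iff.1 hhC
    set W' := W.map (MulAut.conj h).toMonoidHom
    have hW'K : W' ≤ K := by
      rintro _ ⟨x, hx, rfl⟩
      exact hK.pow_mem hhP (hWK hx)
    have hW'c : Nat.card W' = q ^ w := by rw [card_map_of_injective (MulAut.conj h).injective, hWc]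
    -- conjugate in `K`
    have hSy : ∀ (V : Subgroup G), V ≤ K → Nat.card V = q ^ w →
        Nat.card (V.subgroupOf K) = q ^ (Nat.card K).factorization q := fun V hV hVc => by
      rw [Nat.card_congr (subgroupOfEquivOfLe hV).toEquiv, hVc]
    obtain ⟨k, hk⟩ := MulAction.exists_smul_eq K (Sylow.ofCard _ (hSy W hWK hWc))
      (Sylow.ofCard _ (hSy W' hW'K hW'c))
    have hkmap : ∀ x ∈ W, (k : G) * x * (k : G)⁻¹ ∈ W' := by
      intro x hx
      have hm : k * ⟨x, hWK hx⟩ * k⁻¹ ∈ (Sylow.ofCard _ (hSy W' hW'K hW'c) : Subgroup K) := by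
        rw [← hk, Sylow.coe_subgroup_smul]
        exact ⟨⟨x, hWK hx⟩, by rw [SetLike.mem_coe, Sylow.coe_ofCard]; exact hx, rfl⟩
      rw [Sylow.coe_ofCard] at hm
      exact hm
    have hW'eq : W.map (MulAut.conj (k : G)).toMonoidHom = W' := by
      refine eq_of_le_of_card_ge ?_ (by rw [hW'c, card_map_of_injective (MulAut.conj (k : G)).injective, hWc])
      rintro _ ⟨x, hx, rfl⟩
      exact hkmap x hx
    have hback : ∀ y ∈ W', (k : G)⁻¹ * y * k ∈ W := by
      intro y hy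
      rw [← hW'eq] at hy
      obtain ⟨x, hx, rfl⟩ := hy
      rw [show (k : G)⁻¹ * (MulAut.conj (k : G)).toMonoidHom x * k = x by simp [mul_assoc]]
      exact hx
    set z' := (k : G)⁻¹ * z * k with hz'
    have hz'o : orderOf z' = 2 := by
      rw [hz', show (k : G)⁻¹ * z * k = MulAut.conj (k : G)⁻¹ z by simp, MulEquiv.orderOf_eq, D.hz]
    have hzW'2 : ∀ y ∈ W', z * y * z⁻¹ ∈ W' := by
      rintro _ ⟨x, hx, rfl⟩
      refine ⟨z * x * z⁻¹, hzW' x hx, ?_⟩
      show h * (z * x * z⁻¹) * h⁻¹ = z * (h * x * h⁻¹) * z⁻¹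
      rw [show h * (z * x * z⁻¹) * h⁻¹ = (h * z) * x * (h * z)⁻¹ by group, hhz.eq]
      group
    have hz'W : z' ∈ normalizer (W : Set G) := mem_normalizer_fintype fun x hx => by
      have h1 := hback _ (hzW'2 _ (hkmap x hx))
      rwa [show (k : G)⁻¹ * (z * ((k : G) * x * (k : G)⁻¹) * z⁻¹) * k = z' * x * z'⁻¹ by rw [hz']; group] at h1
    have hzN : z ∈ normalizer (W : Set G) := mem_normalizer_fintype hzW'
    have hzz'K : z * z' ∈ K := by
      rw [hz', show z * ((k : G)⁻¹ * z * k) = (z * (k : G)⁻¹ * z⁻¹) * k * ((k : G)⁻¹ * (z * z) * k) by group,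
        hzz]
      refine mul_mem (mul_mem (hK.pow_mem (hCPN hzCP) (inv_mem k.2)) k.2) ?_
      simp
    have hodd : Odd (orderOf (z * z')) := by
      rw [← Subgroup.orderOf_mk _ hzz'K]
      exact hK.odd.of_dvd_nat (_root_.orderOf_dvd_natCard _)
    obtain ⟨d, hd, hdz⟩ := Cfsg.Lib.Invol.exists_conj_zpowers_of_odd D.hz hz'o hodd
    have hdK : d ∈ K := zpowers_le.2 hzz'K hd
    have hdN : d ∈ normalizer (W : Set G) := zpowers_le.2 (mul_mem hzN hz'W) hd
    have hkd : (k : G) * d ∈ Cen z := mem_centralizer_singleton_iff.2 (by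
      rw [hz'] at hdz
      calc (k : G) * d * z = (k : G) * (d * z * d⁻¹) * d := by group
        _ = z * ((k : G) * d) := by rw [hdz]; group)
    have hkdP : (k : G) * d ∈ P := hK.inf.le ⟨mul_mem k.2 hdK, hkd⟩
    have hkN : (k : G) ∈ normalizer (W : Set G) := by
      have := mul_mem (le_normalizer (hPW hkdP) : (k : G) * d ∈ normalizer (W : Set G)) (inv_mem hdN)
      rwa [mul_inv_cancel_right] at this
    refine mem_normalizer_fintype fun x hx => ?_
    have hx' : h * x * h⁻¹ ∈ W' := ⟨x, hx, rfl⟩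
    rw [← hW'eq] at hx'
    obtain ⟨y, hy, hyx⟩ := hx'
    rw [← hyx]
    exact (mem_normalizer_iff.1 hkN y).1 hy
  -- the chain in `X = N(P) ∩ N(W)`
  set X := normalizer (P : Set G) ⊓ normalizer (W : Set G) with hXdef
  have hMX : M ≤ X := fun h hh => ⟨hh.2, hMW h hh⟩
  haveI : IsCyclic P := isCyclic_of_prime_card hPc
  letI : CommGroup (MulAut P) :=
    { (inferInstance : Group (MulAut P)) with
      mul_comm := fun a b => (IsCyclic.mulAutMulEquiv P).injective (by rw [map_mul, map_mul, mul_comm]) }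
  have haut : Nat.card (MulAut P) = q - 1 := by
    rw [IsCyclic.card_mulAut, hPc, Nat.totient_prime hqp]
  let φ : X →* MulAut P := (normalizerMonoidHom P).comp (inclusion inf_le_left)
  have hφker : ∀ x : X, x ∈ φ.ker ↔ (x : G) ∈ centralizer (P : Set G) := fun x => by
    show inclusion inf_le_left x ∈ (normalizerMonoidHom P).ker ↔ _
    rw [normalizerMonoidHom_ker]
    rfl
  let ψ : M →* MulAut P := φ.comp (inclusion hMX)
  have hψker : Nat.card ψ.ker = 2 * q := by
    rw [← hoz, ← Nat.card_zpowers (u * z), ← hcz]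
    exact Nat.card_congr
      { toFun := fun x => ⟨((x : ↥M) : G), (x : ↥M).2.1, (hφker (inclusion hMX (x : ↥M))).1 x.2⟩
        invFun := fun x => ⟨⟨x.1, x.2.1, hCPN x.2.2⟩, (hφker _).2 x.2.2⟩
        left_inv := fun x => rfl
        right_inv := fun x => rfl }
  have hψ : Function.Surjective ψ := by
    rw [← MonoidHom.range_eq_top]
    refine eq_top_of_card_eq _ ?_
    have h := card_mul_index ψ.ker
    rw [index_ker, hψker, L.card_normalizer hq hq3 hPC hPc, mul_assoc 2 q] at h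
    rw [haut, Nat.eq_of_mul_eq_mul_left hqp.pos (Nat.eq_of_mul_eq_mul_left two_pos h)]
  have hφ : Function.Surjective φ := fun a => by
    obtain ⟨m, hm⟩ := hψ a
    exact ⟨inclusion hMX m, hm⟩
  have hWX : W ≤ X := le_inf ((hWK.trans hK.le).trans hCPN) le_normalizer
  have hzX : z ∈ X := hMX ⟨mem_cen_self z, hCPN hzCP⟩
  have hchain : Chain X (w + 1 + cardFactors (q - 1)) := by
    refine (Chain.top_append φ hφ ?_ (haut ▸ chain_solvable (MulAut P) inferInstance)).top_subtype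
    refine ((chain_of_card_eq_pow hWc).to_subtype hWX).succ (lt_of_le_of_ne ?_ ?_)
    · exact fun x hx => (hφker x).2 (hK.le (hWK hx))
    · intro e
      have hz' : (⟨z, hzX⟩ : X) ∈ W.subgroupOf X := e ▸ (hφker ⟨z, hzX⟩).2 hzCP
      have h1 : orderOf z ∣ Nat.card W := by
        rw [← Subgroup.orderOf_mk z (mem_subgroupOf.1 hz')]
        exact _root_.orderOf_dvd_natCard _
      rw [D.hz, hWc] at h1
      have := (Nat.prime_dvd_prime_iff_eq Nat.prime_two hqp).1 (Nat.prime_two.dvd_of_dvd_pow h1)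
      omega
  have hNPtop : normalizer (P : Set G) ≠ ⊤ :=
    normalizer_ne_top (fun e => by rw [e, card_bot] at hPc; omega)
      (fun e => cen_ne_top hna D.hz (top_le_iff.1 (e ▸ hPC)))
  have hX6 := chain_proper_le hlen (fun e => hNPtop (top_le_iff.1 (e ▸ inf_le_left))) hchain
  have hwe : w = 2 := by omega
  have hNWX : normalizer (W : Set G) = X := by
    have hWtop : normalizer (W : Set G) ≠ ⊤ :=
      normalizer_ne_top (fun e => by
          rw [e, card_bot] at hWc
          have := Nat.one_lt_pow (show w ≠ 0 by omega) hqp.one_lt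
          omega)
        (fun e => cen_ne_top hna D.hz (by
          have hK' : (⊤ : Subgroup G) ≤ centralizer (P : Set G) := e ▸ hWK.trans hK.le
          exact absurd (top_le_iff.1 (hK'.trans hCPN)) hNPtop))
    refine ((eq_or_lt_of_le (inf_le_right : X ≤ normalizer (W : Set G))).resolve_right fun hlt => ?_).symm
    have := chain_proper_le hlen hWtop (hchain.succ hlt)
    omega
  rw [hwe] at hWc
  -- `W` is a Sylow subgroup of `G`
  obtain ⟨Q, hQ⟩ := hqgroup.exists_le_sylow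
  have hQW : (Q : Subgroup G) = W := by
    by_contra hne
    have hlt : W.subgroupOf (Q : Subgroup G) < ⊤ := lt_top_iff_ne_top.2 fun e =>
      hne (le_antisymm (subgroupOf_eq_top.1 e) hQ)
    haveI := Q.2.isNilpotent
    obtain ⟨n, hn, hnW⟩ := SetLike.exists_of_lt
      (Group.normalizerCondition_of_isNilpotent (G := ↥(Q : Subgroup G)) _ hlt)
    rw [← subgroupOf_normalizer_eq hQ, mem_subgroupOf] at hn
    have hnX : (n : G) ∈ X := hNWX ▸ hn
    obtain ⟨j, hj⟩ := IsPGroup.iff_orderOf.1 Q.2 n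
    have h1 : φ ⟨n, hnX⟩ = 1 := by
      rw [← orderOf_eq_one_iff]
      have hd : orderOf (φ ⟨n, hnX⟩) ∣ q ^ j := by
        refine (orderOf_map_dvd φ _).trans ?_
        rw [Subgroup.orderOf_mk, Subgroup.orderOf_coe, hj]
      have hd' : orderOf (φ ⟨n, hnX⟩) ∣ q - 1 := haut ▸ _root_.orderOf_dvd_natCard _
      refine Nat.eq_one_of_dvd_coprimes (Nat.Coprime.pow_left _ ?_) hd hd'
      rw [hqp.coprime_iff_not_dvd]
      exact fun h => by have := Nat.le_of_dvd (by omega) h; omega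
    have hnK : (n : G) ∈ K := hK.mem _ ((hφker ⟨n, hnX⟩).1 h1) (by
      rw [Subgroup.orderOf_coe, hj]; exact hqodd.pow)
    have hsup : IsPGroup q (zpowers (n : G) ⊔ W : Subgroup G) :=
      (Q.2.to_le (zpowers_le.2 n.2)).to_sup_of_normal_right' hqgroup (zpowers_le.2 hn)
    have := hWmax _ (sup_le (zpowers_le.2 hnK) hWK) hsup le_sup_right
    exact hnW (mem_subgroupOf.2 (this ▸ mem_sup_left (mem_zpowers _)))
  -- the inverted part
  have hfix : Nat.card ↥(W ⊓ centralizer ({z} : Set G)) = q := by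
    have : W ⊓ Cen z = P := le_antisymm (fun x hx => hK.inf.le ⟨hWK hx.1, hx.2⟩) (le_inf hPW hPC)
    rw [← hPc, ← this]
  obtain ⟨v, hvW, hvo, hzv, hvI⟩ := exists_inverted (r := q) (by omega) hWc hzz hzW' hfix
  set I : Subgroup G := zpowers v
  haveI : IsCyclic (zpowers v) := isCyclic_of_prime_card (p := q) (by rw [Nat.card_zpowers, hvo])
  have hvne : v ≠ v⁻¹ := fun e => by
    have h2 : orderOf v ∣ 2 := orderOf_dvd_of_pow_eq_one (by rw [pow_two]; exact eq_inv_iff_mul_eq_one.1 e)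
    rw [hvo] at h2
    have := Nat.le_of_dvd two_pos h2
    omega
  have hMI : ∀ m ∈ M, m * v * m⁻¹ ∈ zpowers v := by
    intro m hm
    refine hvI _ ((mem_normalizer_iff.1 (hMW m hm) v).1 hvW) ?_
    have hmz : Commute m z := mem_centralizer_singleton_iff.1 hm.1
    calc z * (m * v * m⁻¹) * z⁻¹ = m * (z * v * z⁻¹) * m⁻¹ := by
          rw [show z * (m * v * m⁻¹) * z⁻¹ = (z * m) * v * (z * m)⁻¹ by group, ← hmz.eq]
          group
      _ = (m * v * m⁻¹)⁻¹ := by rw [hzv]; group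
  -- an involution inverting `P`
  haveI : IsCyclic (MulAut P) :=
    (IsCyclic.mulAutMulEquiv P).isCyclic.2 (ZMod.isCyclic_units_prime (hPc ▸ hqp))
  obtain ⟨a, ha⟩ := IsCyclic.exists_ofOrder_eq_natCard (α := MulAut P)
  rw [haut] at ha
  obtain ⟨g, hg⟩ := hψ a
  set h := g ^ q with hhdef
  have hψh : orderOf (ψ h) = q - 1 := by
    rw [hhdef, map_pow, hg, Nat.Coprime.orderOf_pow, ha]
    rw [ha, Nat.coprime_comm, hqp.coprime_iff_not_dvd]
    exact fun hd => by have := Nat.le_of_dvd (by omega) hd; omega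
  set t := h ^ (q - 1) with htdef
  have ht1 : (t : G) = 1 ∨ (t : G) = z := by
    have hker : g ^ (q - 1) ∈ ψ.ker := MonoidHom.mem_ker.2 (by rw [map_pow, hg, ← ha, pow_orderOf_eq_one])
    have hmem : ((g ^ (q - 1) : ↥M) : G) ∈ zpowers (u * z) := by
      rw [← hcz]
      exact ⟨(g ^ (q - 1)).2.1, (hφker (inclusion hMX _)).1 hker⟩
    obtain ⟨j, hj⟩ := mem_zpowers_iff.1 hmem
    have ht : (t : G) = (u * z) ^ (j * q) := by
      rw [htdef, hhdef, ← pow_mul, mul_comm q, pow_mul, SubmonoidClass.coe_pow, ← hj, ← zpow_natCast,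
        ← zpow_mul]
    have huz : (u * z) ^ (q : ℤ) = z := by
      have hzq : z ^ q = z := by
        obtain ⟨l, hl⟩ := hqodd
        rw [hl, pow_succ, pow_mul, pow_two, hzz, one_pow, one_mul]
      rw [zpow_natCast, (show Commute u z from mem_centralizer_singleton_iff.1 hu).mul_pow, hzq, ← huq,
        pow_orderOf_eq_one, one_mul]
    rw [mul_comm j, zpow_mul, huz] at ht
    rcases Int.even_or_odd' j with ⟨r, rfl | rfl⟩
    · left; rw [ht, zpow_mul, zpow_two, hzz, one_zpow]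
    · right; rw [ht, zpow_add, zpow_mul, zpow_two, hzz, one_zpow, one_mul, zpow_one]
  have hnorm : ∀ m ∈ M, m ∈ normalizer (I : Set G) := fun m hm => mem_normalizer_fintype fun x hx => by
    obtain ⟨k, rfl⟩ := mem_zpowers_iff.1 hx
    rw [← conj_zpow]
    exact zpow_mem (hMI m hm) k
  have ht : (t : G) = 1 := by
    refine ht1.resolve_right fun htz => hvne ?_
    let ρ : M →* MulAut I := (normalizerMonoidHom I).comp (inclusion (fun m hm => hnorm m hm))
    have hI : Nat.card (MulAut I) = q - 1 := by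
      rw [IsCyclic.card_mulAut, Nat.card_zpowers, hvo, Nat.totient_prime hqp]
    have h1 : t ∈ ρ.ker := MonoidHom.mem_ker.2 (by rw [htdef, map_pow, ← hI, pow_card_eq_one'])
    have h2 : (t : G) ∈ centralizer (I : Set G) := by
      have : inclusion (fun m hm => hnorm m hm) t ∈ (normalizerMonoidHom I).ker := h1
      rw [normalizerMonoidHom_ker] at this
      exact this
    rw [htz] at h2
    have h3 := mem_centralizer_iff.1 h2 v (mem_zpowers v)
    calc v = z * v * z⁻¹ := by rw [← h3, mul_inv_cancel_right]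
      _ = v⁻¹ := hzv
  obtain ⟨e, he⟩ : 2 ∣ q - 1 := by obtain ⟨l, hl⟩ := hqodd; exact ⟨l, by omega⟩
  set b : G := ((h ^ e : ↥M) : G)
  have hbM : b ∈ M := (h ^ e).2
  have hbb : b * b = 1 := by
    rw [← Subgroup.coe_mul, ← pow_add, ← two_mul, ← he]
    exact ht
  have hbCP : b ∉ centralizer (P : Set G) := fun hb => by
    have h1 : h ^ e ∈ ψ.ker := (hφker (inclusion hMX (h ^ e))).2 hb
    have h2 := orderOf_dvd_of_pow_eq_one (show ψ h ^ e = 1 by rw [← map_pow]; exact MonoidHom.mem_ker.1 h1)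
    rw [hψh, he] at h2
    have := Nat.le_of_dvd (by omega) h2
    omega
  have hbne : b ≠ 1 := fun e1 => hbCP (e1 ▸ one_mem _)
  have hbC : b ∈ Cen z := hbM.1
  -- one of `b`, `b z` centralizes the inverted part
  obtain ⟨b', hb'o, hb'v⟩ : ∃ b' : G, orderOf b' = 2 ∧ Commute b' v := by
    rcases conj_pm hvo hbb (hMI b hbM) with h' | h'
    · exact ⟨b, Cfsg.Lib.Invol.orderOf_eq_two_of hbne hbb, mul_inv_eq_iff_eq_mul.1 h'⟩
    · refine ⟨b * z, Cfsg.Lib.Invol.orderOf_eq_two_of (fun e1 => ?_) ?_, mul_inv_eq_iff_eq_mul.1 ?_⟩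
      · exact hbCP (by rw [eq_inv_of_mul_eq_one_left e1]; exact inv_mem hzCP)
      · have hbz : Commute b z := mem_centralizer_singleton_iff.1 hbC
        rw [mul_assoc, ← mul_assoc z b z, ← hbz.eq, mul_assoc b z z, hzz, mul_one, hbb]
      · calc b * z * v * (b * z)⁻¹ = b * (z * v * z⁻¹) * b⁻¹ := by group
          _ = (b * v * b⁻¹)⁻¹ := by rw [hzv]; group
          _ = v := by rw [h', inv_inv]
  -- the inverted part is conjugate to `P`
  obtain ⟨m, ⟨d⟩⟩ := exists_sd D.quasi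
  obtain ⟨g₁, hg₁⟩ := isConj_iff.1 (sd_isConj_involutions S d hna hb'o D.hz)
  have hv1 : g₁ * v * g₁⁻¹ ∈ Cen z := mem_centralizer_singleton_iff.2 (by
    rw [← hg₁]
    calc g₁ * v * g₁⁻¹ * (g₁ * b' * g₁⁻¹) = g₁ * (v * b') * g₁⁻¹ := by group
      _ = g₁ * (b' * v) * g₁⁻¹ := by rw [hb'v.symm.eq]
      _ = _ := by group)
  have hv1o : orderOf (g₁ * v * g₁⁻¹) = q := by
    rw [show g₁ * v * g₁⁻¹ = MulAut.conj g₁ v from rfl, MulEquiv.orderOf_eq, hvo]
  have hPs : Nat.card (P.subgroupOf (Cen z)) = q ^ (Nat.card ↥(Cen z)).factorization q := by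
    obtain ⟨R⟩ : Nonempty (Sylow q ↥(Cen z)) := inferInstance
    rw [Nat.card_congr (subgroupOfEquivOfLe hPC).toEquiv, hPc, ← R.card_eq_multiplicity,
      L.card_sylow_cen hq hq3 R]
  obtain ⟨R, hR⟩ := (IsPGroup.of_card (n := 1) (by
    rw [Nat.card_zpowers, Subgroup.orderOf_mk, hv1o, pow_one]) :
      IsPGroup q (zpowers (⟨_, hv1⟩ : ↥(Cen z)))).exists_le_sylow
  obtain ⟨c₁, hc₁⟩ := MulAction.exists_smul_eq ↥(Cen z) R (Sylow.ofCard _ hPs)
  set g₀ : G := (c₁ : G) * g₁
  have hv0 : g₀ * v * g₀⁻¹ ∈ P := by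
    have hm : c₁ * ⟨_, hv1⟩ * c₁⁻¹ ∈ (Sylow.ofCard _ hPs : Subgroup ↥(Cen z)) := by
      rw [← hc₁, Sylow.coe_subgroup_smul]
      exact ⟨⟨_, hv1⟩, hR (mem_zpowers _), rfl⟩
    rw [Sylow.coe_ofCard, mem_subgroupOf] at hm
    rw [show g₀ * v * g₀⁻¹ = (c₁ : G) * (g₁ * v * g₁⁻¹) * (c₁ : G)⁻¹ by
      show (c₁ : G) * g₁ * v * ((c₁ : G) * g₁)⁻¹ = _; group]
    exact hm
  -- both Sylow subgroups centralize `P`
  have habW : ∀ x ∈ W, ∀ y ∈ W, x * y = y * x := fun x hx y hy =>
    congrArg Subtype.val ((IsPGroup.isMulCommutative_of_card_eq_prime_sq hWc).1.comm ⟨x, hx⟩ ⟨y, hy⟩)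
  have hv0ne : g₀ * v * g₀⁻¹ ≠ 1 := fun e1 => by
    rw [conj_eq_one_iff.1 e1, orderOf_one] at hvo; omega
  have hPgen : P = zpowers (g₀ * v * g₀⁻¹) := by
    refine (eq_of_le_of_card_ge (zpowers_le.2 hv0) ?_).symm
    rw [hPc, Nat.card_zpowers, show g₀ * v * g₀⁻¹ = MulAut.conj g₀ v from rfl, MulEquiv.orderOf_eq, hvo]
  have hW2le : ((g₀ • Q : Sylow q G) : Subgroup G) ≤ centralizer (P : Set G) := by
    intro x hx
    rw [Sylow.coe_subgroup_smul] at hx
    obtain ⟨x', hx', rfl⟩ := hx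
    rw [SetLike.mem_coe, hQW] at hx'
    refine mem_centralizer_iff.2 fun y hy => ?_
    rw [SetLike.mem_coe, hPgen] at hy
    obtain ⟨k, rfl⟩ := mem_zpowers_iff.1 hy
    refine ((Commute.zpow_left ?_ k)).eq
    show g₀ * v * g₀⁻¹ * (g₀ * x' * g₀⁻¹) = g₀ * x' * g₀⁻¹ * (g₀ * v * g₀⁻¹)
    calc g₀ * v * g₀⁻¹ * (g₀ * x' * g₀⁻¹) = g₀ * (v * x') * g₀⁻¹ := by group
      _ = g₀ * (x' * v) * g₀⁻¹ := by rw [habW v hvW x' hx']
      _ = _ := by group
  have hQle : (Q : Subgroup G) ≤ centralizer (P : Set G) := hQW ▸ hWK.trans hK.le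
  obtain ⟨k, hk⟩ := MulAction.exists_smul_eq ↥(centralizer (P : Set G)) (Q.subtype hQle)
    ((g₀ • Q : Sylow q G).subtype hW2le)
  have hkQ : (k : G) • Q = g₀ • Q := by
    refine Sylow.ext (eq_of_le_of_card_ge ?_ (by rw [Sylow.card_eq_multiplicity, Sylow.card_eq_multiplicity]))
    intro x hx
    rw [Sylow.coe_subgroup_smul] at hx
    obtain ⟨x', hx', rfl⟩ := hx
    have hm : k * ⟨x', hQle hx'⟩ * k⁻¹ ∈ ((g₀ • Q : Sylow q G).subtype hW2le : Subgroup _) := by
      rw [← hk, Sylow.coe_subgroup_smul]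
      exact ⟨⟨x', hQle hx'⟩, by rw [SetLike.mem_coe, Sylow.coe_subtype, mem_subgroupOf]; exact hx', rfl⟩
    rw [Sylow.coe_subtype, mem_subgroupOf] at hm
    exact hm
  set n : G := (k : G)⁻¹ * g₀
  have hnQ : n • Q = Q := by
    rw [show n • Q = (k : G)⁻¹ • (g₀ • Q) from mul_smul _ _ _, ← hkQ, inv_smul_smul]
  have hnX : n ∈ X := by
    rw [← hNWX, ← hQW]
    exact Sylow.smul_eq_iff_mem_normalizer.1 hnQ
  have hnv : n * v * n⁻¹ ∈ P := by
    have hcomm := mem_centralizer_iff.1 k.2 _ hv0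
    rw [show n * v * n⁻¹ = (k : G)⁻¹ * (g₀ * v * g₀⁻¹ * k) by
      show (k : G)⁻¹ * g₀ * v * ((k : G)⁻¹ * g₀)⁻¹ = _; group, hcomm, inv_mul_cancel_left]
    exact hv0
  have hvP : v ∈ P := (mem_normalizer_iff.1 hnX.1 v).2 hnv
  have hvz := mem_centralizer_singleton_iff.1 (hPC hvP)
  exact hvne (by rw [← hzv, ← hvz, mul_inv_cancel_right])

end Cfsg.Lib.LenSeven
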