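import Cfsg.Agent.Lib.LenSeven.QDSetup
import Cfsg.Agent.Lib.Perm.SuborbitThree.CentralizerShape
import Cfsg.Agent.Lib.Small.CentralizerGL23Core
import Cfsg.Agent.Lib.Small.LThreeThreePoint
import Cfsg.Agent.S2916

/-!
# A quasi-dihedral Sylow subgroup and `q = 3`: `M₁₁`
-/

set_option autoImplicit false
set_option linter.style.haveILetI false
set_option linter.unusedSectionVars false

namespace Cfsg.Lib.LenSeven

open Cfsg Subgroup LenEight OrderSDW TwoGroup
open scoped MatrixGroups

universe u

variable {G : Type u} [Group G] [Fintype G] [Fact (Nat.Prime 2)] [IsSimpleGroup G]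

/-- The centralizer of an involution in the quotient by a normal subgroup of odd order. -/
theorem card_cent_quot {C : Type*} [Group C] [Finite C] (O : Subgroup C) [O.Normal]
    (hO : Odd (Nat.card O)) {b : C} (hb : orderOf b = 2) :
    Nat.card ↥(centralizer ({QuotientGroup.mk' O b} : Set (C ⧸ O))) *
      Nat.card ↥(O ⊓ centralizer ({b} : Set C)) = Nat.card ↥(centralizer ({b} : Set C)) := by
  set π := QuotientGroup.mk' O
  set D := centralizer ({b} : Set C)
  have hb2 : b * b = 1 := Cfsg.Lib.Invol.inv_mul_self hb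
  have hmap : centralizer ({π b} : Set (C ⧸ O)) = D.map π := by
    apply le_antisymm
    · intro q hq
      obtain ⟨x, rfl⟩ := QuotientGroup.mk'_surjective O q
      rw [mem_centralizer_singleton_iff] at hq
      set b' := x * b * x⁻¹ with hb'
      have hb'o : orderOf b' = 2 := by
        rw [hb', show x * b * x⁻¹ = MulAut.conj x b from rfl, MulEquiv.orderOf_eq, hb]
      have hker : b * b' ∈ O := by
        rw [← QuotientGroup.eq_one_iff, ← QuotientGroup.mk'_apply, hb', map_mul, map_mul, map_mul, map_inv,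
          hq, mul_inv_cancel_right, ← map_mul, hb2, map_one]
      have hodd : Odd (orderOf (b * b')) := by
        refine hO.of_dvd_nat ?_
        rw [show b * b' = ((⟨_, hker⟩ : O) : C) from rfl, Subgroup.orderOf_coe]
        exact orderOf_dvd_natCard _
      obtain ⟨d, hd, hde⟩ := Cfsg.Lib.Invol.exists_conj_zpowers_of_odd hb hb'o hodd
      have hdO : d ∈ O := zpowers_le.2 hker hd
      refine ⟨d⁻¹ * x, mem_centralizer_singleton_iff.2 ?_, ?_⟩
      · calc d⁻¹ * x * b = d⁻¹ * b' * x := by rw [hb']; group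
          _ = d⁻¹ * (d * b * d⁻¹) * x := by rw [hde]
          _ = b * (d⁻¹ * x) := by group
      · rw [map_mul, map_inv, (QuotientGroup.eq_one_iff d).2 hdO |> fun h => (show π d = 1 from h), inv_one,
          one_mul]
    · rintro _ ⟨x, hx, rfl⟩
      rw [mem_centralizer_singleton_iff, ← map_mul, ← map_mul, mem_centralizer_singleton_iff.1 hx]
  rw [hmap]
  let f : D →* C ⧸ O := π.comp D.subtype
  have hr : f.range = D.map π := by rw [MonoidHom.range_comp, range_subtype]
  have hk : Nat.card f.ker = Nat.card ↥(O ⊓ D) := by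
    rw [← card_map_of_injective D.subtype_injective]
    congr 2
    ext w
    constructor
    · rintro ⟨v, hv, rfl⟩
      exact ⟨(QuotientGroup.eq_one_iff _).1 hv, v.2⟩
    · rintro ⟨h1, h2⟩
      exact ⟨⟨w, h2⟩, (QuotientGroup.eq_one_iff _).2 h1, rfl⟩
  rw [← hr, ← hk, ← index_ker, mul_comm, card_mul_index]

theorem card_psl33 {K : Type} [Field K] [Fintype K] (hK : Fintype.card K = 3) :
    Nat.card (Matrix.ProjectiveSpecialLinearGroup (Fin 3) K) = 5616 := by
  classical
  have hS : Nat.card (Matrix.SpecialLinearGroup (Fin 3) K) = 5616 := by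
    have h := Cfsg.Lib.Linear.card_SL_mul (F := K) 3 (by norm_num)
    rw [Fin.prod_univ_three, hK] at h
    simp only [Fin.val_zero, Fin.val_one, Fin.val_two] at h
    norm_num [-Nat.card_eq_fintype_card] at h
    omega
  have hc : Nat.card (center (Matrix.SpecialLinearGroup (Fin 3) K)) = 1 := by
    rw [Cfsg.Lib.Linear.card_center_SL, hK]
    decide +kernel
  have := card_eq_card_quotient_mul_card_subgroup (center (Matrix.SpecialLinearGroup (Fin 3) K))
  rw [hS, hc, mul_one] at this
  exact this.symm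

theorem qd_three (hna : ¬ IsMulCommutative G) (hlen : LenLe (⊤ : Subgroup G) 7) {S : Sylow 2 G} {z : G}
    {F : Type} [Field F] [Fintype F] (D : QD16 S z F) (hF : Fintype.card F = 3) : Concl G := by
  classical
  obtain ⟨N, hN, ⟨e⟩⟩ := D.sl
  haveI := hN
  obtain ⟨hC, hr⟩ : Nat.card (Cen z) = 48 * Nat.card (oddCore ↥(Cen z)) ∧
      (Nat.card (oddCore ↥(Cen z)) = 1 ∨ (Nat.card (oddCore ↥(Cen z))).Prime ∧ IsCoatom (Cen z)) := by
    rcases D.shape with ⟨-, h⟩ | ⟨h5, -⟩
    · exact h
    · omega
  obtain ⟨ε, c, kc, hε, h4, hcen, ⟨X, Y, hX0, hX1, hY, hYodd, hX4, hEq⟩, hkc, hsize, b, hbC, hb, hbz, hkb⟩ :=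
    D.equations
  rw [hF] at h4 hY hX4 hEq hsize
  obtain rfl : ε = -1 := by
    rcases hε with rfl | rfl
    · norm_num at h4
    · rfl
  set r := Nat.card (oddCore ↥(Cen z)) with hrdef
  have hr0 : 0 < r := Nat.card_pos
  have hrodd : Odd r := Cfsg.Lib.ZStar.odd_card_oddCore
  have hkodd : Odd kc := hrodd.of_dvd_nat hkc
  rw [hC] at hsize hEq
  push_cast at hsize hEq hY hX4
  have hc : c = 4 * kc := by
    have h1 : (r : ℤ) * (12 * c) = r * (48 * kc) := by linarith
    have h2 := mul_left_cancel₀ (by exact_mod_cast hr0.ne') h1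
    omega
  have hz := D.hz
  set O := oddCore ↥(Cen z) with hOdef
  set π := QuotientGroup.mk' O with hπ
  have hQ48 : Nat.card (CQ z) = 48 := by
    have := card_eq_card_quotient_mul_card_subgroup O
    rw [hC, ← hrdef] at this
    exact (Nat.eq_of_mul_eq_mul_right hr0 this).symm
  -- the centralizer modulo its core is `GL(2, 3)`
  have hidx : N.index = 2 := by
    have := card_mul_index N
    rw [Nat.card_congr e.toEquiv, Cfsg.Lib.Linear.Two.card_SL_two, hF, hQ48] at this
    norm_num at this
    omega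
  have hcomm : commutator (CQ z) ≤ N := by
    haveI : IsCyclic (CQ z ⧸ N) := isCyclic_of_prime_card (p := 2) (by rw [← index_eq_card, hidx])
    letI := IsCyclic.commGroup (α := CQ z ⧸ N)
    rw [commutator_def, commutator_le]
    intro x _ y _
    rw [← QuotientGroup.eq_one_iff, ← QuotientGroup.mk'_apply, map_commutatorElement]
    exact commutatorElement_eq_one_iff_mul_comm.2 (mul_comm _ _)
  let bC : ↥(Cen z) := ⟨b, hbC⟩
  have hbo : orderOf bC = 2 := by rw [Subgroup.orderOf_mk, hb]
  have hv4 : Nat.card ↥(centralizer ({π bC} : Set (CQ z))) ≤ 4 := by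
    have h := card_cent_quot O hrodd hbo
    have e1 : Nat.card ↥(centralizer ({bC} : Set ↥(Cen z))) = c := by
      rw [← hcen b hbC hb hbz]
      exact Nat.card_congr
        { toFun := fun x => ⟨((x : ↥(Cen z)) : G), (x : ↥(Cen z)).2,
            mem_centralizer_singleton_iff.2 (congrArg Subtype.val (mem_centralizer_singleton_iff.1 x.2))⟩
          invFun := fun x => ⟨⟨x.1, x.2.1⟩,
            mem_centralizer_singleton_iff.2 (Subtype.ext (mem_centralizer_singleton_iff.1 x.2.2))⟩
          left_inv := fun x => rfl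
          right_inv := fun x => rfl }
    have e2 : Nat.card ↥(O ⊓ centralizer ({bC} : Set ↥(Cen z))) = kc := by
      rw [hkb, ← card_map_of_injective (Cen z).subtype_injective]
      congr 2
      ext w
      constructor
      · rintro ⟨v, ⟨h1, h2⟩, rfl⟩
        exact ⟨⟨v, h1, rfl⟩, mem_centralizer_singleton_iff.2
          (congrArg Subtype.val (mem_centralizer_singleton_iff.1 h2))⟩
      · rintro ⟨⟨v, h1, rfl⟩, h2⟩
        exact ⟨v, ⟨h1, mem_centralizer_singleton_iff.2
          (Subtype.ext (mem_centralizer_singleton_iff.1 h2))⟩, rfl⟩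
    rw [e1, e2, hc] at h
    exact (Nat.eq_of_mul_eq_mul_right hkodd.pos h).le
  obtain ⟨eQ⟩ := Perm.SubThree.nonempty_gl_of_sl (K := CQ z) D.odd
    (Core.pPrimeCore_quotient_eq_bot (p := 2)) (by rw [hQ48]; norm_num) N hcomm e (π bC)
    (by rw [← map_mul, show bC * bC = 1 from Cfsg.Lib.Invol.inv_mul_self hbo, map_one]) hv4
  let f : ↥(Cen z) →* GL (Fin 2) (ZMod 3) := eQ.toMonoidHom.comp π
  have hf : Function.Surjective f := eQ.surjective.comp (QuotientGroup.mk'_surjective _)
  have hker : f.ker = O := by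
    exact (MonoidHom.ker_mulEquiv_comp π eQ).trans (QuotientGroup.ker_mk' O)
  have hO : O = ⊥ := hker ▸ Cfsg.Lib.Small.CentralizerGL23.core_eq_bot' z hz f hf (hker ▸ hrodd)
  have hr1 : r = 1 := by rw [hrdef, hO, card_bot]
  have hk1 : kc = 1 := Nat.dvd_one.1 (hr1 ▸ hkc)
  let eG : ↥(Cen z) ≃* GL (Fin 2) (ZMod 3) :=
    MulEquiv.ofBijective f ⟨(MonoidHom.ker_eq_bot_iff f).mp (hker.trans hO), hf⟩
  rcases Cfsg.Lib.Small.CentralizerGL23.card_eq eG hz with hord | hord
  · exfalso
    obtain ⟨A, hA9, -, -, h432, -⟩ := Cfsg.Lib.Small.LThreeThree.exists_point_group eG hz hord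
    set NA := normalizer (A : Set G) with hNA
    haveI : Fact (Nat.Prime 3) := ⟨Nat.prime_three⟩
    have hA : Nat.card (A.subgroupOf NA) = 9 := by
      rw [Nat.card_congr (subgroupOfEquivOfLe le_normalizer).toEquiv, hA9]
    have hX : Nat.card (NA ⧸ A.subgroupOf NA) = 48 := by
      have := card_eq_card_quotient_mul_card_subgroup (A.subgroupOf NA)
      rw [h432, hA] at this
      omega
    obtain ⟨P, hP⟩ := Sylow.exists_subgroup_card_pow_prime (G := NA ⧸ A.subgroupOf NA) 2 (n := 4)
      (by rw [hX]; norm_num)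
    have hPlt : P < ⊤ := lt_top_iff_ne_top.2 fun h => by
      rw [h, card_top, hX] at hP
      norm_num at hP
    have h7 : Chain NA (2 + 5) :=
      (chain_normal (A.subgroupOf NA) (chain_of_card_eq_pow (p := 3) (by rw [hA]; norm_num))
        ((chain_of_card_eq_pow hP).succ hPlt)).top_subtype
    have hne : NA ≠ ⊤ := fun h => by
      rw [h, card_top, hord] at h432
      norm_num at h432
    have := chain_proper_le hlen hne h7
    omega
  · rcases Agent.S2916.result (pResidual_eq_top hna) z hz ⟨eG⟩ with ⟨K, iK, iK', hK, ⟨iso⟩⟩ | hM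
    · exfalso
      have := Nat.card_congr iso.toEquiv
      rw [hord, card_psl33 hK] at this
      omega
    · exact Or.inr (Or.inr (Or.inr (Or.inl hM)))

end Cfsg.Lib.LenSeven
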