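import Cfsg.Agent.Lib.LenSeven.QDCent
import Cfsg.Agent.Lib.Local.Sylow

/-!
# Tools for the two prime square arguments
-/

set_option autoImplicit false
set_option linter.style.haveILetI false
set_option linter.unusedSectionVars false

namespace Cfsg.Lib.LenSeven

open Cfsg Subgroup LenEight

universe u

variable {G : Type u} [Group G] [Finite G]

/-- A Sylow subgroup of a subgroup of odd order invariant under a `2`-group normalizing the subgroup. -/
theorem exists_invariant {K T : Subgroup G} (hK : Odd (Nat.card K)) (hT : IsPGroup 2 T)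
    (hnorm : ∀ t ∈ T, ∀ k ∈ K, t * k * t⁻¹ ∈ K) {r : ℕ} [Fact r.Prime] :
    ∃ W ≤ K, (∀ t ∈ T, ∀ w ∈ W, t * w * t⁻¹ ∈ W) ∧ Nat.card W = r ^ (Nat.card K).factorization r := by
  classical
  haveI : Fact (Nat.Prime 2) := ⟨Nat.prime_two⟩
  set m := r ^ (Nat.card K).factorization r with hm
  let α := {W : Subgroup G // W ≤ K ∧ Nat.card W = m}
  have hα : Nat.card (Sylow r K) = Nat.card α := by
    refine Nat.card_congr (Equiv.ofBijective
      (fun P : Sylow r K => (⟨(P : Subgroup K).map K.subtype, map_subtype_le _,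
        by rw [card_map_of_injective K.subtype_injective, P.card_eq_multiplicity]⟩ : α)) ⟨?_, ?_⟩)
    · intro P P' e
      exact Sylow.ext (map_injective K.subtype_injective (congrArg Subtype.val e))
    · rintro ⟨Q, hQ, hQc⟩
      have hc : Nat.card (Q.subgroupOf K) = m := by
        rw [Nat.card_congr (subgroupOfEquivOfLe hQ).toEquiv, hQc]
      refine ⟨Sylow.ofCard (Q.subgroupOf K) hc, Subtype.ext ?_⟩
      show (Sylow.ofCard (Q.subgroupOf K) hc : Subgroup K).map K.subtype = Q
      rw [Sylow.coe_ofCard, map_subgroupOf_eq_of_le hQ]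
  have hodd : ¬ 2 ∣ Nat.card α := by
    rw [← hα]
    obtain ⟨P⟩ : Nonempty (Sylow r K) := inferInstance
    intro h
    exact Nat.not_even_iff_odd.2 hK
      (even_iff_two_dvd.2 ((h.trans P.card_dvd_index).trans (index_dvd_card _)))
  letI : MulAction T α :=
    { smul := fun t W => ⟨W.1.map (MulAut.conj (t : G)).toMonoidHom,
        by
          rintro _ ⟨w, hw, rfl⟩
          exact hnorm t t.2 w (W.2.1 hw),
        by rw [card_map_of_injective (MulAut.conj (t : G)).injective, W.2.2]⟩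
      one_smul := fun W => Subtype.ext (by
        show W.1.map (MulAut.conj ((1 : T) : G)).toMonoidHom = W.1
        rw [OneMemClass.coe_one, map_one]
        exact map_id _)
      mul_smul := fun t t' W => Subtype.ext (by
        show W.1.map (MulAut.conj ((t * t' : T) : G)).toMonoidHom =
          (W.1.map (MulAut.conj (t' : G)).toMonoidHom).map (MulAut.conj (t : G)).toMonoidHom
        rw [map_map, Subgroup.coe_mul, map_mul]
        rfl) }
  obtain ⟨W, hW⟩ := hT.nonempty_fixed_point_of_prime_not_dvd_card α hodd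
  refine ⟨W.1, W.2.1, fun t ht w hw => ?_, W.2.2⟩
  have h := congrArg Subtype.val (hW ⟨t, ht⟩)
  rw [← h]
  exact ⟨w, hw, rfl⟩

/-- The part of an abelian group of order `r ^ 2` inverted by an involution fixing a part of order `r`. -/
theorem exists_inverted {W : Subgroup G} {r : ℕ} [hr : Fact r.Prime] (hr2 : r ≠ 2)
    (hWc : Nat.card W = r ^ 2) {z : G} (hz : z * z = 1) (hzW : ∀ w ∈ W, z * w * z⁻¹ ∈ W)
    (hfix : Nat.card ↥(W ⊓ centralizer ({z} : Set G)) = r) :
    ∃ v ∈ W, orderOf v = r ∧ z * v * z⁻¹ = v⁻¹ ∧ (∀ w ∈ W, z * w * z⁻¹ = w⁻¹ → w ∈ zpowers v) := by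
  classical
  have hab : IsMulCommutative W := IsPGroup.isMulCommutative_of_card_eq_prime_sq hWc
  have hcomm : ∀ a ∈ W, ∀ b ∈ W, a * b = b * a := fun a ha b hb =>
    congrArg Subtype.val (hab.1.comm ⟨a, ha⟩ ⟨b, hb⟩)
  have hzinv : z⁻¹ = z := inv_eq_of_mul_eq_one_right hz
  let f : W →* G :=
    { toFun := fun w => (w : G) * (z * w * z⁻¹)
      map_one' := by simp
      map_mul' := fun a b => by
        have h : (z * (a : G) * z⁻¹) * b = b * (z * a * z⁻¹) := hcomm _ (hzW a a.2) b b.2
        show ((a * b : W) : G) * (z * ((a * b : W) : G) * z⁻¹) =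
          (a : G) * (z * a * z⁻¹) * ((b : G) * (z * b * z⁻¹))
        rw [Subgroup.coe_mul, mul_assoc (a : G) (b : G), mul_assoc (a : G) (z * a * z⁻¹),
          ← mul_assoc (z * a * z⁻¹) (b : G), h]
        group }
  have hf : ∀ w : W, f w = (w : G) * (z * w * z⁻¹) := fun _ => rfl
  have hrange : f.range ≤ W ⊓ centralizer ({z} : Set G) := by
    rintro _ ⟨w, rfl⟩
    refine ⟨mul_mem w.2 (hzW w w.2), mem_centralizer_singleton_iff.2 ?_⟩
    rw [hf]
    calc (w : G) * (z * w * z⁻¹) * z = (z * w * z⁻¹) * w * z := by rw [hcomm _ w.2 _ (hzW w w.2)]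
      _ = z * (w * (z * w * z⁻¹)) := by rw [hzinv]; group
  set I := f.ker.map W.subtype with hI
  have hIW : I ≤ W := map_subtype_le _
  have hmem : ∀ w ∈ W, (w ∈ I ↔ z * w * z⁻¹ = w⁻¹) := by
    intro w hw
    constructor
    · rintro ⟨x, hx, rfl⟩
      exact eq_inv_of_mul_eq_one_right (MonoidHom.mem_ker.1 hx)
    · intro h
      exact ⟨⟨w, hw⟩, MonoidHom.mem_ker.2 (by rw [hf]; show w * (z * w * z⁻¹) = 1; rw [h, mul_inv_cancel]), rfl⟩
  have hIc : Nat.card I = Nat.card f.ker := card_map_of_injective W.subtype_injective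
  have hmul := card_mul_index f.ker
  rw [index_ker, hWc] at hmul
  have hle : Nat.card f.range ≤ r := hfix ▸ card_le_of_le hrange
  obtain ⟨i, hi, hIi⟩ := (Nat.dvd_prime_pow hr.out).1 (hWc ▸ card_dvd_of_le hIW)
  have hne2 : i ≠ 2 := by
    rintro rfl
    have e := eq_of_le_of_card_ge hIW (by rw [hIi, hWc])
    obtain ⟨p, ⟨hpW, hpz⟩, hp1⟩ := (W ⊓ centralizer ({z} : Set G)).bot_or_exists_ne_one.resolve_left
      fun e' => by rw [e', card_bot] at hfix; exact hr.out.one_lt.ne' hfix.symm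
    have h := (hmem p hpW).1 (e ▸ hpW)
    rw [← mem_centralizer_singleton_iff.1 hpz, mul_inv_cancel_right] at h
    have h2 : orderOf p ∣ 2 := orderOf_dvd_of_pow_eq_one (by
      rw [pow_two]; exact eq_inv_iff_mul_eq_one.1 h)
    have hpr : orderOf p ∣ r := by
      rw [← hfix, ← Subgroup.orderOf_mk p (show p ∈ W ⊓ centralizer ({z} : Set G) from ⟨hpW, hpz⟩)]
      exact _root_.orderOf_dvd_natCard _
    have := Nat.eq_one_of_dvd_coprimes ((Nat.coprime_primes Nat.prime_two hr.out).2 (Ne.symm hr2)) h2 hpr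
    exact hp1 (orderOf_eq_one_iff.1 this)
  have hi1 : i = 1 := by
    rcases (show i = 0 ∨ i = 1 by omega) with rfl | rfl
    · rw [← hIc, hIi, pow_zero, one_mul] at hmul
      rw [hmul] at hle
      nlinarith [hr.out.two_le]
    · rfl
  rw [hi1, pow_one] at hIi
  obtain ⟨v, hv, hv1⟩ := I.bot_or_exists_ne_one.resolve_left fun e => by
    rw [e, card_bot] at hIi; exact hr.out.one_lt.ne' hIi.symm
  have hvo : orderOf v = r := by
    have hd : orderOf v ∣ r := by
      rw [← hIi, ← Subgroup.orderOf_mk v hv]; exact _root_.orderOf_dvd_natCard _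
    exact ((Nat.dvd_prime hr.out).1 hd).resolve_left fun e => hv1 (orderOf_eq_one_iff.1 e)
  refine ⟨v, hIW hv, hvo, (hmem v (hIW hv)).1 hv, fun w hw h => ?_⟩
  have heq : zpowers v = I := eq_of_le_of_card_ge (zpowers_le.2 hv) (by rw [Nat.card_zpowers, hvo, hIi])
  exact heq ▸ (hmem w hw).2 h

/-- An involution normalizing a subgroup of prime order centralizes or inverts it. -/
theorem conj_pm {r : ℕ} [hr : Fact r.Prime] {v b : G} (hv : orderOf v = r) (hb : b * b = 1)
    (h : b * v * b⁻¹ ∈ zpowers v) : b * v * b⁻¹ = v ∨ b * v * b⁻¹ = v⁻¹ := by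
  obtain ⟨k, hk⟩ := mem_zpowers_iff.1 h
  have h2 : v ^ (k * k) = v := by
    calc v ^ (k * k) = (b * v * b⁻¹) ^ k := by rw [zpow_mul, hk]
      _ = b * v ^ k * b⁻¹ := conj_zpow
      _ = b * (b * v * b⁻¹) * b⁻¹ := by rw [hk]
      _ = (b * b) * v * (b * b)⁻¹ := by group
      _ = v := by rw [hb, one_mul, inv_one, mul_one]
  have hdvd : (r : ℤ) ∣ (k - 1) * (k + 1) := by
    rw [← hv, orderOf_dvd_iff_zpow_eq_one, show (k - 1) * (k + 1) = k * k + (-1) by ring, zpow_add, h2,
      zpow_neg_one, mul_inv_cancel]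
  rcases (Nat.prime_iff_prime_int.1 hr.out).dvd_or_dvd hdvd with hd | hd
  · left
    rw [← hk, ← zpow_one v, ← zpow_mul, one_mul, zpow_eq_zpow_iff_modEq, hv, Int.modEq_iff_dvd,
      show (1 : ℤ) - k = -(k - 1) by ring]
    exact (dvd_neg).2 hd
  · right
    rw [← hk, ← zpow_neg_one, zpow_eq_zpow_iff_modEq, hv, Int.modEq_iff_dvd,
      show (-1 : ℤ) - k = -(k + 1) by ring]
    exact (dvd_neg).2 hd

/-- A group with a cyclic Sylow `2`-subgroup has its elements of odd order in a subgroup of odd order. -/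
theorem exists_complement {X : Subgroup G} [Fact (Nat.Prime 2)] (T : Sylow 2 X) (hT : IsCyclic T)
    (h2 : 2 ∣ Nat.card X) :
    ∃ K ≤ X, Odd (Nat.card K) ∧ Nat.card X = Nat.card (T : Subgroup X) * Nat.card K ∧
      ∀ g ∈ X, Odd (orderOf g) → g ∈ K := by
  have hmin : (Nat.card X).minFac = 2 := (Nat.minFac_eq_two_iff _).2 h2
  have hcomp := IsCyclic.isComplement' hmin hT
  set hle := hT.normalizer_le_centralizer hmin
  set K₁ := (MonoidHom.transferSylow T hle).ker
  have hK1 : Nat.card K₁ * Nat.card (T : Subgroup X) = Nat.card X := hcomp.card_mul_card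
  have hodd : Odd (Nat.card K₁) := by
    have hidx : (T : Subgroup X).index = Nat.card K₁ := by
      have := card_mul_index (T : Subgroup X)
      rw [← hK1, mul_comm (Nat.card K₁)] at this
      exact Nat.eq_of_mul_eq_mul_left Nat.card_pos this
    rw [← hidx, ← Nat.not_even_iff_odd, even_iff_two_dvd]
    exact T.not_dvd_index
  refine ⟨K₁.map X.subtype, map_subtype_le _, by rwa [card_map_of_injective X.subtype_injective],
    by rw [card_map_of_injective X.subtype_injective, ← hK1, mul_comm], fun g hg hgo => ⟨⟨g, hg⟩, ?_, rfl⟩⟩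
  rw [SetLike.mem_coe, MonoidHom.mem_ker, ← orderOf_eq_one_iff]
  obtain ⟨k, hk⟩ := IsPGroup.iff_orderOf.1 T.2 (MonoidHom.transferSylow T hle ⟨g, hg⟩)
  have h3 := orderOf_map_dvd (MonoidHom.transferSylow T hle) (⟨g, hg⟩ : X)
  rw [hk, Subgroup.orderOf_mk] at h3
  have hcop : Nat.Coprime (2 ^ k) (orderOf g) := Nat.Coprime.pow_left _ (Nat.coprime_two_left.2 hgo)
  rw [hk]
  exact Nat.eq_one_of_dvd_coprimes hcop dvd_rfl h3

/-- A chain through a normal subgroup `W` and a subgroup meeting it trivially. -/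
theorem chain_cross {W T : Subgroup G} (hWT : ∀ t ∈ T, ∀ w ∈ W, t * w * t⁻¹ ∈ W) (hinf : W ⊓ T = ⊥)
    {a b : ℕ} (ha : Chain W a) (hb : Chain T b) : Chain (W ⊔ T) (a + b) := by
  set X := W ⊔ T
  haveI : (W.subgroupOf X).Normal := normal_subgroupOf_iff_le_normalizer le_sup_left |>.2
    (sup_le le_normalizer fun t ht => mem_normalizer_fintype fun w hw => hWT t ht w hw)
  refine (chain_normal (W.subgroupOf X) (ha.to_subtype le_sup_left) ?_).top_subtype
  let f : T →* X ⧸ W.subgroupOf X := (QuotientGroup.mk' _).comp (inclusion le_sup_right)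
  have hf : Function.Injective f := (injective_iff_map_eq_one f).2 fun t ht => by
    have h1 : (t : G) ∈ W := mem_subgroupOf.1 ((QuotientGroup.eq_one_iff (inclusion (le_sup_right : T ≤ X) t)).1 ht)
    have : (t : G) ∈ W ⊓ T := ⟨h1, t.2⟩
    rw [hinf, mem_bot] at this
    exact Subtype.ext this
  exact ((chain_top_of_le hb).map f hf).mono le_top

end Cfsg.Lib.LenSeven
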