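import Cfsg.Agent.Lib.LenSeven.EssEight
import Cfsg.Agent.Lib.LenSeven.EssSixteen
import Cfsg.Agent.S5186
import Cfsg.Agent.S0080

/-!
# Sylow subgroups of order 32 and rank at least three

There is no simple group with such a Sylow 2-subgroup `S`, nonabelian, if the normalizer of `S` is `S` or a
maximal subgroup.
-/

set_option autoImplicit false
set_option linter.style.haveILetI false
set_option linter.unusedSectionVars false

namespace Cfsg.Lib.LenSeven

open Subgroup LenEight Cfsg.FusionSystem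
open scoped commutatorElement

universe u

variable {G : Type u} [Group G] [Finite G]

theorem quaternion_center : ∀ m : QuaternionGroup 2, m * m = 1 → (∀ m', m * m' = m' * m) →
    m = 1 ∨ m = QuaternionGroup.a 2 := by
  decide

/-- A central involution of `S` is the only involution of a quaternion essential subgroup. -/
theorem IsEss.eq_of_quaternion {S : Sylow 2 G} {P : Subgroup G} (h : IsEss S P) (e : P ≃* QuaternionGroup 2)
    {c : G} (hcS : c ∈ (S : Subgroup G)) (hc2 : c * c = 1) (hc1 : c ≠ 1)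
    (hcc : ∀ s ∈ (S : Subgroup G), s * c = c * s) {d : G} (hd : d ∈ P) (hd2 : d * d = 1) (hd1 : d ≠ 1)
    (hdc : ∀ x ∈ P, x * d = d * x) : d = c := by
  have hcP : c ∈ P := h.mem_of_commute hcS fun x hx => (hcc x (h.le hx)).symm
  have key : ∀ w (hw : w ∈ P), w * w = 1 → w ≠ 1 → (∀ x ∈ P, x * w = w * x) →
      e ⟨w, hw⟩ = QuaternionGroup.a 2 := fun w hw hw2 hw1 hwc => by
    refine (quaternion_center _ ?_ fun m => ?_).resolve_left fun e1 => hw1 ?_
    · rw [← map_mul, show (⟨w, hw⟩ : P) * ⟨w, hw⟩ = 1 from Subtype.ext hw2, map_one]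
    · obtain ⟨p, rfl⟩ := e.surjective m
      rw [← map_mul, ← map_mul]
      exact congrArg e (Subtype.ext (hwc p p.2).symm)
    · exact congrArg Subtype.val (e.injective (e1.trans (map_one e).symm))
  have := (key d hd hd2 hd1 hdc).trans (key c hcP hc2 hc1 fun x hx => hcc x (h.le hx)).symm
  exact congrArg Subtype.val (e.injective this)

/-- A quaternion essential subgroup fixes every central involution of `S`. -/
theorem IsEss.commute_of_quaternion {S : Sylow 2 G} {P : Subgroup G} (h : IsEss S P)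
    (e : P ≃* QuaternionGroup 2) {c : G} (hcS : c ∈ (S : Subgroup G)) (hc2 : c * c = 1) (hc1 : c ≠ 1)
    (hcc : ∀ s ∈ (S : Subgroup G), s * c = c * s) {n : G} (hn : n ∈ normalizer (P : Set G)) :
    n * c = c * n := by
  have hcP : c ∈ P := h.mem_of_commute hcS fun x hx => (hcc x (h.le hx)).symm
  refine mul_inv_eq_iff_eq_mul.1 (h.eq_of_quaternion e hcS hc2 hc1 hcc ((mem_normalizer_iff.1 hn c).1 hcP)
    ?_ ?_ fun x hx => ?_)
  · rw [show n * c * n⁻¹ * (n * c * n⁻¹) = n * (c * c) * n⁻¹ by group, hc2, mul_one, mul_inv_cancel]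
  · exact fun e1 => hc1 (by rwa [mul_inv_eq_one, mul_eq_left] at e1)
  · have hx' : n⁻¹ * x * n ∈ P := (mem_normalizer_iff.1 hn _).2 (by simpa [mul_assoc] using hx)
    have h1 := hcc _ (h.le hx')
    calc x * (n * c * n⁻¹) = n * (n⁻¹ * x * n * c) * n⁻¹ := by group
      _ = n * (c * (n⁻¹ * x * n)) * n⁻¹ := by rw [h1]
      _ = n * c * n⁻¹ * x := by group

/-- An abelian maximal subgroup, when the commutator subgroup is a central four-group. -/
theorem exists_abelian_index_two (S : Sylow 2 G) (h32 : Nat.card (S : Subgroup G) = 32) {B : Subgroup G}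
    (hBS : B ≤ (S : Subgroup G)) (hB : ∀ b ∈ B, b * b = 1) (hB8 : Nat.card B = 8)
    (hno16 : ∀ E : Subgroup G, E ≤ (S : Subgroup G) → (∀ x ∈ E, x * x = 1) → Nat.card E ≠ 16)
    (hnab : ¬ ∀ x ∈ (S : Subgroup G), ∀ y ∈ (S : Subgroup G), x * y = y * x) {D : Subgroup G}
    (hD : D = ⁅(S : Subgroup G), (S : Subgroup G)⁆) (hD4 : IsFour D)
    (hDc : ∀ d ∈ D, ∀ s ∈ (S : Subgroup G), s * d = d * s) :
    ∃ A : Subgroup G, A ≤ (S : Subgroup G) ∧ Nat.card A = 16 ∧ (∀ x ∈ A, ∀ y ∈ A, x * y = y * x) ∧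
      ∀ A' : Subgroup G, A' ≤ (S : Subgroup G) → Nat.card A' = 16 → (∀ x ∈ A', ∀ y ∈ A', x * y = y * x) →
        A' = A := by
  classical
  have hDS : D ≤ (S : Subgroup G) := hD ▸ commutator_le_self _
  have hmemD : ∀ {s t : G}, s ∈ (S : Subgroup G) → t ∈ (S : Subgroup G) → ⁅s, t⁆ ∈ D := fun hs ht =>
    hD ▸ commutator_mem_commutator hs ht
  have hbil : ∀ {s s' t : G}, s ∈ (S : Subgroup G) → s' ∈ (S : Subgroup G) → t ∈ (S : Subgroup G) →
      ⁅s * s', t⁆ = ⁅s', t⁆ * ⁅s, t⁆ := by
    intro s s' t hs hs' ht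
    calc ⁅s * s', t⁆ = s * ⁅s', t⁆ * (t * s⁻¹ * t⁻¹) := by simp only [commutatorElement_def]; group
      _ = ⁅s', t⁆ * ⁅s, t⁆ := by
        rw [hDc _ (hmemD hs' ht) s hs, mul_assoc]; simp only [commutatorElement_def]; group
  have hsymm : ∀ {s t : G}, s ∈ (S : Subgroup G) → t ∈ (S : Subgroup G) → ⁅t, s⁆ = ⁅s, t⁆ := fun hs ht => by
    rw [← commutatorElement_inv, inv_self (hD4.2 _ (hmemD hs ht))]
  have hbil' : ∀ {s t t' : G}, s ∈ (S : Subgroup G) → t ∈ (S : Subgroup G) → t' ∈ (S : Subgroup G) →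
      ⁅s, t * t'⁆ = ⁅s, t'⁆ * ⁅s, t⁆ := by
    intro s t t' hs ht ht'
    rw [hsymm (mul_mem ht ht') hs, hbil ht ht' hs, hsymm hs ht', hsymm hs ht]
  have hne32 : ∀ E : Subgroup G, E ≤ (S : Subgroup G) → (∀ x ∈ E, ∀ y ∈ E, x * y = y * x) →
      8 < Nat.card E → Nat.card E = 16 := by
    intro E hE hEc hlt
    have hd := card_dvd_of_le hE
    rw [h32] at hd
    obtain ⟨k, hk, hEk⟩ := (Nat.dvd_prime_pow Nat.prime_two).1 (show Nat.card E ∣ 2 ^ 5 from hd)
    have h' : Nat.card E ≠ 32 := fun e => hnab (by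
      rw [← eq_of_le_of_card_ge hE (by rw [h32, e])]
      exact hEc)
    rw [hEk] at hlt h' ⊢
    interval_cases k <;> simp at hlt h' ⊢
  -- `D ≤ B`
  have hDB : D ≤ B := by
    have hDN : B ≤ normalizer (D : Set G) := fun b hb => by
      refine mem_normalizer_iff.2 fun d => ⟨fun hd => ?_, fun hd => ?_⟩
      · rw [hDc d hd b (hBS hb), mul_inv_cancel_right]; exact hd
      · have h1 := hDc _ hd b⁻¹ (inv_mem (hBS hb))
        rw [show b⁻¹ * (b * d * b⁻¹) = d * b⁻¹ by group] at h1
        rw [mul_right_cancel h1]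
        exact hd
    have hsq : ∀ x ∈ B ⊔ D, x * x = 1 := by
      intro x hx
      rw [← SetLike.mem_coe, coe_mul_of_left_le_normalizer_right _ _ hDN] at hx
      obtain ⟨b, hb, d, hd, rfl⟩ := hx
      show b * d * (b * d) = 1
      rw [mul_assoc, ← mul_assoc d b, ← hDc d hd b (hBS hb), mul_assoc b d d, hD4.2 d hd, mul_one, hB b hb]
    have hle : B ⊔ D ≤ (S : Subgroup G) := sup_le hBS hDS
    by_contra hcon
    refine hno16 _ hle hsq (hne32 _ hle (fun x hx y hy => comm_of_sq hsq hx hy) ?_)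
    rw [← hB8]
    refine lt_of_le_of_ne (card_le_of_le le_sup_left) fun e => hcon ?_
    rw [eq_of_le_of_card_ge (le_sup_left : B ≤ B ⊔ D) e.ge]
    exact le_sup_right
  obtain ⟨u, huB, huD⟩ : ∃ u ∈ B, u ∉ D := by
    refine SetLike.exists_of_lt (lt_of_le_of_ne hDB fun e => ?_)
    have h4 := hD4.1
    rw [e, hB8] at h4
    omega
  have huS := hBS huB
  have hDi : (D.subgroupOf B).index = 2 := by
    have := card_mul_index (D.subgroupOf B)
    rw [Nat.card_congr (subgroupOfEquivOfLe hDB).toEquiv, hD4.1, hB8] at this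
    omega
  -- existence
  have hex : ∃ A : Subgroup G, A ≤ (S : Subgroup G) ∧ Nat.card A = 16 ∧ ∀ x ∈ A, ∀ y ∈ A, x * y = y * x := by
    by_cases hker : ∀ s ∈ (S : Subgroup G), ⁅s, u⁆ = 1 → s ∈ B
    · let ψ : (S : Subgroup G) →* G :=
        { toFun := fun s => ⁅(s : G), u⁆
          map_one' := by simp
          map_mul' := fun s s' => by
            rw [coe_mul, hbil s.2 s'.2 huS]
            exact (hDc _ (hmemD s.2 huS) _ (hDS (hmemD s'.2 huS))) }
      have hψker : Nat.card ψ.ker = 8 := by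
        rw [← hB8]
        exact Nat.card_congr
          { toFun := fun s => ⟨((s : (S : Subgroup G)) : G), hker _ s.1.2 s.2⟩
            invFun := fun b => ⟨⟨b, hBS b.2⟩,
              commutatorElement_eq_one_iff_mul_comm.2 (comm_of_sq hB b.2 huB)⟩
            left_inv := fun s => rfl
            right_inv := fun b => rfl }
      have hrange : ψ.range = D := by
        refine eq_of_le_of_card_ge ?_ ?_
        · rintro _ ⟨s, rfl⟩
          exact hmemD s.2 huS
        · have h1 := card_eq_card_quotient_mul_card_subgroup ψ.ker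
          rw [Nat.card_congr (QuotientGroup.quotientKerEquivRange ψ).toEquiv, hψker, h32] at h1
          rw [hD4.1]
          omega
      obtain ⟨α, hα, hα1⟩ := D.bot_or_exists_ne_one.resolve_left fun e => by
        have h4 := hD4.1
        rw [e, card_bot] at h4
        omega
      obtain ⟨β, hβ, hβ1, hβα⟩ := hD4.exists_other α
      obtain ⟨⟨s, hs⟩, hsα⟩ : α ∈ ψ.range := hrange.symm ▸ hα
      obtain ⟨⟨t, ht⟩, htβ⟩ : β ∈ ψ.range := hrange.symm ▸ hβ
      change ⁅s, u⁆ = α at hsα
      change ⁅t, u⁆ = β at htβ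
      have huu : ⁅u, u⁆ = 1 := commutatorElement_self u
      obtain ⟨s', hs', t', ht', hs'u, ht'u, hst⟩ : ∃ s' ∈ (S : Subgroup G), ∃ t' ∈ (S : Subgroup G),
          ⁅s', u⁆ = α ∧ ⁅t', u⁆ = β ∧ ⁅s', t'⁆ = 1 := by
        have hsu : ⁅s * u, u⁆ = α := by rw [hbil hs huS huS, huu, one_mul, hsα]
        have htu : ⁅t * u, u⁆ = β := by rw [hbil ht huS huS, huu, one_mul, htβ]
        have hut : ⁅u, t⁆ = β := by rw [hsymm ht huS, htβ]
        rcases four_cases hD4 hα hβ hα1 hβ1 (Ne.symm hβα) (hmemD hs ht) with hγ | hγ | hγ | hγ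
        · exact ⟨s, hs, t, ht, hsα, htβ, hγ⟩
        · refine ⟨s, hs, t * u, mul_mem ht huS, hsα, htu, ?_⟩
          rw [hbil' hs ht huS, hsα, hγ, hD4.2 α hα]
        · refine ⟨s * u, mul_mem hs huS, t, ht, hsu, htβ, ?_⟩
          rw [hbil hs huS ht, hut, hγ, hD4.2 β hβ]
        · refine ⟨s * u, mul_mem hs huS, t * u, mul_mem ht huS, hsu, htu, ?_⟩
          rw [hbil' (mul_mem hs huS) ht huS, hsu, hbil hs huS ht, hut, hγ, ← mul_assoc,
            hD4.2 _ (mul_mem hα hβ)]
      set K : Set G := {s', t'} ∪ (D : Set G) with hK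
      have hKS : K ⊆ ((S : Subgroup G) : Set G) := by
        rintro x ((rfl | rfl) | hx)
        exacts [hs', ht', hDS hx]
      have hKc : ∀ x ∈ K, ∀ y ∈ K, x * y = y * x := by
        have hst' := commutatorElement_eq_one_iff_mul_comm.1 hst
        rintro x hx y (hy | hy)
        · rcases hx with hx | hx
          · rcases hx with rfl | rfl <;> rcases hy with rfl | rfl
            exacts [rfl, hst', hst'.symm, rfl]
          · exact (hDc x hx y (hKS (Or.inl hy))).symm
        · exact hDc y hy x (hKS hx)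
      haveI := isMulCommutative_closure hKc
      have hAS : closure K ≤ (S : Subgroup G) := (closure_le _).2 hKS
      have hAc : ∀ x ∈ closure K, ∀ y ∈ closure K, x * y = y * x := fun x hx y hy =>
        congrArg Subtype.val (mul_comm' (⟨x, hx⟩ : closure K) ⟨y, hy⟩)
      refine ⟨_, hAS, hne32 _ hAS hAc ?_, hAc⟩
      let ψ' : closure K →* G := ψ.comp (inclusion hAS)
      have h1 := card_eq_card_quotient_mul_card_subgroup ψ'.ker
      rw [Nat.card_congr (QuotientGroup.quotientKerEquivRange ψ').toEquiv] at h1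
      have hr : 4 ≤ Nat.card ψ'.range := by
        rw [← hD4.1]
        refine card_le_of_le (hD4.le_of_mem (a := α) (b := β) hα hβ hα1 hβ1 (Ne.symm hβα)
          ⟨⟨s', subset_closure (Or.inl (Or.inl rfl))⟩, ?_⟩ ⟨⟨t', subset_closure (Or.inl (Or.inr rfl))⟩, ?_⟩)
        exacts [hs'u, ht'u]
      have hk : 4 ≤ Nat.card ψ'.ker := by
        rw [← hD4.1]
        refine Nat.card_le_card_of_injective (fun d : D => (⟨⟨d, subset_closure (Or.inr d.2)⟩,
          commutatorElement_eq_one_iff_mul_comm.2 (hDc d d.2 u huS).symm⟩ : ψ'.ker)) fun a b hab =>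
            Subtype.ext (congrArg (fun p : ψ'.ker => ((p : closure K) : G)) hab)
      rw [h1]
      nlinarith
    · push Not at hker
      obtain ⟨s, hs, hsu, hsB⟩ := hker
      have hKc : ∀ x ∈ insert s (B : Set G), ∀ y ∈ insert s (B : Set G), x * y = y * x := by
        have h1 : ∀ b ∈ B, s * b = b * s := fun b hb => by
          by_cases hbD : b ∈ D
          · exact hDc b hbD s hs
          · have h2 : u * b ∈ D :=
              (mul_mem_iff_of_index_two hDi (a := ⟨u, huB⟩) (b := ⟨b, hb⟩)).2 (iff_of_false huD hbD)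
            have h3 := hDc _ h2 s hs
            have h4 := commutatorElement_eq_one_iff_mul_comm.1 hsu
            rw [← mul_assoc, h4, mul_assoc, mul_assoc] at h3
            exact mul_left_cancel h3
        rintro x (rfl | hx) y (rfl | hy)
        exacts [rfl, h1 y hy, (h1 x hx).symm, comm_of_sq hB hx hy]
      haveI := isMulCommutative_closure hKc
      have hAS : closure (insert s (B : Set G)) ≤ (S : Subgroup G) :=
        (closure_le _).2 (Set.insert_subset hs hBS)
      have hAc : ∀ x ∈ closure (insert s (B : Set G)), ∀ y ∈ closure (insert s (B : Set G)),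
          x * y = y * x := fun x hx y hy =>
        congrArg Subtype.val (mul_comm' (⟨x, hx⟩ : closure (insert s (B : Set G))) ⟨y, hy⟩)
      refine ⟨_, hAS, hne32 _ hAS hAc ?_, hAc⟩
      have hBA : B ≤ closure (insert s (B : Set G)) := fun b hb => subset_closure (Or.inr hb)
      rw [← hB8]
      refine lt_of_le_of_ne (card_le_of_le hBA) fun e => hsB ?_
      rw [eq_of_le_of_card_ge hBA e.ge]
      exact subset_closure (Or.inl rfl)
  obtain ⟨A, hAS, hA16, hAc⟩ := hex
  refine ⟨A, hAS, hA16, hAc, fun A' hA'S hA'16 hA'c => ?_⟩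
  by_contra hne
  obtain ⟨a', ha', ha'A⟩ := SetLike.not_le_iff_exists.1 fun hle : A' ≤ A =>
    hne (eq_of_le_of_card_ge hle (by rw [hA16, hA'16]))
  have hAi : A.relIndex (S : Subgroup G) = 2 := by
    have := card_mul_index (A.subgroupOf (S : Subgroup G))
    rw [Nat.card_congr (subgroupOfEquivOfLe hAS).toEquiv, hA16, h32] at this
    show (A.subgroupOf (S : Subgroup G)).index = 2
    omega
  set Z₀ := A ⊓ A' with hZ₀
  have hdec : ∀ {s : G}, s ∈ (S : Subgroup G) → s ∈ A ∨ s * a' ∈ A := fun hs =>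
    mem_or_mul_mem S hAi (hA'S ha') ha'A hs
  obtain ⟨a, ha, haA'⟩ := SetLike.not_le_iff_exists.1 fun hle : A ≤ A' =>
    hne (eq_of_le_of_card_ge hle (by rw [hA16, hA'16])).symm
  have hA'i : A'.relIndex (S : Subgroup G) = 2 := by
    have := card_mul_index (A'.subgroupOf (S : Subgroup G))
    rw [Nat.card_congr (subgroupOfEquivOfLe hA'S).toEquiv, hA'16, h32] at this
    show (A'.subgroupOf (S : Subgroup G)).index = 2
    omega
  set κ := ⁅a, a'⁆ with hκ
  have hκ' : ∀ s₀ ∈ A, ⁅s₀, a'⁆ ∈ zpowers κ := fun s₀ hs₀ => by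
    by_cases h : s₀ ∈ A'
    · rw [commutatorElement_eq_one_iff_mul_comm.2 (hA'c _ h _ ha')]
      exact one_mem _
    · have h1 : a * s₀ ∈ A' := (mul_mem_iff_two S hA'i (hAS ha) (hAS hs₀)).2 (iff_of_false haA' h)
      have h2 : ⁅a * s₀, a'⁆ = 1 := commutatorElement_eq_one_iff_mul_comm.2 (hA'c _ h1 _ ha')
      rw [hbil (hAS ha) (hAS hs₀) (hA'S ha')] at h2
      rw [eq_inv_of_mul_eq_one_left h2]
      exact inv_mem (mem_zpowers κ)
  have hle : D ≤ zpowers κ := by
    rw [hD, commutator_le]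
    intro s hs t ht
    have hself : ⁅a', a'⁆ = 1 := commutatorElement_self a'
    have hAA : ∀ p ∈ A, ∀ q ∈ A, ⁅p, q⁆ = 1 := fun p hp q hq =>
      commutatorElement_eq_one_iff_mul_comm.2 (hAc p hp q hq)
    -- against an element of `A`
    have hA_any : ∀ p ∈ A, ∀ q ∈ (S : Subgroup G), ⁅p, q⁆ ∈ zpowers κ := fun p hp q hq => by
      rcases hdec hq with h | h
      · rw [hAA p hp q h]; exact one_mem _
      · have h1 := hbil' (hAS hp) hq (hA'S ha')
        rw [hAA p hp _ h] at h1
        rw [eq_inv_of_mul_eq_one_right h1.symm]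
        exact inv_mem (hκ' p hp)
    rcases hdec hs with h | h
    · exact hA_any s h t ht
    · have h1 := hbil hs (hA'S ha') ht
      have h2 : ⁅a', t⁆ ∈ zpowers κ := by
        rcases hdec ht with h' | h'
        · rw [hsymm (hAS h') (hA'S ha')]
          exact hκ' t h'
        · have h3 := hbil' (hA'S ha') ht (hA'S ha')
          rw [hself, one_mul] at h3
          rw [← h3, hsymm (hAS h') (hA'S ha')]
          exact hκ' _ h'
      have h4 : ⁅s, t⁆ = ⁅a', t⁆⁻¹ * ⁅s * a', t⁆ := by rw [h1, inv_mul_cancel_left]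
      rw [h4]
      exact mul_mem (inv_mem h2) (hA_any _ h t ht)
  have h4 := card_le_of_le hle
  rw [Nat.card_zpowers, hD4.1] at h4
  have h2 : orderOf κ ≤ 2 := Nat.le_of_dvd two_pos
    (orderOf_dvd_of_pow_eq_one (by rw [pow_two]; exact hD4.2 _ (hmemD (hAS ha) (hA'S ha'))))
  omega

variable [IsSimpleGroup G]

/-- Rank three: an elementary abelian subgroup of order eight, none of order sixteen. -/
theorem false_of_rank_three (hna : ¬ IsMulCommutative G) (S : Sylow 2 G)
    (h32 : Nat.card (S : Subgroup G) = 32) {B : Subgroup G} (hBS : B ≤ (S : Subgroup G))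
    (hB : ∀ b ∈ B, b * b = 1) (hB8 : Nat.card B = 8)
    (hno16 : ∀ E : Subgroup G, E ≤ (S : Subgroup G) → (∀ x ∈ E, x * x = 1) → Nat.card E ≠ 16)
    (hnab : ¬ ∀ x ∈ (S : Subgroup G), ∀ y ∈ (S : Subgroup G), x * y = y * x) : False := by
  classical
  haveI : Fact (Nat.Prime 2) := ⟨Nat.prime_two⟩
  have hQ8 : ∀ P, IsEss S P → Nat.card P = 8 → Nonempty (P ≃* QuaternionGroup 2) := fun P hP h8 => by
    rcases Agent.S5186.result 2 S.2 (groupFusionSystem (S : Subgroup G))
      (FusionSys.isSaturated_groupFusionSystem S) P hP (by rw [h8]; norm_num) with he | ⟨ho, -⟩ | ⟨-, he⟩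
    · exact (hP.not_eight_elementary hna h32 h8 fun a ha => by rw [← pow_two]; exact he.2 a ha).elim
    · exact absurd ho (by decide)
    · exact he
  -- a central involution fixed by the normalizer of `S` and the essential subgroups of order 16 is fatal
  have hfinish : ∀ c, c ∈ (S : Subgroup G) → c * c = 1 → c ≠ 1 → (∀ s ∈ (S : Subgroup G), s * c = c * s) →
      (∀ n ∈ normalizer ((S : Subgroup G) : Set G), n * c = c * n) →
      (∀ P, IsEss S P → Nat.card P = 16 → ∀ n ∈ normalizer (P : Set G), n * c = c * n) → False := by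
    intro c hc hc2 hc1 hcc hN h16
    refine false_of_fixed hna S hc (orderOf_two hc2 hc1) hcc hN fun P hP n hn => ?_
    rcases hP.card_cases h32 hBS hB hB8 with h | h
    · obtain ⟨e⟩ := hQ8 P hP h
      exact hP.commute_of_quaternion e hc hc2 hc1 hcc hn
    · exact h16 P hP h n hn
  by_cases hP16 : ∃ P, IsEss S P ∧ Nat.card P = 16
  · obtain ⟨P, hP, hP16⟩ := hP16
    obtain ⟨c, hc⟩ := hP.exists_sqType h32 hP16 hBS hB hB8 hno16
    have hu : ∀ Q : Subgroup G, Q ≤ (S : Subgroup G) → Nat.card Q = 16 → ∀ d, SqType Q d → d = c :=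
      fun Q hQ hQ16 d hd => hP.sqType_unique h32 hP16 hc hQ hQ16 hd
    have hPi : (P.subgroupOf (S : Subgroup G)).index = 2 := by
      have := card_mul_index (P.subgroupOf (S : Subgroup G))
      rw [Nat.card_congr (subgroupOfEquivOfLe hP.le).toEquiv, hP16, h32] at this
      omega
    have hnorm : ∀ (Q : Subgroup G) (g : G), Q ≤ (S : Subgroup G) → Nat.card Q = 16 → SqType Q c →
        (∀ x ∈ Q, g * x * g⁻¹ ∈ (S : Subgroup G)) → g * c = c * g := fun Q g hQ hQ16 hd hg => by
      refine mul_inv_eq_iff_eq_mul.1 (hu (Q.map (MulAut.conj g).toMonoidHom) ?_ ?_ _ (hd.map g))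
      · rintro _ ⟨x, hx, rfl⟩
        exact hg x hx
      · rw [card_map_of_injective (MulAut.conj g).injective, hQ16]
    refine hfinish c (hP.le hc.mem) hc.sq_one hc.ne_one
      (fun s hs => hnorm P s hP.le hP16 hc fun x hx => mul_mem (mul_mem hs (hP.le hx)) (inv_mem hs))
      (fun n hn => hnorm P n hP.le hP16 hc fun x hx => (mem_normalizer_iff.1 hn x).1 (hP.le hx))
      fun Q hQ hQ16 n hn => ?_
    obtain ⟨d, hd⟩ := hQ.exists_sqType h32 hQ16 hBS hB hB8 hno16
    obtain rfl := hu Q hQ.le hQ16 d hd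
    exact hnorm Q n hQ.le hQ16 hd fun x hx => hQ.le ((mem_normalizer_iff.1 hn x).1 hx)
  push Not at hP16
  set D := ⁅(S : Subgroup G), (S : Subgroup G)⁆ with hD
  have hDS : D ≤ (S : Subgroup G) := commutator_le_self _
  have hDne : D ≠ ⊥ := fun e => hnab fun x hx y hy =>
    commutatorElement_eq_one_iff_mul_comm.1 (mem_bot.1 (e ▸ commutator_mem_commutator hx hy))
  have hNDinv : ∀ n ∈ normalizer ((S : Subgroup G) : Set G), ∀ d ∈ D, n * d * n⁻¹ ∈ D := by
    intro n hn d hd
    have h1 : D.map (MulAut.conj n).toMonoidHom = D := by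
      rw [hD, map_commutator, Core.mem_normalizer_iff_map_conj.1 hn]
    exact h1 ▸ ⟨d, hd, rfl⟩
  obtain ⟨c, hcD, hc2, hc1, hcc⟩ := exists_fixed_involution S.2 hDS hDne (fun s hs => by
    refine Core.mem_normalizer_iff_map_conj.2 ?_
    rw [hD, map_commutator, Core.mem_normalizer_iff_map_conj.1 (le_normalizer hs)])
  have hconjc : ∀ n ∈ normalizer ((S : Subgroup G) : Set G), n * c * n⁻¹ * (n * c * n⁻¹) = 1 ∧
      n * c * n⁻¹ ≠ 1 ∧ ∀ s ∈ (S : Subgroup G), s * (n * c * n⁻¹) = n * c * n⁻¹ * s := by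
    intro n hn
    refine ⟨by rw [show n * c * n⁻¹ * (n * c * n⁻¹) = n * (c * c) * n⁻¹ by group, hc2, mul_one,
      mul_inv_cancel], fun e => hc1 (by rwa [mul_inv_eq_one, mul_eq_left] at e), fun s hs => ?_⟩
    have h1 := hcc _ ((mem_normalizer_iff.1 hn (n⁻¹ * s * n)).2 (by simpa [mul_assoc] using hs))
    calc s * (n * c * n⁻¹) = n * (n⁻¹ * s * n * c) * n⁻¹ := by group
      _ = n * (c * (n⁻¹ * s * n)) * n⁻¹ := by rw [h1]
      _ = n * c * n⁻¹ * s := by group
  by_cases hfix : ∀ n ∈ normalizer ((S : Subgroup G) : Set G), n * c = c * n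
  · exact hfinish c (hDS hcD) hc2 hc1 hcc hfix fun P hP h16 => absurd h16 (hP16 P hP)
  push Not at hfix
  obtain ⟨n, hn, hnc⟩ := hfix
  set c' := n * c * n⁻¹ with hc'
  obtain ⟨hc'2, hc'1, hc'c⟩ := hconjc n hn
  have hcne : c ≠ c' := fun e => hnc (mul_inv_eq_iff_eq_mul.1 e.symm)
  -- no essential subgroup at all
  have hnoess : ∀ P, ¬ IsEss S P := fun P hP => by
    rcases hP.card_cases h32 hBS hB hB8 with h | h
    · obtain ⟨e⟩ := hQ8 P hP h
      have hc'D : c' ∈ D := hNDinv n hn c hcD
      refine hcne (hP.eq_of_quaternion e (hDS hc'D) hc'2 hc'1 hc'c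
        (hP.mem_of_commute (hDS hcD) fun x hx => (hcc x (hP.le hx)).symm) hc2 hc1 fun x hx => hcc x (hP.le hx))
    · exact hP16 P hP h
  -- the commutator subgroup is a central four-group
  have hc'D : c' ∈ D := hNDinv n hn c hcD
  have hDcard : Nat.card D ≤ 4 := by
    have hidx : ¬ (commutator (S : Subgroup G)).index ≤ 4 := fun hle => by
      have hd : (commutator (S : Subgroup G)).index ∣ 2 ^ 5 := by
        have := index_dvd_card (commutator (S : Subgroup G))
        rw [h32] at this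
        exact this
      obtain ⟨k, -, hk⟩ := (Nat.dvd_prime_pow Nat.prime_two).1 hd
      rw [hk] at hle
      rcases (show k ≤ 2 by
        by_contra h3
        have := Nat.pow_le_pow_right (n := 2) two_pos (show 3 ≤ k by omega)
        omega : k ≤ 2).lt_or_eq with hk1 | rfl
      · have := PGroup.CentralizerSq.isCyclic_of_index_commutator_le S.2
          (hk ▸ (by interval_cases k <;> norm_num : (2 : ℕ) ^ k ≤ 2))
        exact hnab fun x hx y hy => congrArg Subtype.val
          (mul_comm' (⟨x, hx⟩ : (S : Subgroup G)) ⟨y, hy⟩)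
      · have h32' : Nat.card (S : Subgroup G) = 2 ^ 5 := by rw [h32]; norm_num
        obtain ⟨C, hC, hCi⟩ := TwoGroup.MaximalClass.exists_cyclic_index_two 5 (by norm_num) _ h32'
          (TwoGroup.MaximalClass.class_of_index_four 5 (by norm_num) _ h32' (by rw [hk]; norm_num))
        haveI := normal_of_index_eq_two hCi
        have h1 := relIndex_dvd_index_of_normal C (B.subgroupOf (S : Subgroup G))
        rw [hCi] at h1
        set B' := B.subgroupOf (S : Subgroup G)
        have h2 := card_mul_index (C.subgroupOf B')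
        rw [Nat.card_congr (subgroupOfEquivOfLe hBS).toEquiv, hB8] at h2
        have h3 : (C.subgroupOf B').index ≤ 2 := Nat.le_of_dvd two_pos h1
        haveI := hC
        haveI : IsCyclic ↥(C.subgroupOf B') := by
          exact isCyclic_of_injective ((B'.subtype.comp (C.subgroupOf B').subtype).codRestrict C fun x => x.2)
            fun a b hab => Subtype.ext (Subtype.ext (Subtype.ext (congrArg (fun p : C => ((p : (S : Subgroup G)) : G)) hab)))
        obtain ⟨⟨y, hy⟩, hy'⟩ := IsCyclic.exists_ofOrder_eq_natCard (α := ↥(C.subgroupOf B'))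
        have hy2 : orderOf y ≤ 2 := Nat.le_of_dvd two_pos (orderOf_dvd_of_pow_eq_one
          (by rw [pow_two]; exact Subtype.ext (Subtype.ext (hB _ y.2))))
        rw [orderOf_mk] at hy'
        rw [← hy'] at h2
        nlinarith
    have hmul := card_mul_index (commutator (S : Subgroup G))
    rw [h32] at hmul
    rw [hD, ← map_subtype_commutator, card_map_of_injective (Subgroup.subtype_injective _)]
    have h8 : 8 ≤ (commutator (S : Subgroup G)).index := by
      have hd := index_dvd_card (commutator (S : Subgroup G))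
      rw [h32] at hd
      obtain ⟨k, -, hk⟩ := (Nat.dvd_prime_pow Nat.prime_two).1
        (show (commutator (S : Subgroup G)).index ∣ 2 ^ 5 from hd)
      rw [hk] at hidx ⊢
      rcases Nat.lt_or_ge k 3 with h3 | h3
      · exact absurd (by interval_cases k <;> norm_num) hidx
      · calc 8 = 2 ^ 3 := rfl
          _ ≤ 2 ^ k := Nat.pow_le_pow_right two_pos h3
    nlinarith
  haveI : Fintype D := Fintype.ofFinite _
  have hcases : ∀ d ∈ D, d = 1 ∨ d = c ∨ d = c' ∨ d = c * c' := by
    intro d hd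
    by_contra hcon
    push Not at hcon
    obtain ⟨h1, h2, h3, h4⟩ := hcon
    have e1 : c * c' ≠ 1 := fun e => hcne (by rw [eq_inv_of_mul_eq_one_left e, inv_self hc'2])
    have e2 : c * c' ≠ c := fun e => hc'1 (mul_eq_left.1 e)
    have e3 : c * c' ≠ c' := fun e => hc1 (mul_eq_right.1 e)
    have h5 : ({1, ⟨c, hcD⟩, ⟨c', hc'D⟩, ⟨c * c', mul_mem hcD hc'D⟩, ⟨d, hd⟩} : Finset D).card = 5 := by
      rw [Finset.card_insert_of_notMem, Finset.card_insert_of_notMem, Finset.card_insert_of_notMem,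
        Finset.card_insert_of_notMem, Finset.card_singleton] <;>
        simp only [Finset.mem_insert, Finset.mem_singleton, not_or, Subtype.ext_iff, OneMemClass.coe_one]
      · exact fun e => h4 e.symm
      · exact ⟨fun e => e3 e.symm, fun e => h3 e.symm⟩
      · exact ⟨hcne, fun e => e2 e.symm, fun e => h2 e.symm⟩
      · exact ⟨fun e => hc1 e.symm, fun e => hc'1 e.symm, fun e => e1 e.symm, fun e => h1 e.symm⟩
    have := Finset.card_le_univ
      ({1, ⟨c, hcD⟩, ⟨c', hc'D⟩, ⟨c * c', mul_mem hcD hc'D⟩, ⟨d, hd⟩} : Finset D)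
    rw [h5, ← Nat.card_eq_fintype_card] at this
    omega
  have hDc : ∀ d ∈ D, ∀ s ∈ (S : Subgroup G), s * d = d * s := by
    intro d hd s hs
    rcases hcases d hd with rfl | rfl | rfl | rfl
    · simp
    · exact hcc s hs
    · exact hc'c s hs
    · rw [← mul_assoc, hcc s hs, mul_assoc, hc'c s hs, ← mul_assoc]
  have hD4 : IsFour D := by
    refine ⟨le_antisymm hDcard ?_, fun d hd => ?_⟩
    · have h3 : 3 ≤ Nat.card D := by
        have : ({1, ⟨c, hcD⟩, ⟨c', hc'D⟩} : Finset D).card = 3 := by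
          rw [Finset.card_insert_of_notMem, Finset.card_insert_of_notMem, Finset.card_singleton] <;>
            simp only [Finset.mem_insert, Finset.mem_singleton, not_or, Subtype.ext_iff, OneMemClass.coe_one]
          · exact hcne
          · exact ⟨fun e => hc1 e.symm, fun e => hc'1 e.symm⟩
        rw [← this, Nat.card_eq_fintype_card]
        exact Finset.card_le_univ _
      have hd := card_dvd_of_le hDS
      rw [h32] at hd
      interval_cases hn : Nat.card D <;> omega
    · rcases hcases d hd with rfl | rfl | rfl | rfl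
      · simp
      · exact hc2
      · exact hc'2
      · rw [mul_assoc, ← mul_assoc c' c, hcc c' (hDS hc'D), mul_assoc c c', hc'2, mul_one, hc2]
  obtain ⟨A, hAS, hA16, hAc, hAu⟩ := exists_abelian_index_two S h32 hBS hB hB8 hno16 hnab hD hD4 hDc
  have hAi : A.relIndex (S : Subgroup G) = 2 := by
    have := card_mul_index (A.subgroupOf (S : Subgroup G))
    rw [Nat.card_congr (subgroupOfEquivOfLe hAS).toEquiv, hA16, h32] at this
    show (A.subgroupOf (S : Subgroup G)).index = 2
    omega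
  have hNA : ∀ m ∈ normalizer ((S : Subgroup G) : Set G), ∀ x ∈ (S : Subgroup G),
      (m * x * m⁻¹ ∈ A ↔ x ∈ A) := by
    intro m hm x hx
    have he : A.map (MulAut.conj m).toMonoidHom = A := by
      refine hAu _ ?_ (by rw [card_map_of_injective (MulAut.conj m).injective, hA16]) ?_
      · rintro _ ⟨y, hy, rfl⟩
        exact (mem_normalizer_iff.1 hm y).1 (hAS hy)
      · rintro _ ⟨y, hy, rfl⟩ _ ⟨z, hz, rfl⟩
        rw [← map_mul, ← map_mul, hAc y hy z hz]
    exact ((mem_normalizer_iff.1 (Core.mem_normalizer_iff_map_conj.2 he)) x).symm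
  -- fusion is controlled by the normalizer of `S`
  have hSN : (S : Subgroup G) ≤ normalizer ((S : Subgroup G) : Set G) := le_normalizer
  have hle : groupFusionSystem (S : Subgroup G) ≤
      fusionSystemOfSubgroup (normalizer ((S : Subgroup G) : Set G)) _ hSN := by
    refine FusionSys.le_of_autGroup_le S.2 (FusionSys.isSaturated_groupFusionSystem S) _ fun P hPc => ?_
    obtain rfl : P = (S : Subgroup G) := hPc.resolve_right (hnoess P)
    intro a ha
    rw [FusionSys.autGroup_groupFusionSystem _ le_rfl, FusionSys.mem_autInducedBy] at ha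
    rw [FusionSys.autGroup_ofSubgroup le_rfl, FusionSys.mem_autInducedBy]
    obtain ⟨g, -, hg⟩ := ha
    refine ⟨g, mem_normalizer_iff.2 fun x => ⟨fun hx => hg ⟨x, hx⟩ ▸ (a ⟨x, hx⟩).2, fun hx => ?_⟩, hg⟩
    have h1 := hg (a.symm ⟨_, hx⟩)
    rw [MulEquiv.apply_symm_apply] at h1
    have h2 : x = ((a.symm ⟨_, hx⟩ : (S : Subgroup G)) : G) := mul_left_cancel (mul_right_cancel h1)
    exact h2 ▸ (a.symm ⟨_, hx⟩).2
  have hfoc : Subgroup.focalSubgroup (S : Subgroup G) ≤ A := by
    rw [Subgroup.focalSubgroup_def, closure_le]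
    rintro g ⟨hg, x, hx, v, rfl⟩
    have hvx : v * x⁻¹ * v⁻¹ ∈ (S : Subgroup G) := by
      have := mul_mem (inv_mem hx) hg
      simpa [commutatorElement_def, mul_assoc] using this
    have hφ : (MulAut.conj v).toMonoidHom.comp (zpowers x).subtype ∈
        (groupFusionSystem (S : Subgroup G)).Hom (zpowers x) :=
      ⟨zpowers_le.2 hx, fun y => by
        obtain ⟨i, hi⟩ := mem_zpowers_iff.1 y.2
        show v * (y : G) * v⁻¹ ∈ (S : Subgroup G)
        rw [← hi, ← conj_zpow]
        refine zpow_mem ?_ i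
        have := inv_mem hvx
        simpa [mul_assoc] using this, v, fun y => rfl⟩
    obtain ⟨-, -, m, hm, hme⟩ := hle _ hφ
    have h1 := hme ⟨x, mem_zpowers x⟩
    simp only [MonoidHom.comp_apply, coe_subtype, MulEquiv.coe_toMonoidHom, MulAut.conj_apply] at h1
    have h2 : ⁅x, v⁆ = x * (m * x * m⁻¹)⁻¹ := by rw [← h1, commutatorElement_def]; group
    show ⁅x, v⁆ ∈ A
    rw [h2, mul_mem_iff_two S hAi hx (inv_mem ((mem_normalizer_iff.1 hm x).1 hx)), inv_mem_iff,
      hNA m hm x hx]
  have hcop : Nat.Coprime (S : Subgroup G).index (⁅(S : Subgroup G), (S : Subgroup G)⁆.relIndex S) := by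
    have h2 : ⁅(S : Subgroup G), (S : Subgroup G)⁆.relIndex S ∣ 2 ^ 5 := by
      have := index_dvd_card (⁅(S : Subgroup G), (S : Subgroup G)⁆.subgroupOf (S : Subgroup G))
      rw [h32] at this
      exact this
    exact ((Nat.prime_two.coprime_iff_not_dvd.2 S.not_dvd_index).symm.pow_right 5).coprime_dvd_right h2
  obtain ⟨hf, -⟩ := Agent.S0080.result (S : Subgroup G) hcop
  rw [hf, commutator_eq_top hna, top_inf_eq] at hfoc
  have := card_le_of_le hfoc
  omega

/-- A simple group with a nonabelian Sylow subgroup of order 32 has 2-rank at most two, if the normalizer of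
that subgroup is the subgroup itself or maximal. -/
theorem false_of_rank (hna : ¬ IsMulCommutative G) (S : Sylow 2 G)
    (h32 : Nat.card (S : Subgroup G) = 32) {B : Subgroup G} (hBS : B ≤ (S : Subgroup G))
    (hB : ∀ b ∈ B, b * b = 1) (hB8 : Nat.card B = 8)
    (hnab : ¬ ∀ x ∈ (S : Subgroup G), ∀ y ∈ (S : Subgroup G), x * y = y * x)
    (hN : normalizer ((S : Subgroup G) : Set G) ≠ (S : Subgroup G) →
      IsCoatom (normalizer ((S : Subgroup G) : Set G))) : False := by
  by_cases h : ∃ E : Subgroup G, E ≤ (S : Subgroup G) ∧ (∀ x ∈ E, x * x = 1) ∧ Nat.card E = 16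
  · obtain ⟨E, hES, hE2, hE16⟩ := h
    have hEi : E.relIndex (S : Subgroup G) = 2 := by
      have := card_mul_index (E.subgroupOf (S : Subgroup G))
      rw [Nat.card_congr (subgroupOfEquivOfLe hES).toEquiv, hE16, h32] at this
      show (E.subgroupOf (S : Subgroup G)).index = 2
      omega
    exact false_of_thirty_two hna S hES hE2 hEi hnab hE16 hN
  · exact false_of_rank_three hna S h32 hBS hB hB8 (fun E h1 h2 h3 => h ⟨E, h1, h2, h3⟩) hnab

end Cfsg.Lib.LenSeven
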