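import Cfsg.Agent.Lib.LenSeven.Cent
import Cfsg.Agent.Lib.LenSeven.UThree.Unique
import Cfsg.Agent.Lib.FusionSys.SimpleTwo
import Cfsg.Agent.S1016

/-!
# A wreathed Sylow subgroup of order `32`: `PSU(3, 3)`
-/

set_option autoImplicit false
set_option linter.style.haveILetI false
set_option linter.unusedSectionVars false

namespace Cfsg.Lib.LenSeven

open Cfsg Subgroup LenEight OrderSDW TwoGroup
open scoped MatrixGroups

universe u

/-- The integral solutions of the order equation. -/
theorem arith_w32 {g : ℕ} {X Y : ℤ} (hX0 : X ≠ 0) (hX1 : X + 1 ≠ 0) (hY : Y * (X + 9) = -(X * (X + 1)))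
    (hYo : Odd Y) (h4 : (4 : ℤ) ∣ X - 3) (hg : (g : ℤ) * (X - 3) ^ 2 = 4608 * (X * (X + 1)))
    (h32 : 32 ∣ g) : g = 1440 ∨ g = 3360 ∨ g = 6048 := by
  have hd : X + 9 ∣ 72 := ⟨-Y + (-X + 8), by linear_combination hY⟩
  have hb : (X + 9).natAbs ≤ 72 := Nat.le_of_dvd (by norm_num) (by simpa using Int.natAbs_dvd_natAbs.2 hd)
  obtain ⟨k, hk⟩ := hYo
  obtain ⟨j, rfl⟩ : ∃ j, X = 4 * j + 3 := by
    obtain ⟨j, hj⟩ := h4
    exact ⟨j, by omega⟩
  have hlo : -21 ≤ j := by omega
  have hhi : j ≤ 15 := by omega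
  obtain ⟨m, hm⟩ := h32
  subst hm hk
  push_cast at hg
  revert hd hY hg hX0 hX1
  interval_cases j <;> norm_num <;> intros <;> omega

variable {G : Type u} [Group G] [Fintype G] [Fact (Nat.Prime 2)] [IsSimpleGroup G]

/-- An element of order seven and an involution do not commute in a group of order `3360` here. -/
theorem order_ne (hone : ∀ a b : G, orderOf a = 2 → orderOf b = 2 → IsConj a b) {z : G} (hz : orderOf z = 2)
    (hC : Nat.card (Cen z) = 96) : Nat.card G ≠ 3360 := by
  intro hG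
  classical
  haveI : Fact (Nat.Prime 7) := ⟨by norm_num⟩
  obtain ⟨P⟩ : Nonempty (Sylow 7 G) := inferInstance
  have hP : Nat.card (P : Subgroup G) = 7 := by
    simpa using Cfsg.Lib.Small.card_sylow 1 480 (hG.trans (by norm_num)) (by norm_num) P
  haveI : IsCyclic (P : Subgroup G) := isCyclic_of_prime_card hP
  set N := normalizer ((P : Subgroup G) : Set G) with hN
  have hn : Nat.card (Sylow 7 G) = N.index := P.card_eq_index_normalizer
  have hmul := index_mul_card N
  rw [hG] at hmul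
  have hd : N.index ∣ 480 := by
    have h1 := P.card_dvd_index
    have h2 := card_mul_index (P : Subgroup G)
    rw [hP, hG] at h2
    rw [← hn]
    rwa [show (P : Subgroup G).index = 480 by omega] at h1
  have h4 : 4 ∣ Nat.card N := by
    have h16 : ¬ 16 ∣ N.index := by
      intro h16
      obtain ⟨t, ht⟩ := h16
      have hm := card_sylow_modEq_one 7 G
      rw [hn, ht, Nat.ModEq] at hm
      rw [ht] at hd
      have htd : t ∣ 30 := (Nat.mul_dvd_mul_iff_left (by norm_num : 0 < 16)).1 (by simpa using hd)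
      have := Nat.le_of_dvd (by norm_num) htd
      interval_cases t <;> simp_all
    have h32 : 2 ^ 5 ∣ N.index * Nat.card N := by rw [hmul]; norm_num
    by_contra h4
    refine h16 ?_
    obtain ⟨a, b, hab, hN2⟩ : ∃ a b : ℕ, Nat.card N = 2 ^ a * b ∧ ¬ 2 ∣ b :=
      ⟨(Nat.card N).factorization 2, _, (Nat.ordProj_mul_ordCompl_eq_self _ 2).symm,
        Nat.not_dvd_ordCompl Nat.prime_two Nat.card_pos.ne'⟩
    have ha : a ≤ 1 := by
      by_contra hlt
      exact h4 (hab ▸ Dvd.dvd.mul_right ((pow_dvd_pow 2 (show 2 ≤ a by omega))) b)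
    rw [hab, ← mul_assoc] at h32
    have h32' : 2 ^ 5 ∣ N.index * 2 ^ a :=
      (Nat.Coprime.pow_left 5 ((Nat.prime_two.coprime_iff_not_dvd).2 hN2)).dvd_of_dvd_mul_right h32
    interval_cases a <;> omega
  -- an involution centralizes `P`
  set K := (normalizerMonoidHom (P : Subgroup G)).ker with hK
  have hK2 : 2 ∣ Nat.card K := by
    have h1 := card_mul_index K
    have h2 : K.index ∣ 6 := by
      rw [hK, index_ker]
      refine (card_subgroup_dvd_card _).trans ?_
      rw [IsCyclic.card_mulAut, hP, Nat.totient_prime (by norm_num)]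
    have h3 : 4 ∣ Nat.card K * K.index := h1.symm ▸ h4
    have := Nat.le_of_dvd (by norm_num) h2
    interval_cases h : K.index <;> omega
  obtain ⟨t, ht⟩ := exists_prime_orderOf_dvd_card' 2 hK2
  obtain ⟨a, ha⟩ := exists_prime_orderOf_dvd_card' 7 (show 7 ∣ Nat.card (P : Subgroup G) by rw [hP])
  have hto : orderOf ((t : N) : G) = 2 := by rw [Subgroup.orderOf_coe, Subgroup.orderOf_coe, ht]
  have hta : ((a : (P : Subgroup G)) : G) ∈ Cen ((t : N) : G) := by
    refine mem_centralizer_singleton_iff.2 ?_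
    have htk : (t : N) ∈ (normalizerMonoidHom (P : Subgroup G)).ker := t.2
    rw [normalizerMonoidHom_ker, mem_subgroupOf, mem_centralizer_iff] at htk
    exact htk _ a.2
  have h7 : 7 ∣ Nat.card (Cen ((t : N) : G)) := by
    have := orderOf_dvd_natCard (⟨_, hta⟩ : Cen ((t : N) : G))
    rwa [Subgroup.orderOf_mk, Subgroup.orderOf_coe, ha] at this
  obtain ⟨g, hg⟩ := isConj_iff.1 (hone z _ hz hto)
  have hmap : (Cen ((t : N) : G)).map (MulAut.conj g⁻¹).toMonoidHom ≤ Cen z := by
    rintro _ ⟨y, hy, rfl⟩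
    have hy' : y * ((t : N) : G) = ((t : N) : G) * y := mem_centralizer_singleton_iff.1 hy
    refine mem_centralizer_singleton_iff.2 ?_
    show g⁻¹ * y * g⁻¹⁻¹ * z = z * (g⁻¹ * y * g⁻¹⁻¹)
    rw [inv_inv, show z = g⁻¹ * ((t : N) : G) * g by rw [← hg]; group]
    calc g⁻¹ * y * g * (g⁻¹ * ((t : N) : G) * g) = g⁻¹ * (y * ((t : N) : G)) * g := by group
      _ = g⁻¹ * (((t : N) : G) * y) * g := by rw [hy']
      _ = _ := by group
  have hdvd := card_dvd_of_le hmap
  rw [card_map_of_injective (MulAut.conj g⁻¹).injective] at hdvd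
  have := h7.trans hdvd
  rw [hC] at this
  norm_num at this

theorem w_thirtytwo (hna : ¬ IsMulCommutative G) (hlen : LenLe (⊤ : Subgroup G) 7) (S : Sylow 2 G)
    (hW : IsWreathed (S : Subgroup G)) (h32 : Nat.card (S : Subgroup G) = 32) : Concl G := by
  classical
  obtain ⟨m, ⟨d⟩⟩ := exists_w hW
  obtain rfl : m = 2 := by
    have := d.card
    rw [h32, show (32 : ℕ) = 2 ^ 5 by norm_num] at this
    have := Nat.pow_right_injective le_rfl this
    omega
  set z : G := ((d.e (W.H 2) (W.H 2) : ↥(S : Subgroup G)) : G) with hzdef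
  have hz : orderOf z = 2 := by rw [hzdef, Subgroup.orderOf_coe, d.orderOf_HH]
  have hzS : z ∈ S := (d.e (W.H 2) (W.H 2)).2
  have hzc : ∀ s ∈ (S : Subgroup G), s * z = z * s := fun s hs => by
    have h : d.e (W.H 2) (W.H 2) ∈ center ↥(S : Subgroup G) := by
      rw [d.mem_center_e, sub_self]; exact dvd_zero _
    exact congrArg Subtype.val (mem_center_iff.1 h ⟨s, hs⟩)
  obtain ⟨p, F, iF, iF', iC, n, hp, hp2, hq, hodd, hL⟩ := exists_sl hna S (Or.inr hW) hz
  haveI := Fact.mk hp
  have hodd' : Fintype.card F % 2 = 1 := Nat.odd_iff.1 hodd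
  obtain ⟨hF, hO, hC96, -⟩ := w_shape hna hlen S hW h32 hz hzS hzc hp2 hodd' hL
  -- the four subgroup
  obtain ⟨U₀, hU₀, hU₀n, -, -⟩ := d.four_subgroups
  set U : Subgroup G := U₀.map (S : Subgroup G).subtype with hUdef
  have hU : IsKleinFour U := by
    haveI := hU₀
    exact ⟨by rw [hUdef, card_map_of_injective (Subgroup.subtype_injective _), IsKleinFour.card_four], by
      rw [← Monoid.exponent_eq_of_mulEquiv (U₀.equivMapOfInjective _ (Subgroup.subtype_injective _)),
        IsKleinFour.exponent_two]⟩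
  have hUS : U ≤ (S : Subgroup G) := map_subtype_le _
  have hUn : ∀ s ∈ (S : Subgroup G), ∀ t ∈ U, s * t * s⁻¹ ∈ U := by
    rintro s hs _ ⟨t, ht, rfl⟩
    exact ⟨⟨s, hs⟩ * t * ⟨s, hs⟩⁻¹, hU₀n.conj_mem t ht _, rfl⟩
  have hone : ∀ a b : G, orderOf a = 2 → orderOf b = 2 → IsConj a b := fun a b ha hb =>
    w_isConj_involutions S d hna ha hb
  -- the equations
  obtain ⟨ε, hε, h4, ⟨X, Y, hX0, hX1, hY, hYo, hX4, hEq⟩, kc, hkc, hsize, -⟩ :=
    data_w hna S d hz hzS hzc hUS hU hUn hp2 hq hodd' hL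
  rw [hO, Nat.dvd_one] at hkc
  rw [hF, hO, hkc, hC96] at hsize
  rw [hF] at h4 hY hX4 hEq
  rw [hC96] at hEq
  obtain rfl : ε = 1 := by
    rcases hε with rfl | rfl
    · rfl
    · norm_num at h4
  set c := Nat.card ↥(Subgroup.centralizer (U : Set G)) with hcdef
  have hc : c = 16 := by push_cast at hsize; omega
  rw [hc] at hEq
  push_cast at hY hX4 hEq
  have hG32 : 32 ∣ Nat.card G := h32 ▸ card_subgroup_dvd_card (S : Subgroup G)
  have hg6048 : Nat.card G = 6048 := by
    rcases arith_w32 hX0 hX1 (by linarith [hY] : Y * (X + 9) = -(X * (X + 1))) hYo (by simpa using hX4)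
      (by linarith [hEq]) hG32 with h | h | h
    · exact absurd h Cfsg.Agent.S1016.result
    · exact absurd h (order_ne hone hz hC96)
    · exact h
  -- the local structure
  obtain ⟨L, hLz, hZG, hh, hcZ, hZc, ⟨v, hv, hv4⟩, hin, hne, hker⟩ := local_w S hz hzc d hzS hp2 hL hodd'
  haveI := L.nN
  haveI := L.nZ
  have K := L.cover
  have e : Cen L.z = Cen z := by rw [hLz]
  have hcard : Nat.card (Cen L.z) = 96 := by rw [e, hC96]
  have hker1 : L.f.ker = ⊥ := by
    rw [← card_eq_one, card_ker L hker, hO]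
  have hfinj : Function.Injective L.f := (MonoidHom.ker_eq_bot_iff L.f).1 hker1
  obtain ⟨wC, hwC⟩ := L.surj v
  set w : G := (wC : G) with hw
  have hw4 : orderOf w = 4 := by rw [hw, Subgroup.orderOf_coe, ← orderOf_injective L.f hfinj, hwC, hv4]
  have hwc : ∀ c ∈ Cen z, c * w = w * c := by
    intro c hc
    have h1 : (⟨c, e.ge hc⟩ : Cen L.z) * wC = wC * ⟨c, e.ge hc⟩ := hfinj (by
      rw [map_mul, map_mul, hwC]
      exact mem_center_iff.1 (K.central hv) _)
    exact congrArg Subtype.val h1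
  have hwS : w ∈ (S : Subgroup G) := by
    by_contra hwS
    have hn : w ∈ normalizer ((S : Subgroup G) : Set G) := by
      refine mem_normalizer_iff.2 fun s => ?_
      constructor <;> intro hs
      · have := hwc s (mem_centralizer_singleton_iff.2 (hzc s hs))
        rwa [← this, mul_inv_cancel_right]
      · have h1 := hwc _ (mem_centralizer_singleton_iff.2 (hzc _ hs))
        have : w * s * w⁻¹ = s := by
          have h2 : w * s * w⁻¹ * w = w * (w * s * w⁻¹) := h1
          have h3 : w * s = w * (w * s * w⁻¹) := by rw [← h2]; group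
          exact (mul_left_cancel h3).symm
        rwa [this] at hs
    have hpw : IsPGroup 2 (zpowers w) := IsPGroup.of_card (n := 2) (by rw [Nat.card_zpowers, hw4]; norm_num)
    have hsup := IsPGroup.to_sup_of_normal_right' hpw S.2 (zpowers_le.2 hn)
    exact hwS ((S.3 hsup le_sup_right) ▸ mem_sup_left (mem_zpowers w))
  have hww : w * w = z := by
    have ho : orderOf (w * w) = 2 := by rw [← pow_two, orderOf_pow, hw4]; norm_num
    rw [w_z_eq S d ho (mul_mem hwS hwS) fun s hs => ?_]
    have hc := hwc s (mem_centralizer_singleton_iff.2 (hzc s hs))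
    exact ((show Commute s w from hc).mul_right (show Commute s w from hc)).eq
  -- the normal subgroup of order `24`
  set N₀ : Subgroup (Cen L.z) := L.N.comap L.f with hN₀
  have hN₀c : Nat.card N₀ = 24 := by
    have : Nat.card L.N = 24 := by rw [card_N K, hF]; norm_num
    rw [← this, hN₀, ← card_map_of_injective (f := L.f) hfinj, map_comap_eq_self_of_surjective L.surj]
  have hone1 := L.one_class hZc hin
  have hUz : z ∈ U := w_mem_four S d hz hzS hzc hU hUS hUn
  obtain ⟨b₀, hb₀U, hb₀1, hb₀z⟩ := four_exists_ne hU z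
  have hb₀C : b₀ ∈ Cen z := mem_centralizer_singleton_iff.2 (hzc b₀ (hUS hb₀U))
  have hJ : ∀ {i : G}, i ∈ Cen z → orderOf i = 2 → i ≠ z → i ∈ L.J1 := fun {i} hiC hi hiz =>
    L.mem_J1.2 ⟨⟨Cfsg.Lib.Invol.ne_one hi, Cfsg.Lib.Invol.inv_mul_self hi⟩, e.ge hiC, by rw [hLz]; exact hiz⟩
  have hb₀o : orderOf b₀ = 2 := orderOf_eq_prime (by rw [pow_two, four_mul_self hU hb₀U]) hb₀1
  have H : UThree.Hyp G z := by
    refine ⟨hg6048, inferInstance, hz, hC96, fun i hi => hone z i hz hi, ⟨b₀, hb₀C, hb₀o, hb₀z⟩,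
      ⟨w, hw4, hww, hwc⟩, ?_, ?_, ?_⟩
    · intro b hbC hb hbz a haC ha hcomm
      obtain ⟨t, htC, htb⟩ := hone1 b (hJ hbC hb hbz) b₀ (hJ hb₀C hb₀o hb₀z)
      rw [e] at htC
      have hmem : t * a * t⁻¹ ∈ Subgroup.centralizer (U : Set G) := by
        rw [four_centralizer hU hUz hb₀U (Cfsg.Lib.Invol.ne_one hz) hb₀1 hb₀z]
        refine ⟨Subgroup.mul_mem _ (Subgroup.mul_mem _ htC haC) (Subgroup.inv_mem _ htC), mem_centralizer_singleton_iff.2 ?_⟩
        rw [← htb]
        calc t * a * t⁻¹ * (t * b * t⁻¹) = t * (a * b) * t⁻¹ := by group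
          _ = t * (b * a) * t⁻¹ := by rw [hcomm]
          _ = _ := by group
      have := orderOf_dvd_natCard (⟨_, hmem⟩ : ↥(Subgroup.centralizer (U : Set G)))
      rw [Subgroup.orderOf_mk, ← MulAut.conj_apply, MulEquiv.orderOf_eq, ha, ← hcdef, hc] at this
      norm_num at this
    · refine ⟨N₀.map (Cen L.z).subtype, (map_subtype_le N₀).trans e.le,
        by rw [card_map_of_injective (Subgroup.subtype_injective _), hN₀c], fun M hM => ?_, ?_, ?_⟩
      · let eN : ↥(N₀.map (Cen L.z).subtype) ≃* SL(2, F) :=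
          ((N₀.equivMapOfInjective _ (Subgroup.subtype_injective _)).symm.trans
            ((N₀.equivMapOfInjective L.f hfinj).trans (MulEquiv.subgroupCongr
              (map_comap_eq_self_of_surjective L.surj L.N)))).trans L.e
        refine GW.SL_two_index_ne_two (F := F) (cover_odd K) (M.map eN.toMonoidHom) ?_
        rw [index_map_of_bijective eN.bijective, hM]
      · obtain ⟨nz, hnz, -⟩ := L.zneg
        refine ⟨⟨L.z, mem_centralizer_singleton_iff.2 rfl⟩, ?_, hLz⟩
        show L.f _ ∈ L.N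
        rw [← hnz]
        exact nz.2
      · rintro c hc _ ⟨y, hy, rfl⟩
        haveI : N₀.Normal := L.nN.comap L.f
        exact ⟨⟨c, e.ge hc⟩ * y * ⟨c, e.ge hc⟩⁻¹, this.conj_mem y hy _, rfl⟩
    · intro A hA hA32
      obtain ⟨T, hT⟩ := (IsPGroup.of_card (p := 2) (n := 5) (by rw [hA32]; norm_num) :
        IsPGroup 2 A).exists_le_sylow
      have hAT : A = (T : Subgroup G) := eq_of_le_of_card_ge hT (by
        rw [Nat.card_congr (T.equiv S).toEquiv, h32, hA32])
      exact FusionSys.isPGroup_mulAut_wreathed (d.transport ((S.equiv T).trans (MulEquiv.subgroupCongr hAT.symm)))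
  exact Or.inr (Or.inl (UThree.nonempty_equiv_psu H))

end Cfsg.Lib.LenSeven
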